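import Cfsg.Agent.Lib.Fischer.Twin.Lines

/-!
Classes of the neighbourhood of `x` marked by the common neighbours of `x` and a member `y` not commuting with it.
-/

set_option autoImplicit false
set_option linter.unusedSectionVars false

namespace Cfsg.Agent.Fischer.Twin

variable {G : Type*} [Group G] {D : Set G}

/-- the other members of the line -/
def cls (D : Set G) (x t : G) : Set G := ln D x t \ {x}

theorem cj_cj (g k a : G) : cj (cj g k) (cj g a) = cj g (cj k a) := by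
  simp only [cj]; group

theorem cj_inv_self (g a : G) : cj g⁻¹ (cj g a) = a := by rw [← cj_mul, inv_mul_cancel, cj_one]

theorem cj_self_inv (g a : G) : cj g (cj g⁻¹ a) = a := by rw [← cj_mul, mul_inv_cancel, cj_one]

theorem commute_of_cj {g a : G} (h : cj g a = a) : Commute g a := mul_inv_eq_iff_eq_mul.1 h

namespace Polar

variable (h : Polar D)
include h

theorem mem_com {x y t : G} (ht : t ∈ Hyp.com D x y) : t ∈ nbr D x ∧ Commute t y := ht

theorem self_cls {x t : G} (ht : t ∈ nbr D x) : t ∈ cls D x t := ⟨ln_right ht.1, ht.2.1⟩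

theorem cls_nbr {x t a : G} (hx : x ∈ D) (ht : t ∈ nbr D x) (ha : a ∈ cls D x t) : a ∈ nbr D x :=
  h.ln_nbr hx ht ha.1 ha.2

theorem cls_commute {x t a b : G} (hx : x ∈ D) (ht : t ∈ nbr D x) (ha : a ∈ cls D x t) (hb : b ∈ cls D x t) :
    Commute a b := h.ln_clique hx ht ha.1 hb.1

theorem cj_cls {g x t a : G} (hg : cj g x = x) (ha : a ∈ cls D x t) : cj g a ∈ cls D x (cj g t) := by
  refine ⟨?_, fun e => ha.2 (cj_inj ((show cj g a = x from e).trans hg.symm))⟩
  have := h.cj_ln g ha.1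
  rwa [hg] at this

theorem cj_cls_iff {g x t a : G} (hg : cj g x = x) : cj g a ∈ cls D x (cj g t) ↔ a ∈ cls D x t := by
  refine ⟨fun ha => ?_, h.cj_cls hg⟩
  have := h.cj_cls (g := g⁻¹) (by nth_rw 1 [← hg]; exact cj_inv_self g x) ha
  rwa [cj_inv_self, cj_inv_self] at this

theorem cj_nbr {g x t : G} (hg : cj g x = x) (ht : t ∈ nbr D x) : cj g t ∈ nbr D x := by
  have := (nbr_conj (Spor.class_isGroup h.hyp.cls).2.1 g).2 ht
  rwa [show g * x * g⁻¹ = x from hg] at this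

theorem com_closed {x y t u : G} (ht : t ∈ Hyp.com D x y) (hu : u ∈ Hyp.com D x y) :
    cj t u ∈ Hyp.com D x y :=
  ⟨h.cj_nbr (cj_fix ht.1.2.2.symm) hu.1, by
    rw [← cj_fix ht.2, cj_commute]; exact hu.2⟩

theorem third {t u : G} (ht : t ∈ D) (hu : u ∈ D) (hn : ¬ Commute t u) : cj (cj t u) t = u := by
  rw [h.braid ht hu hn]
  calc cj (cj u t) t = cj u (cj t (cj u t)) := by
        conv_lhs => rw [← h.cj_twice hu t]
        rw [cj_cj, h.cj_twice hu]
    _ = cj u (cj t (cj t u)) := by rw [h.braid ht hu hn]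
    _ = u := by rw [h.cj_twice ht, cj_fix (Commute.refl u)]

variable [Finite G]

theorem cls_eq {x t a : G} (hx : x ∈ D) (ht : t ∈ nbr D x) (ha : a ∈ cls D x t) : cls D x a = cls D x t := by
  rw [cls, cls, h.ln_eq hx ht ha.1 ha.2]

theorem commute_iff_of_cls {x t a e : G} (hx : x ∈ D) (ht : t ∈ nbr D x) (ha : a ∈ cls D x t) (he : e ∈ D)
    (hex : Commute e x) : Commute e a ↔ Commute e t :=
  ⟨fun c => h.ln_all hx ht (ln_left hx) ha.1 (Ne.symm ha.2) (ln_right ht.1) he hex c,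
    fun c => h.ln_all hx ht (ln_left hx) (ln_right ht.1) ht.2.1.symm ha.1 he hex c⟩

section Pair

variable {x y : G} (hx : x ∈ D) (hy : y ∈ D) (hxy : ¬ Commute x y)
include hx hy hxy

theorem com_unique {t a : G} (ht : t ∈ Hyp.com D x y) (ha : a ∈ cls D x t) (hay : Commute a y) : a = t := by
  by_contra hne
  exact hxy (h.ln_all hx ht.1 ha.1 (ln_right ht.1.1) hne (ln_left hx) hy hay.symm ht.2.symm).symm

theorem cls_nc {t u a b : G} (ht : t ∈ Hyp.com D x y) (hu : u ∈ Hyp.com D x y) (htu : ¬ Commute t u)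
    (ha : a ∈ cls D x t) (hb : b ∈ cls D x u) : ¬ Commute a b := fun c => htu (by
  have h1 : Commute b t := (h.commute_iff_of_cls hx ht.1 ha hb.1.1
    (h.cls_nbr hx hu.1 hb).2.2.symm).1 c.symm
  exact (h.commute_iff_of_cls hx hu.1 hb ht.1.1 ht.1.2.2.symm).1 h1.symm)

theorem cls_third {t u a b : G} (ht : t ∈ Hyp.com D x y) (hu : u ∈ Hyp.com D x y) (htu : ¬ Commute t u)
    (ha : a ∈ cls D x t) (hb : b ∈ cls D x u) : cj a b ∈ cls D x (cj t u) := by
  have hax : cj a x = x := cj_fix (h.cls_nbr hx ht.1 ha).2.2.symm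
  have hux : cj u x = x := cj_fix hu.1.2.2.symm
  have h1 : cj a u ∈ cls D x (cj u t) := by
    rw [h.braid ha.1.1 hu.1.1 (h.cls_nc hx hy hxy ht hu htu ha (h.self_cls hu.1))]
    exact h.cj_cls hux ha
  rw [h.braid ht.1.1 hu.1.1 htu, ← h.cls_eq hx (h.cj_nbr hux ht.1) h1]
  exact h.cj_cls hax hb

/-- exactly one member of the second class gives a third member commuting with `y` -/
theorem latin {t u a b : G} (ht : t ∈ Hyp.com D x y) (hu : u ∈ Hyp.com D x y) (htu : ¬ Commute t u)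
    (ha : a ∈ cls D x t) (hb : b ∈ cls D x u) : Commute (cj a b) y ↔ b = cj (cj t u) a := by
  have hn := h.com_closed ht hu
  have han : ¬ Commute a (cj t u) := h.cls_nc hx hy hxy ht hn (h.third_not ht.1.1 htu) ha (h.self_cls hn.1)
  rw [← h.braid ha.1.1 hn.1.1 han]
  constructor
  · intro c
    have e := h.com_unique hx hy hxy hn (h.cls_third hx hy hxy ht hu htu ha hb) c
    rw [← e, h.cj_twice ha.1.1]
  · rintro rfl
    rw [h.cj_twice ha.1.1]; exact hn.2

theorem cls_map {t u a : G} (ht : t ∈ Hyp.com D x y) (hu : u ∈ Hyp.com D x y) (htu : ¬ Commute t u)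
    (ha : a ∈ cls D x t) : cj (cj t u) a ∈ cls D x u := by
  have := h.cj_cls (cj_fix (h.com_closed ht hu).1.2.2.symm) ha
  rwa [h.third ht.1.1 hu.1.1 htu] at this

/-- translations are transitive on each class -/
theorem tau {P Q a : G} (hP : P ∈ Hyp.com D x y) (hQ : Q ∈ Hyp.com D x y) (hPQ : ¬ Commute P Q)
    (ha : a ∈ cls D x P) : cj (Q * cj (cj P Q) a) P = a := by
  have hb := h.cls_map hx hy hxy hP hQ hPQ ha
  have hbP : ¬ Commute (cj (cj P Q) a) P := fun c =>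
    h.cls_nc hx hy hxy hP hQ hPQ (h.self_cls hP.1) hb c.symm
  have e : P * cj P Q = Q * P := by rw [h.cj_eq hP.1.1, ← mul_assoc, ← mul_assoc, h.sq hP.1.1, one_mul]
  rw [cj_mul, h.braid hb.1.1 hP.1.1 hbP, ← cj_mul P, e, cj_mul, h.cj_twice hQ.1.1,
    cj_fix (h.cls_commute hx hP.1 (h.self_cls hP.1) ha)]

/-- a member fixed by the holonomy of a triangle -/
theorem holonomy {P Q R a : G} (hP : P ∈ Hyp.com D x y) (hQ : Q ∈ Hyp.com D x y) (hR : R ∈ Hyp.com D x y)
    (hPQ : ¬ Commute P Q) (hQR : ¬ Commute Q R) (hPR : ¬ Commute P R) (hP2 : ¬ Commute P (cj Q R))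
    (ha : a ∈ cls D x P) (hne : a ≠ P)
    (hfix : cj (cj P R) (cj (cj Q R) (cj (cj P Q) a)) = a) : False := by
  obtain ⟨f, hf⟩ : ∃ f, f = cj (cj P Q) a := ⟨_, rfl⟩
  obtain ⟨r, hr⟩ : ∃ r, r = cj (cj Q R) f := ⟨_, rfl⟩
  rw [← hf, ← hr] at hfix
  have hfQ : f ∈ cls D x Q := hf ▸ h.cls_map hx hy hxy hP hQ hPQ ha
  have hrR : r ∈ cls D x R := hr ▸ h.cls_map hx hy hxy hQ hR hQR hfQ
  have hn1 := h.com_closed hP hQ
  have hn2 := h.com_closed hQ hR
  have hn3 := h.com_closed hP hR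
  have hr' : r = cj (cj P R) a := by rw [← hfix, h.cj_twice hn3.1.1]
  have e1 : cj a f = cj P Q := h.com_unique hx hy hxy hn1 (h.cls_third hx hy hxy hP hQ hPQ ha hfQ)
    ((h.latin hx hy hxy hP hQ hPQ ha hfQ).2 hf)
  have e2 : cj f r = cj Q R := h.com_unique hx hy hxy hn2 (h.cls_third hx hy hxy hQ hR hQR hfQ hrR)
    ((h.latin hx hy hxy hQ hR hQR hfQ hrR).2 hr)
  have e3 : cj a r = cj P R := h.com_unique hx hy hxy hn3 (h.cls_third hx hy hxy hP hR hPR ha hrR)
    ((h.latin hx hy hxy hP hR hPR ha hrR).2 hr')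
  have hc : Commute (cj (cj P R) (cj P Q)) y := by rw [← cj_fix hn3.2, cj_commute]; exact hn1.2
  rw [← e3, ← e1, cj_cj, h.braid hrR.1.1 hfQ.1.1 (fun c => h.cls_nc hx hy hxy hQ hR hQR hfQ hrR c.symm), e2,
    h.braid ha.1.1 hn2.1.1 (h.cls_nc hx hy hxy hP hn2 hP2 ha (h.self_cls hn2.1)),
    h.cj_commute_iff hn2.1.1, cj_fix hn2.2] at hc
  exact hne (h.com_unique hx hy hxy hP ha hc)

end Pair

end Polar

end Cfsg.Agent.Fischer.Twin
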