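import Mathlib

/-!
The field with four elements: squaring, and bijections fixing zero.
-/

set_option autoImplicit false
set_option linter.unusedSectionVars false

namespace Cfsg.Agent.Fischer.Twin.F4

variable {F : Type*} [Field F]

/-- the identity or squaring -/
def pw (p : ZMod 2) (x : F) : F := if p = 0 then x else x ^ 2

theorem pw_cases (p : ZMod 2) : p = 0 ∨ p = 1 := by revert p; decide

@[simp] theorem pw_zero (x : F) : pw 0 x = x := if_pos rfl

theorem pw_one (x : F) : pw 1 x = x ^ 2 := if_neg one_ne_zero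

theorem pw_mul (p : ZMod 2) (x z : F) : pw p (x * z) = pw p x * pw p z := by
  rcases pw_cases p with rfl | rfl
  · simp
  · simp [pw_one, mul_pow]

theorem pw_eq_zero (p : ZMod 2) {x : F} : pw p x = 0 ↔ x = 0 := by
  rcases pw_cases p with rfl | rfl
  · simp
  · simp [pw_one]

variable [Fintype F] (hF : Fintype.card F = 4)
include hF

theorem two_eq_zero : (2 : F) = 0 := by
  have h4 : ((4 : ℕ) : F) = 0 := by rw [← hF]; exact Nat.cast_card_eq_zero F
  have : (2 : F) * 2 = 0 := by norm_num at h4 ⊢; exact h4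
  exact mul_self_eq_zero.1 this

theorem add_self (x : F) : x + x = 0 := by linear_combination x * two_eq_zero hF

theorem eq_of_add {x z : F} (h : x + z = 0) : x = z := by
  linear_combination h - z * two_eq_zero hF

theorem cube {x : F} (hx : x ≠ 0) : x ^ 3 = 1 := by
  have := FiniteField.pow_card_sub_one_eq_one x hx
  rwa [hF] at this

theorem pow_four (x : F) : x ^ 4 = x := by
  have := FiniteField.pow_card x
  rwa [hF] at this

theorem inv_eq {x : F} (hx : x ≠ 0) : x⁻¹ = x ^ 2 :=
  inv_eq_of_mul_eq_one_right (by rw [← pow_succ']; exact cube hF hx)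

theorem sq_add_add {x : F} (h0 : x ≠ 0) (h1 : x ≠ 1) : x ^ 2 + x + 1 = 0 := by
  have h := cube hF h0
  have : (x - 1) * (x ^ 2 + x + 1) = 0 := by linear_combination h
  exact (mul_eq_zero.1 this).resolve_left (sub_ne_zero.2 h1)

theorem sq_eq_add {x : F} (h0 : x ≠ 0) (h1 : x ≠ 1) : x ^ 2 = x + 1 := by
  linear_combination sq_add_add hF h0 h1 - (x + 1) * two_eq_zero hF

theorem sq_add (x z : F) : (x + z) ^ 2 = x ^ 2 + z ^ 2 := by
  linear_combination x * z * two_eq_zero hF

theorem exists_omega : ∃ w : F, w ≠ 0 ∧ w ≠ 1 ∧ w ^ 2 ≠ w ∧ w ^ 2 ≠ 1 ∧ w ^ 2 ≠ 0 := by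
  classical
  obtain ⟨w, -, hw⟩ := Finset.exists_mem_notMem_of_card_lt_card (s := ({0, 1} : Finset F)) (t := Finset.univ)
    (by rw [Finset.card_univ, hF]; exact lt_of_le_of_lt (Finset.card_le_two) (by norm_num))
  simp only [Finset.mem_insert, Finset.mem_singleton, not_or] at hw
  refine ⟨w, hw.1, hw.2, fun e => hw.2 ?_, fun e => hw.2 ?_, pow_ne_zero _ hw.1⟩
  · exact mul_left_cancel₀ hw.1 (by rw [mul_one, ← pow_two]; exact e)
  · have := cube hF hw.1
    rwa [pow_succ, e, one_mul] at this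

/-- the fourth element -/
theorem third {p q r : F} (hp : p ≠ 0) (hq : q ≠ 0) (hpq : p ≠ q) (hr : r ≠ 0) (hrp : r ≠ p) (hrq : r ≠ q) :
    r = p + q := by
  classical
  by_contra hne
  have h1 : p + q ≠ 0 := fun e => hpq (eq_of_add hF e)
  have h2 : p + q ≠ p := fun e => hq (by linear_combination e)
  have h3 : p + q ≠ q := fun e => hp (by linear_combination e)
  have := Finset.card_le_univ ({0, p, q, p + q, r} : Finset F)
  rw [hF, Finset.card_insert_of_notMem (by simp [hp.symm, hq.symm, h1.symm, hr.symm]),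
    Finset.card_insert_of_notMem (by simp [hpq, h2.symm, hrp.symm]),
    Finset.card_insert_of_notMem (by simp [h3.symm, hrq.symm]),
    Finset.card_insert_of_notMem (by rw [Finset.mem_singleton]; exact fun e => hne e.symm),
    Finset.card_singleton] at this
  omega

theorem elems {γ : F} (hγ : γ ≠ 0) {w : F} (hw0 : w ≠ 0) (hw1 : w ≠ 1) (x : F) :
    x = 0 ∨ x = γ ∨ x = γ * w ∨ x = γ * w ^ 2 := by
  by_contra hc
  push Not at hc
  have hne : γ ≠ γ * w := fun e => hw1 (mul_left_cancel₀ hγ (by rw [mul_one, ← e]))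
  have := third hF hγ (mul_ne_zero hγ hw0) hne hc.1 hc.2.1 hc.2.2.1
  exact hc.2.2.2 (by rw [this, sq_eq_add hF hw0 hw1]; ring)

theorem pw_comp (p q : ZMod 2) (x : F) : pw p (pw q x) = pw (p + q) x := by
  rcases pw_cases p with rfl | rfl <;> rcases pw_cases q with rfl | rfl <;> simp [pw_one]
  rw [show (1 + 1 : ZMod 2) = 0 from by decide, pw_zero, ← pow_mul]
  exact pow_four hF x

theorem pw_injective (p : ZMod 2) : Function.Injective (pw p : F → F) := fun x z e => by
  have := congrArg (pw p) e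
  rwa [pw_comp hF, pw_comp hF, show p + p = 0 from by rcases pw_cases p with rfl | rfl <;> decide, pw_zero, pw_zero] at this

theorem pw_unique {γ γ' : F} {p q : ZMod 2} (hγ : γ ≠ 0) (h : ∀ x, γ * pw p x = γ' * pw q x) :
    p = q ∧ γ = γ' := by
  have h1 := h 1
  have e : ∀ r : ZMod 2, pw r (1 : F) = 1 := fun r => by
    rcases pw_cases r with rfl | rfl <;> simp [pw_one]
  rw [e, e, mul_one, mul_one] at h1
  obtain ⟨w, hw0, hw1, hww, -, -⟩ := exists_omega hF
  have h2 := h w
  rw [← h1] at h2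
  have h3 := mul_left_cancel₀ hγ h2
  refine ⟨?_, h1⟩
  rcases pw_cases p with rfl | rfl <;> rcases pw_cases q with rfl | rfl <;> simp [pw_one] at h3 ⊢
  · exact absurd h3.symm hww
  · exact absurd h3 hww

/-- a bijection fixing zero is semilinear -/
theorem semilinear (π : F → F) (hinj : Function.Injective π) (h0 : π 0 = 0) :
    ∃ p : ZMod 2, ∃ γ : F, γ ≠ 0 ∧ ∀ x, π x = γ * pw p x := by
  obtain ⟨w, hw0, hw1, hww, hw21, hw20⟩ := exists_omega hF
  have hγ : π 1 ≠ 0 := fun e => one_ne_zero (hinj (e.trans h0.symm))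
  have hne : π (w ^ 2) ≠ π w := fun e => hww (hinj e)
  have hx : ∀ x, x = 0 ∨ x = 1 ∨ x = w ∨ x = w ^ 2 := fun x => by
    simpa using elems hF (one_ne_zero (α := F)) hw0 hw1 x
  have e1 : ∀ {z}, z ≠ 0 → z ≠ 1 → π z = π 1 * w ∨ π z = π 1 * w ^ 2 := fun {z} hz0 hz1 => by
    rcases elems hF hγ hw0 hw1 (π z) with e | e | e | e
    · exact absurd (hinj (e.trans h0.symm)) hz0
    · exact absurd (hinj e) hz1
    · exact Or.inl e
    · exact Or.inr e
  rcases e1 hw0 hw1 with e | e
  · refine ⟨0, π 1, hγ, fun x => ?_⟩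
    have e' := (e1 hw20 hw21).resolve_left fun e' => hne (e'.trans e.symm)
    rcases hx x with rfl | rfl | rfl | rfl <;> simp [h0, e, e']
  · refine ⟨1, π 1, hγ, fun x => ?_⟩
    have e' := (e1 hw20 hw21).resolve_right fun e' => hne (e'.trans e.symm)
    rcases hx x with rfl | rfl | rfl | rfl
    · simp [h0, pw_one]
    · simp [pw_one]
    · rw [e, pw_one]
    · rw [e', pw_one, ← pow_mul, pow_four hF]

theorem exists_bij {α : Type*} {s : Set α} (hs : s.ncard = 4) {t : α} (ht : t ∈ s) :
    ∃ c : α → F, Set.BijOn c s Set.univ ∧ c t = 0 := by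
  classical
  haveI : Fintype s := (Set.finite_of_ncard_ne_zero (by omega)).fintype
  have hcard : Fintype.card s = Fintype.card F := by
    rw [hF, ← hs, ← Nat.card_coe_set_eq, Nat.card_eq_fintype_card]
  let e := Fintype.equivOfCardEq hcard
  let e' : s ≃ F := e.trans (Equiv.swap (e ⟨t, ht⟩) 0)
  refine ⟨fun a => if h : a ∈ s then e' ⟨a, h⟩ else 0, ⟨fun _ _ => Set.mem_univ _, ?_, ?_⟩, by simp [ht, e']⟩
  · intro a ha b hb hab
    simp only [dif_pos ha, dif_pos hb] at hab
    exact congrArg Subtype.val (e'.injective hab)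
  · intro z _
    refine ⟨(e'.symm z : α), (e'.symm z).2, ?_⟩
    simp only [dif_pos (e'.symm z).2, Subtype.coe_eta, Equiv.apply_symm_apply]

end Cfsg.Agent.Fischer.Twin.F4
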