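import Cfsg.Agent.Lib.Fischer.Twin.Width

/-!
Counting the members outside `x` by their sections on three classes: lines have at most five members.
-/

set_option autoImplicit false
set_option linter.unusedSectionVars false

namespace Cfsg.Agent.Fischer.Twin

variable {G : Type*} [Group G] {D : Set G}

/-- a member of a 2-group central modulo a proper normal subgroup -/
theorem exists_central_mod [Finite G] {A : Subgroup G} (hA : IsPGroup 2 A) (N : Subgroup A) [N.Normal]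
    (hN : N ≠ ⊤) : ∃ g : A, g ∉ N ∧ ∀ k : A, (k * g)⁻¹ * (g * k) ∈ N := by
  haveI : Fact (Nat.Prime 2) := ⟨Nat.prime_two⟩
  obtain ⟨f, -, hf⟩ := SetLike.exists_of_lt (lt_top_iff_ne_top.2 hN)
  haveI : Nontrivial (A ⧸ N) := ⟨QuotientGroup.mk f, 1, fun e => hf ((QuotientGroup.eq_one_iff _).1 e)⟩
  haveI := (hA.to_quotient N).center_nontrivial
  obtain ⟨⟨q, hq⟩, hq1⟩ := exists_ne (1 : Subgroup.center (A ⧸ N))
  obtain ⟨g, rfl⟩ := QuotientGroup.mk_surjective q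
  refine ⟨g, fun e => hq1 (Subtype.ext ((QuotientGroup.eq_one_iff _).2 e)), fun k => ?_⟩
  have e := (Subgroup.mem_center_iff.1 hq) (QuotientGroup.mk k)
  rwa [← QuotientGroup.mk_mul, ← QuotientGroup.mk_mul, QuotientGroup.eq] at e

namespace Polar

variable (h : Polar D)
include h

variable [Finite G]

theorem cls_ncard {x t c u : G} (hx : x ∈ D) (ht : t ∈ nbr D x) (hc : c ∈ D) (hu : u ∈ nbr D c) :
    (cls D x t).ncard = (cls D c u).ncard := by
  rw [cls, cls, Set.ncard_sdiff_singleton_of_mem (ln_left hx), Set.ncard_sdiff_singleton_of_mem (ln_left hc),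
    h.ln_ncard hx ht hc hu]

/-- products of two members of a class lie in the normal 2-subgroup of the local group -/
theorem tw_le_core {x Q : G} (hx : x ∈ D) (hQ : Q ∈ nbr D x) :
    tw D x Q ≤ (Cfsg.pCore 2 ↥(Subgroup.closure (nbr D x))).map (Subgroup.closure (nbr D x)).subtype := by
  set H := Subgroup.closure (nbr D x) with hH
  set E : Set ↥H := {v | (v : G) ∈ nbr D x} with hE
  have hEgrp : Cfsg.IsThreeTranspositionGroup E := by
    refine ⟨⟨fun v hv => (Subgroup.orderOf_coe v).symm.trans (h.hyp.cls.1.1 _ hv.1),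
      fun v hv v' hv' => (h.hyp.cls.1.2 _ hv.1 _ hv'.1).imp (fun e' => Subtype.ext e') fun e' => Subtype.ext e'⟩,
      fun g v hv => ?_, Subgroup.closure_closure_coe_preimage⟩
    exact h.cj_nbr (cj_fix (Subgroup.mem_centralizer_singleton_iff.1 (Hyp.closure_nbr_le x g.2))) hv
  rw [tw, Subgroup.closure_le]
  rintro _ ⟨b, hb, rfl⟩
  have hbn := h.cls_nbr hx hQ hb
  refine ⟨⟨Q, Subgroup.subset_closure hQ⟩ * ⟨b, Subgroup.subset_closure hbn⟩,
    Spor.SameV.mul_mem_core hEgrp hQ hbn fun e he => ?_, rfl⟩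
  have := h.commute_iff_of_cls hx hQ hb (show (e : G) ∈ D from he.1) (show Commute (e : G) x from he.2.2.symm)
  constructor
  · intro c
    exact Subtype.ext ((this.2 (congrArg Subtype.val c.eq.symm : (e : G) * Q = Q * e)).symm.eq)
  · intro c
    exact Subtype.ext ((this.1 (congrArg Subtype.val c.eq.symm : (e : G) * b = b * e)).symm.eq)

section Pair

variable {x y : G} (hx : x ∈ D) (hy : y ∈ D) (hxy : ¬ Commute x y)
include hx hy hxy

theorem tau_self {P Q k : G} (hP : P ∈ Hyp.com D x y) (hQ : Q ∈ Hyp.com D x y) (hPQ : ¬ Commute P Q)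
    (hk : k ∈ cls D x P) : cj (P * k) Q = cj (cj P Q) k := by
  rw [cj_mul, h.braid hk.1.1 hQ.1.1 (h.cls_nc hx hy hxy hP hQ hPQ hk (h.self_cls hQ.1))]
  conv_rhs => rw [← cj_fix (h.cls_commute hx hP.1 (h.self_cls hP.1) hk), cj_cj]

theorem tw_normalizes {P Q : G} (hP : P ∈ Hyp.com D x y) (hQ : Q ∈ Hyp.com D x y) (hPQ : ¬ Commute P Q) :
    tw D x Q ≤ Subgroup.normalizer (cls D x P) := fun f hf => by
  rw [Subgroup.mem_set_normalizer_iff]
  intro n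
  refine ⟨fun hn => h.tw_cls hx hy hxy hP hQ hPQ hf n hn, fun hn => ?_⟩
  have := h.tw_cls hx hy hxy hP hQ hPQ hf _ hn
  rwa [show f * n * f⁻¹ = cj f n from rfl, ← cj_mul, h.tw_sq hx hQ.1 hf, cj_one] at this

theorem tw_normalizes_self {Q : G} (hQ : Q ∈ Hyp.com D x y) :
    tw D x Q ≤ Subgroup.normalizer (cls D x Q) := fun f hf => by
  rw [Subgroup.mem_set_normalizer_iff]
  intro n
  show n ∈ cls D x Q ↔ cj f n ∈ cls D x Q
  refine ⟨fun hn => by rwa [cj_fix (h.tw_fix hx hQ.1 hf (Or.inr hn))], fun hn => ?_⟩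
  rwa [← cj_inv_self f n, cj_fix (h.tw_fix hx hQ.1 hf (Or.inr hn)).inv_left]

end Pair

end Polar

namespace Thin

variable {x y : G} {T : Set G} (hT : Thin D x y T) (h : Polar D) [Finite G]
include hT h

theorem fibre {Y : Set G} (hyY : y ∈ Y) (hYc : ∀ t ∈ T, ∀ a ∈ cls D x t, ∀ d ∈ Y, cj a d ∈ Y)
    (hYx : ∀ d ∈ Y, cj x d ∈ Y) (hYn : ∀ d ∈ Y, ¬ Commute x d) (h3 : 3 < T.ncard) :
    ∃ P ∈ T, 4 ≤ (cls D x P).ncard ∧
      (5 ≤ (cls D x P).ncard → 10 * ((cls D x P).ncard * (cls D x P).ncard) ≤ Y.ncard) := by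
  obtain ⟨P, hP⟩ := Set.nonempty_of_ncard_ne_zero (show T.ncard ≠ 0 by omega)
  obtain ⟨Q, hQ, hQP⟩ : ∃ Q ∈ T, Q ≠ P := by
    by_contra hc
    push Not at hc
    have := Set.ncard_le_ncard (show T ⊆ {P} from fun q hq => hc q hq) (Set.toFinite _)
    rw [Set.ncard_singleton] at this
    omega
  obtain ⟨R, t⟩ := hT.exists_tri h hP hQ hQP.symm h3
  have hR := t.hR
  refine ⟨P, hP, ?_⟩
  have hPc := hT.sub hP
  have hQc := hT.sub hQ
  have hRc := hT.sub hR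
  have nPQ := hT.nc h hP hQ t.pq
  have nPR := hT.nc h hP hR t.pr
  have nQR := hT.nc h hQ hR t.qr
  have hx := hT.hx
  have hy := hT.hy
  have hxy := hT.hxy
  obtain ⟨c, hc⟩ : ∃ c, c = cm (P * Q) (P * R) := ⟨_, rfl⟩
  have hcp := hT.cm_props h hP hQ hR
  rw [← hc] at hcp
  have hcx : cj c x = x := hc ▸ hT.cm_cj_x h hP hQ hR
  have hfpf : ∀ {a}, a ∈ cls D x P → cj c a = a → a = P := fun {a} ha e => hT.fpf h t ha (hc ▸ e)
  have hc3 : c * c * c = 1 := by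
    have := hcp.2
    rwa [pow_succ, pow_two] at this
  have hci : c⁻¹ = c * c := inv_eq_of_mul_eq_one_right (by rwa [← mul_assoc])
  have hcP : ∀ {a}, a ∈ cls D x P → cj c a ∈ cls D x P := fun {a} ha => by
    have := h.cj_cls hcx ha
    rwa [cj_fix hcp.1.1] at this
  have hciP : ∀ {a}, a ∈ cls D x P → cj c⁻¹ a ∈ cls D x P := fun {a} ha => by
    rw [hci, cj_mul]; exact hcP (hcP ha)
  obtain ⟨A, hA⟩ : ∃ A, A = tw D x Q ⊔ tw D x R := ⟨_, rfl⟩
  have hQA : tw D x Q ≤ A := hA ▸ le_sup_left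
  have hAn : A ≤ Subgroup.normalizer (cls D x P) :=
    hA ▸ sup_le (h.tw_normalizes hx hy hxy hPc hQc nPQ) (h.tw_normalizes hx hy hxy hPc hRc nPR)
  have hAc : ∀ g ∈ A, ∀ a ∈ cls D x P, cj g a ∈ cls D x P := fun g hg a ha =>
    (Subgroup.mem_set_normalizer_iff.1 (hAn hg) a).1 ha
  haveI : Fact (Nat.Prime 2) := ⟨Nat.prime_two⟩
  have hA2 : IsPGroup 2 A := ((Solv.pCore_isPGroup 2).map _).to_le
    (hA ▸ sup_le (h.tw_le_core hx hQc.1) (h.tw_le_core hx hRc.1))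
  have hAconj : ∀ g ∈ A, cj c g ∈ A := by
    intro g hg
    have hle : A ≤ A.comap (MulAut.conj c).toMonoidHom := by
      conv_lhs => rw [hA]
      exact sup_le (fun f hf => hA ▸ Subgroup.mem_sup_left (h.tw_conj hcx (cj_fix hcp.1.2.1) hf))
        (fun f hf => hA ▸ Subgroup.mem_sup_right (h.tw_conj hcx (cj_fix hcp.1.2.2) hf))
    exact hle hg
  obtain ⟨Cz, hCz⟩ : ∃ Cz : G → Prop, ∀ g, Cz g ↔
      g ∈ A ∧ ∀ k ∈ A, ∀ a ∈ cls D x P, cj g (cj k a) = cj k (cj g a) := ⟨_, fun _ => Iff.rfl⟩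
  have hP' := h.self_cls hPc.1
  have hagree : ∀ {g f}, Cz g → f ∈ tw D x Q → cj f P = cj g P → ∀ a ∈ cls D x P, cj g a = cj f a := by
    intro g f hg hf e a ha
    obtain ⟨k, hk, rfl⟩ := h.tw_trans hx hy hxy hPc hQc nPQ ha
    rw [((hCz g).1 hg).2 k (hQA hk) P hP', ← e, ← cj_mul, ← cj_mul, (h.tw_comm hx hQc.1 hk hf).eq]
  have htriv : ∀ {g}, Cz g → cj g P = P → ∀ a ∈ cls D x P, cj g a = a := fun {g} hg e a ha => by
    rw [hagree hg (one_mem _) (by rw [cj_one, e]) a ha, cj_one]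
  have hinvol : ∀ {g}, Cz g → ∀ a ∈ cls D x P, cj g (cj g a) = a := by
    intro g hg a ha
    obtain ⟨f, hf, hfP⟩ := h.tw_trans hx hy hxy hPc hQc nPQ (hAc g ((hCz g).1 hg).1 P hP')
    rw [hagree hg hf hfP _ (hAc g ((hCz g).1 hg).1 a ha), hagree hg hf hfP a ha, ← cj_mul,
      h.tw_sq hx hQc.1 hf, cj_one]
  have hmulC : ∀ {g g'}, Cz g → Cz g' → Cz (g * g') := by
    intro g g' hg hg'
    rw [hCz] at hg hg' ⊢
    refine ⟨mul_mem hg.1 hg'.1, fun k hk a ha => ?_⟩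
    rw [cj_mul, cj_mul, hg'.2 k hk a ha, hg.2 k hk _ (hAc g' hg'.1 a ha)]
  have hcC : ∀ {g}, Cz g → Cz (cj c g) := by
    intro g hg
    rw [hCz] at hg ⊢
    refine ⟨hAconj g hg.1, fun k hk a ha => ?_⟩
    have hk' : cj c⁻¹ k ∈ A := by rw [hci, cj_mul]; exact hAconj _ (hAconj _ hk)
    have := congrArg (cj c) (hg.2 _ hk' _ (hciP ha))
    rwa [← cj_cj c g, ← cj_cj c (cj c⁻¹ k), ← cj_cj c (cj c⁻¹ k), ← cj_cj c g, cj_self_inv, cj_self_inv]
      at this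
  have hcP1 : cj c P = P := cj_fix hcp.1.1
  have hcc : ∀ a, cj c (cj c (cj c a)) = a := fun a => by rw [← cj_mul, ← cj_mul, hc3, cj_one]
  -- the sum of the three conjugates is trivial
  have hnorm : ∀ {g}, Cz g → cj g (cj (cj c g) (cj (cj c (cj c g)) P)) = P := by
    intro g hg
    have g1 := hcC hg
    have g2 := hcC g1
    have hm := hAc g ((hCz g).1 hg).1 _ (hAc _ ((hCz _).1 g1).1 _ (hAc _ ((hCz _).1 g2).1 P hP'))
    refine hfpf hm ?_
    rw [← cj_cj c g, ← cj_cj c (cj c g), ← cj_cj c (cj c (cj c g)), hcP1, hcc g,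
      ← ((hCz g).1 hg).2 _ ((hCz _).1 g2).1 P hP',
      ← ((hCz g).1 hg).2 _ ((hCz _).1 g1).1 _ (hAc _ ((hCz _).1 g2).1 P hP')]
  obtain ⟨Zs, hZs⟩ : ∃ Zs : Set G, ∀ a, a ∈ Zs ↔ ∃ g, Cz g ∧ cj g P = a :=
    ⟨{a | ∃ g, Cz g ∧ cj g P = a}, fun _ => Iff.rfl⟩
  obtain ⟨g0, hg0, hg0P⟩ : ∃ g, Cz g ∧ cj g P ≠ P := by
    let N : Subgroup A := (Subgroup.centralizer (cls D x P)).subgroupOf A
    haveI : N.Normal := ⟨fun n hn g => by
      simp only [N, Subgroup.mem_subgroupOf, Subgroup.mem_centralizer_iff, Subgroup.coe_mul,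
        Subgroup.coe_inv] at hn ⊢
      intro a ha
      have hb : cj (g : G)⁻¹ a ∈ cls D x P := hAc _ (inv_mem g.2) a ha
      have e : cj ((g : G) * n * (g : G)⁻¹) a = a := by
        rw [cj_mul, cj_mul, cj_fix (hn _ hb).symm, cj_self_inv]
      exact (commute_of_cj e).eq.symm⟩
    obtain ⟨b, hb, hbne⟩ := h.exists_other hx hPc.1
    obtain ⟨f, hf, hfb⟩ := h.tw_trans hx hy hxy hPc hQc nPQ hb
    obtain ⟨⟨g, hgA⟩, hgN, hgc⟩ := exists_central_mod hA2 N fun e => hbne (by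
      rw [← hfb]
      have hfN : (⟨f, hQA hf⟩ : A) ∈ N := e ▸ Subgroup.mem_top _
      exact cj_fix (Subgroup.mem_centralizer_iff.1 hfN P hP').symm)
    have hCg : Cz g := (hCz g).2 ⟨hgA, fun k hk a ha => by
      have e2 : cj ((k * g)⁻¹ * (g * k)) a = a :=
        cj_fix (Subgroup.mem_centralizer_iff.1 (hgc ⟨k, hk⟩) a ha).symm
      rw [← cj_mul, ← cj_mul]
      conv_rhs => rw [← e2, ← cj_mul, mul_inv_cancel_left]⟩
    refine ⟨g, hCg, fun e => hgN ?_⟩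
    exact Subgroup.mem_centralizer_iff.2 fun a ha => (commute_of_cj (htriv hCg e a ha)).eq.symm
  have hZ4 : 4 ≤ Zs.ncard := by
    obtain ⟨k, hk⟩ : ∃ k, k = cj g0 P := ⟨_, rfl⟩
    have hkc : k ∈ cls D x P := hk ▸ hAc g0 ((hCz g0).1 hg0).1 P hP'
    have hkP : k ≠ P := hk ▸ hg0P
    have h1 : cj c k ≠ k := fun e => hkP (hfpf hkc e)
    have h2 : cj c (cj c k) ≠ cj c k := fun e => h1 (cj_inj e)
    have h3' : cj c (cj c k) ≠ k := fun e => h1 (by conv_lhs => rw [← e, hcc k])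
    have h4 : cj c k ≠ P := fun e => hkP (cj_inj (e.trans hcP1.symm))
    have h5 : cj c (cj c k) ≠ P := fun e => h4 (cj_inj (e.trans hcP1.symm))
    have hsub : ({P, k, cj c k, cj c (cj c k)} : Set G) ⊆ Zs := by
      rintro a (rfl | rfl | rfl | rfl) <;> rw [hZs]
      · exact ⟨1, (hCz 1).2 ⟨one_mem _, fun k _ a _ => by rw [cj_one, cj_one]⟩, cj_one _⟩
      · exact ⟨g0, hg0, hk.symm⟩
      · exact ⟨_, hcC hg0, by conv_lhs => rw [← hcP1, cj_cj, ← hk]⟩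
      · exact ⟨_, hcC (hcC hg0), by conv_lhs => rw [← hcP1, cj_cj, ← hcP1, cj_cj, ← hk]⟩
    refine le_trans (le_of_eq ?_) (Set.ncard_le_ncard hsub (Set.toFinite _))
    rw [Set.ncard_insert_of_notMem (by simp [hkP.symm, h4.symm, h5.symm]) (Set.toFinite _),
      Set.ncard_insert_of_notMem (by simp [h1.symm, h3'.symm]) (Set.toFinite _), Set.ncard_pair h2.symm]
  have hZc : Zs ⊆ cls D x P := fun a ha => by
    obtain ⟨g, hg, rfl⟩ := (hZs a).1 ha
    exact hAc g ((hCz g).1 hg).1 P hP'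
  obtain ⟨s, hs⟩ : ∃ s, s = (cls D x P).ncard := ⟨_, rfl⟩
  have hs4 : 4 ≤ s := hs ▸ hZ4.trans (Set.ncard_le_ncard hZc (Set.toFinite _))
  refine ⟨hs ▸ hs4, fun h5 => ?_⟩
  rw [← hs] at h5 ⊢
  -- the group of translations of the three classes
  obtain ⟨B, hB⟩ : ∃ B, B = tw D x P ⊔ tw D x Q ⊔ tw D x R := ⟨_, rfl⟩
  have hPB : tw D x P ≤ B := hB ▸ le_sup_left.trans le_sup_left
  have hQB : tw D x Q ≤ B := hB ▸ le_sup_right.trans le_sup_left
  have hRB : tw D x R ≤ B := hB ▸ le_sup_right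
  have hBx : ∀ g ∈ B, cj g x = x := by
    have tc : ∀ {t}, t ∈ nbr D x → tw D x t ≤ Subgroup.centralizer {x} := fun {t} ht f hf =>
      Subgroup.mem_centralizer_singleton_iff.2 (h.tw_fix hx ht hf (Set.mem_insert _ _))
    have hle : B ≤ Subgroup.centralizer {x} := hB ▸ sup_le (sup_le (tc hPc.1) (tc hQc.1)) (tc hRc.1)
    exact fun g hg => cj_fix (Subgroup.mem_centralizer_singleton_iff.1 (hle hg))
  have hBcls : ∀ g ∈ B, (∀ a ∈ cls D x P, cj g a ∈ cls D x P) ∧ (∀ a ∈ cls D x Q, cj g a ∈ cls D x Q) ∧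
      ∀ a ∈ cls D x R, cj g a ∈ cls D x R := by
    intro g hg
    have nQP : ¬ Commute Q P := fun c => nPQ c.symm
    have nRP : ¬ Commute R P := fun c => nPR c.symm
    have nRQ : ¬ Commute R Q := fun c => nQR c.symm
    have h1 : B ≤ Subgroup.normalizer (cls D x P) := hB ▸ sup_le (sup_le
      (h.tw_normalizes_self hx hy hxy hPc) (h.tw_normalizes hx hy hxy hPc hQc nPQ))
      (h.tw_normalizes hx hy hxy hPc hRc nPR)
    have h2 : B ≤ Subgroup.normalizer (cls D x Q) := hB ▸ sup_le (sup_le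
      (h.tw_normalizes hx hy hxy hQc hPc nQP) (h.tw_normalizes_self hx hy hxy hQc))
      (h.tw_normalizes hx hy hxy hQc hRc nQR)
    have h3 : B ≤ Subgroup.normalizer (cls D x R) := hB ▸ sup_le (sup_le
      (h.tw_normalizes hx hy hxy hRc hPc nRP) (h.tw_normalizes hx hy hxy hRc hQc nRQ))
      (h.tw_normalizes_self hx hy hxy hRc)
    exact ⟨fun a ha => (Subgroup.mem_set_normalizer_iff.1 (h1 hg) a).1 ha,
      fun a ha => (Subgroup.mem_set_normalizer_iff.1 (h2 hg) a).1 ha,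
      fun a ha => (Subgroup.mem_set_normalizer_iff.1 (h3 hg) a).1 ha⟩
  have hBY : ∀ g ∈ B, cj g y ∈ Y := by
    have hgen : ∀ {t}, t ∈ T → tw D x t ≤ Subgroup.normalizer Y := fun {t} ht => by
      rw [tw, Subgroup.closure_le]
      rintro _ ⟨b, hb, rfl⟩
      rw [SetLike.mem_coe, Subgroup.mem_set_normalizer_iff]
      intro n
      show n ∈ Y ↔ cj (t * b) n ∈ Y
      rw [cj_mul]
      refine ⟨fun hn => hYc t ht t (h.self_cls (hT.sub ht).1) _ (hYc t ht b hb n hn), fun hn => ?_⟩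
      have := hYc t ht b hb _ (hYc t ht t (h.self_cls (hT.sub ht).1) _ hn)
      rwa [h.cj_twice (hT.sub ht).1.1, h.cj_twice hb.1.1] at this
    have hle : B ≤ Subgroup.normalizer Y := hB ▸ sup_le (sup_le (hgen hP) (hgen hQ)) (hgen hR)
    exact fun g hg => (Subgroup.mem_set_normalizer_iff.1 (hle hg) y).1 hyY
  obtain ⟨Ψ, hΨ⟩ : ∃ Ψ : Set G, ∀ a, a ∈ Ψ ↔ ∃ g ∈ B, cj g Q = Q ∧ cj g R = R ∧ cj g P = a :=
    ⟨{a | ∃ g ∈ B, cj g Q = Q ∧ cj g R = R ∧ cj g P = a}, fun _ => Iff.rfl⟩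
  -- the three steps
  have hstep : ∀ k ∈ cls D x P, ∃ f3 ∈ tw D x Q, cj f3 P = cj c⁻¹ k ∧ cj f3 (cj c k) ∈ Ψ := by
    intro k hk
    have hn1 := h.cls_map hx hy hxy hPc hQc nPQ hk
    have hn3 := h.cls_map hx hy hxy hPc hRc nPR hk
    obtain ⟨b1, hb1⟩ : ∃ b, b = cj (cj P Q) k := ⟨_, rfl⟩
    obtain ⟨c1, hc1⟩ : ∃ b, b = cj (cj P R) k := ⟨_, rfl⟩
    rw [← hb1] at hn1
    rw [← hc1] at hn3
    obtain ⟨β, hβ⟩ : ∃ b, b = cj (cj Q R) b1 := ⟨_, rfl⟩
    obtain ⟨γ, hγ⟩ : ∃ b, b = cj (cj R Q) c1 := ⟨_, rfl⟩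
    have nRQ : ¬ Commute R Q := fun c => nQR c.symm
    have hβR : β ∈ cls D x R := hβ ▸ h.cls_map hx hy hxy hQc hRc nQR hn1
    have hγQ : γ ∈ cls D x Q := hγ ▸ h.cls_map hx hy hxy hRc hQc nRQ hn3
    have f1m : P * k ∈ tw D x P := Subgroup.subset_closure ⟨k, hk, rfl⟩
    have f2m : R * β ∈ tw D x R := Subgroup.subset_closure ⟨β, hβR, rfl⟩
    have f3m : Q * γ ∈ tw D x Q := Subgroup.subset_closure ⟨γ, hγQ, rfl⟩
    have hkk : cj P k = k := cj_fix (h.cls_commute hx hPc.1 hP' hk)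
    have e2Q : cj (R * β) b1 = Q := by
      have := h.tau hx hy hxy hQc hRc nQR hn1
      rw [← hβ] at this
      rw [← this, ← cj_mul, h.tw_sq hx hRc.1 f2m, cj_one]
    have e3R : cj (Q * γ) c1 = R := by
      have := h.tau hx hy hxy hRc hQc nRQ hn3
      rw [← hγ] at this
      rw [← this, ← cj_mul, h.tw_sq hx hQc.1 f3m, cj_one]
    have hhol : c = cj P R * cj Q R * cj P Q * P := hc.trans (hT.cm_hol h hP hQ hR)
    have e2P : cj (R * β) P = cj c k := by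
      rw [h.tau_self hx hy hxy hRc hPc (fun c => nPR c.symm) hβR, ← h.braid hPc.1.1 hRc.1.1 nPR, hhol, cj_mul _ P,
        hkk, cj_mul, cj_mul, ← hb1, ← hβ]
    have e3P : cj (Q * γ) P = cj c⁻¹ k := by
      have hi : ∀ {a b}, a ∈ T → b ∈ T → (cj a b)⁻¹ = cj a b := fun ha hb =>
        h.inv (hT.mem h (hT.closed _ ha _ hb))
      rw [h.tau_self hx hy hxy hQc hPc (fun c => nPQ c.symm) hγQ, ← h.braid hPc.1.1 hQc.1.1 nPQ, hhol,
        mul_inv_rev, mul_inv_rev, mul_inv_rev, hi hP hQ, hi hQ hR, hi hP hR, h.inv hPc.1.1, cj_mul, cj_mul,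
        cj_mul, ← hc1, hγ, h.braid hRc.1.1 hQc.1.1 nRQ]
      refine (cj_fix (h.cls_commute hx hPc.1 hP' ?_)).symm
      rw [← h.braid hRc.1.1 hQc.1.1 nRQ, ← hγ, h.braid hPc.1.1 hQc.1.1 nPQ]
      exact h.cls_map hx hy hxy hQc hPc (fun c => nPQ c.symm) hγQ
    refine ⟨Q * γ, f3m, e3P, (hΨ _).2 ⟨Q * γ * (R * β) * (P * k), mul_mem (mul_mem (hQB f3m) (hRB f2m))
      (hPB f1m), ?_, ?_, ?_⟩⟩
    · rw [cj_mul, cj_mul, h.tau_self hx hy hxy hPc hQc nPQ hk, ← hb1, e2Q,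
        cj_fix (h.tw_fix hx hQc.1 f3m (Or.inr (h.self_cls hQc.1)))]
    · rw [cj_mul, cj_mul, h.tau_self hx hy hxy hPc hRc nPR hk, ← hc1,
        cj_fix (h.tw_fix hx hRc.1 f2m (Or.inr hn3)), e3R]
    · rw [cj_mul, cj_mul, cj_fix (h.tw_fix hx hPc.1 f1m (Or.inr hP')), e2P]
  have hZΨ : Zs ⊆ Ψ := by
    intro k hk
    obtain ⟨g, hg, rfl⟩ := (hZs k).1 hk
    obtain ⟨f, hf, hfP, hfΨ⟩ := hstep _ (hAc g ((hCz g).1 hg).1 P hP')
    have g1 := hcC hg
    have g2 := hcC g1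
    have hgP := hAc g ((hCz g).1 hg).1 P hP'
    rw [hci, cj_mul, ← cj_cj c g, hcP1, ← cj_cj c (cj c g), hcP1] at hfP
    have e1 : cj c (cj g P) = cj (cj c g) P := by rw [← cj_cj, hcP1]
    rw [e1, ← hagree g2 hf hfP _ (hAc _ ((hCz _).1 g1).1 P hP'),
      ((hCz _).1 g2).2 _ ((hCz _).1 g1).1 P hP'] at hfΨ
    have := congrArg (cj g) (hnorm hg)
    rw [hinvol hg _ (hAc _ ((hCz _).1 g1).1 _ (hAc _ ((hCz _).1 g2).1 P hP'))] at this
    rwa [this] at hfΨ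
  have hΨ5 : 5 ≤ Ψ.ncard := by
    by_cases hall : cls D x P ⊆ Zs
    · exact (hs ▸ h5).trans (Set.ncard_le_ncard (hall.trans hZΨ) (Set.toFinite _))
    obtain ⟨k, hk, hkZ⟩ := Set.not_subset.1 hall
    obtain ⟨f, hf, hfP, hfΨ⟩ := hstep k hk
    have hψ : cj f (cj c k) ∉ Zs := by
      intro hin
      obtain ⟨g, hg, hgψ⟩ := (hZs _).1 hin
      have g1 := hcC hg
      have g2 := hcC g1
      obtain ⟨m, hm⟩ : ∃ m, m = cj c⁻¹ k := ⟨_, rfl⟩
      have hmc : m ∈ cls D x P := hm ▸ hciP hk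
      rw [← hm] at hfP
      have e1 : cj c k = cj g m := by
        calc cj c k = cj f (cj f (cj c k)) := by rw [← cj_mul f, h.tw_sq hx hQc.1 hf, cj_one]
          _ = cj f (cj g P) := by rw [hgψ]
          _ = cj g (cj f P) := (((hCz g).1 hg).2 f (hQA hf) P hP').symm
          _ = cj g m := by rw [hfP]
      have e2 : cj c k = cj c (cj c m) := by rw [hm, cj_self_inv]
      have e3 : m = cj (cj c g) (cj c m) := by
        conv_lhs => rw [← hcc m, ← e2, e1, ← cj_cj]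
      have e4 : cj c m = cj (cj c g) m := by
        conv_rhs => rw [e3]
        rw [hinvol g1 _ (hcP hmc)]
      have e5 : cj (cj c (cj c g)) m = P := by
        refine hfpf (hAc _ ((hCz _).1 g2).1 m hmc) ?_
        rw [← cj_cj, hcc g, e4]
        have hn := hnorm hg
        have hprod := hmulC (hmulC hg g1) g2
        have := htriv hprod (by rw [cj_mul, cj_mul, hn]) m hmc
        rw [cj_mul, cj_mul] at this
        have h' := congrArg (cj (cj c (cj c g))) this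
        rw [((hCz _).1 g2).2 _ ((hCz g).1 hg).1 _ (hAc _ ((hCz _).1 g1).1 _ (hAc _ ((hCz _).1 g2).1 m hmc)),
          ((hCz _).1 g2).2 _ ((hCz _).1 g1).1 _ (hAc _ ((hCz _).1 g2).1 m hmc), hinvol g2 m hmc] at h'
        exact h'
      refine hkZ ((hZs k).2 ⟨g, hg, ?_⟩)
      have e6 : cj (cj c (cj c g)) P = m := by rw [← e5, hinvol g2 m hmc]
      calc cj g P = cj (cj c (cj c (cj c g))) (cj c P) := by rw [hcc, hcP1]
        _ = cj c m := by rw [cj_cj, e6]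
        _ = k := by rw [hm, cj_self_inv]
    calc 5 ≤ Zs.ncard + 1 := by omega
      _ = (insert (cj f (cj c k)) Zs).ncard := (Set.ncard_insert_of_notMem hψ (Set.toFinite _)).symm
      _ ≤ Ψ.ncard := Set.ncard_le_ncard (Set.insert_subset hfΨ hZΨ) (Set.toFinite _)
  -- the injection
  have hbc : ∀ v : G × G, ∃ g, v.1 ∈ cls D x Q → v.2 ∈ cls D x R → g ∈ B ∧ cj g Q = v.1 ∧ cj g R = v.2 := by
    intro v
    by_cases hb : v.1 ∈ cls D x Q
    swap
    · exact ⟨1, fun h' => absurd h' hb⟩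
    by_cases hc' : v.2 ∈ cls D x R
    swap
    · exact ⟨1, fun _ h' => absurd h' hc'⟩
    obtain ⟨f, hf, hfQ⟩ := h.tw_trans hx hy hxy hQc hRc nQR hb
    obtain ⟨f', hf', hfR⟩ := h.tw_trans hx hy hxy hRc hQc (fun c => nQR c.symm) hc'
    refine ⟨f' * f, fun _ _ => ⟨mul_mem (hQB hf') (hRB hf), ?_, ?_⟩⟩
    · rw [cj_mul, hfQ, cj_fix (h.tw_fix hx hQc.1 hf' (Or.inr hb))]
    · rw [cj_mul, cj_fix (h.tw_fix hx hRc.1 hf (Or.inr (h.self_cls hRc.1))), hfR]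
  choose G1 hG1 using hbc
  have hψc : ∀ a, ∃ g, a ∈ Ψ → g ∈ B ∧ cj g Q = Q ∧ cj g R = R ∧ cj g P = a := fun a => by
    by_cases ha : a ∈ Ψ
    · obtain ⟨g, hg⟩ := (hΨ a).1 ha
      exact ⟨g, fun _ => hg⟩
    · exact ⟨1, fun h' => absurd h' ha⟩
  choose G2 hG2 using hψc
  let F : (G × G × G) × Bool → G := fun v => if v.2 then cj x (cj (G1 (v.1.2.1, v.1.2.2) * G2 v.1.1) y)
    else cj (G1 (v.1.2.1, v.1.2.2) * G2 v.1.1) y
  have hmem : ∀ v ∈ (Ψ ×ˢ (cls D x Q ×ˢ cls D x R)) ×ˢ (Set.univ : Set Bool), F v ∈ Y := by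
    rintro ⟨⟨a, b, e⟩, i⟩ ⟨⟨ha, hb, he⟩, -⟩
    have := hBY _ (mul_mem (hG1 (b, e) hb he).1 (hG2 a ha).1)
    cases i
    · exact this
    · exact hYx _ this
  have huniq : ∀ {g g' t}, g ∈ B → g' ∈ B → t ∈ Hyp.com D x y → cj g t ∈ cls D x t → cj g' t ∈ cls D x t →
      (∀ a ∈ cls D x t, cj g⁻¹ a ∈ cls D x t) → Commute (cj g' t) (cj g y) → cj g t = cj g' t := by
    intro g g' t hg hg' ht h1 h2 h3 hc'
    have h4 := h3 _ h2
    have h5 : Commute (cj g⁻¹ (cj g' t)) y := by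
      rw [← cj_commute g, cj_self_inv]; exact hc'
    have e := congrArg (cj g) (h.com_unique hx hy hxy ht h4 h5)
    rw [cj_self_inv] at e
    exact e.symm
  have htrip : ∀ {g g'}, g ∈ B → g' ∈ B → (cj g y = cj g' y ∨ cj g y = cj x (cj g' y)) →
      cj g P = cj g' P ∧ cj g Q = cj g' Q ∧ cj g R = cj g' R := by
    intro g g' hg hg' he
    have hc' : ∀ {t}, t ∈ Hyp.com D x y → Commute (cj g' t) (cj g y) := by
      intro t ht
      rcases he with e | e <;> rw [e]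
      · exact (cj_commute g').2 ht.2
      · have hfix : cj x (cj g' t) = cj g' t := cj_fix (by
          rw [← hBx g' hg', cj_commute]; exact ht.1.2.2)
        rw [← hfix, cj_commute, cj_commute]; exact ht.2
    have hgi := hBcls _ (inv_mem hg)
    exact ⟨huniq hg hg' hPc ((hBcls g hg).1 P hP') ((hBcls g' hg').1 P hP') hgi.1 (hc' hPc),
      huniq hg hg' hQc ((hBcls g hg).2.1 Q (h.self_cls hQc.1)) ((hBcls g' hg').2.1 Q (h.self_cls hQc.1))
        hgi.2.1 (hc' hQc),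
      huniq hg hg' hRc ((hBcls g hg).2.2 R (h.self_cls hRc.1)) ((hBcls g' hg').2.2 R (h.self_cls hRc.1))
        hgi.2.2 (hc' hRc)⟩
  have hinj : Set.InjOn F ((Ψ ×ˢ (cls D x Q ×ˢ cls D x R)) ×ˢ (Set.univ : Set Bool)) := by
    rintro ⟨⟨a, b, e⟩, i⟩ ⟨⟨ha, hb, he⟩, -⟩ ⟨⟨a', b', e'⟩, i'⟩ ⟨⟨ha', hb', he'⟩, -⟩ hF
    obtain ⟨g, hgd⟩ : ∃ g, g = G1 (b, e) * G2 a := ⟨_, rfl⟩
    obtain ⟨g', hgd'⟩ : ∃ g, g = G1 (b', e') * G2 a' := ⟨_, rfl⟩
    have hg : g ∈ B := hgd ▸ mul_mem (hG1 (b, e) hb he).1 (hG2 a ha).1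
    have hg' : g' ∈ B := hgd' ▸ mul_mem (hG1 (b', e') hb' he').1 (hG2 a' ha').1
    simp only [F, ← hgd, ← hgd'] at hF
    have hor : cj g y = cj g' y ∨ cj g y = cj x (cj g' y) := by
      cases i <;> cases i' <;> simp only [Bool.false_eq_true, if_true, if_false] at hF
      · exact Or.inl hF
      · exact Or.inr hF
      · exact Or.inr (by rw [← hF, h.cj_twice hx])
      · exact Or.inl (cj_inj hF)
    obtain ⟨hP1, hQ1, hR1⟩ := htrip hg hg' hor
    rw [hgd, hgd', cj_mul, cj_mul, (hG2 a ha).2.1, (hG2 a' ha').2.1, (hG1 _ hb he).2.1,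
      (hG1 _ hb' he').2.1] at hQ1
    rw [hgd, hgd', cj_mul, cj_mul, (hG2 a ha).2.2.1, (hG2 a' ha').2.2.1, (hG1 _ hb he).2.2,
      (hG1 _ hb' he').2.2] at hR1
    simp only at hQ1 hR1
    subst hQ1 hR1
    rw [hgd, hgd', cj_mul, cj_mul, (hG2 a ha).2.2.2, (hG2 a' ha').2.2.2] at hP1
    have := cj_inj hP1
    subst this
    rw [← hgd'] at hgd
    subst hgd
    have hne : cj x (cj g y) ≠ cj g y := fun e => hYn _ (hBY g hg) (commute_of_cj e)
    cases i <;> cases i' <;> simp only [Bool.false_eq_true, if_true, if_false] at hF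
    · rfl
    · exact absurd hF.symm hne
    · exact absurd hF hne
    · rfl
  have hle := Set.ncard_le_ncard_of_injOn F hmem hinj (Set.toFinite _)
  have hQs : (cls D x Q).ncard = s := hs ▸ h.cls_ncard hx hQc.1 hx hPc.1
  have hRs : (cls D x R).ncard = s := hs ▸ h.cls_ncard hx hRc.1 hx hPc.1
  rw [Set.ncard_prod, Set.ncard_prod, Set.ncard_prod, hQs, hRs, Set.ncard_univ] at hle
  simp only [Nat.card_eq_fintype_card, Fintype.card_bool] at hle
  calc 10 * (s * s) = 5 * (s * s) * 2 := by ring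
    _ ≤ Ψ.ncard * (s * s) * 2 := by gcongr
    _ ≤ Y.ncard := hle

end Thin

end Cfsg.Agent.Fischer.Twin
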