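import Mathlib

/-!
Two groups generated by conjugation-closed sets that correspond equivariantly agree modulo their centres.
-/

set_option autoImplicit false

namespace Cfsg.Agent.Fischer.Twin

variable {G G' : Type*} [Group G] [Group G']

/-- groups generated by corresponding classes -/
theorem iso_of_class {D : Set G} {D' : Set G'} (hgen : Subgroup.closure D = ⊤)
    (hgen' : Subgroup.closure D' = ⊤) (hz : Subgroup.center G = ⊥) (hD : ∀ g : G, ∀ d ∈ D, g * d * g⁻¹ ∈ D)
    (f : G → G') (hf : ∀ d ∈ D, f d ∈ D') (hsurj : ∀ d' ∈ D', ∃ d ∈ D, f d = d') (hinj : Set.InjOn f D)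
    (hconj : ∀ a ∈ D, ∀ b ∈ D, f (a * b * a⁻¹) = f a * f b * (f a)⁻¹) :
    Nonempty (G ≃* G' ⧸ Subgroup.center G') := by
  obtain ⟨Γ, hΓ⟩ : ∃ Γ : Subgroup (G × G'), Γ = Subgroup.closure ((fun d => (d, f d)) '' D) := ⟨_, rfl⟩
  have key : ∀ p : G × G', p ∈ Γ → ∀ b ∈ D, f (p.1 * b * p.1⁻¹) = p.2 * f b * p.2⁻¹ := by
    intro p hp
    rw [hΓ] at hp
    induction hp using Subgroup.closure_induction with
    | mem p hp => obtain ⟨a, ha, rfl⟩ := hp; exact hconj a ha
    | one => intro b _; simp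
    | mul p q _ _ ep eq =>
      intro b hb
      rw [Prod.fst_mul, Prod.snd_mul, show p.1 * q.1 * b * (p.1 * q.1)⁻¹ = p.1 * (q.1 * b * q.1⁻¹) * p.1⁻¹ by
        group, ep _ (hD _ b hb), eq b hb]
      group
    | inv p _ ep =>
      intro b hb
      have := ep _ (hD p.1⁻¹ b hb)
      rw [show p.1 * (p.1⁻¹ * b * p.1⁻¹⁻¹) * p.1⁻¹ = b by group] at this
      rw [Prod.fst_inv, Prod.snd_inv, this]
      group
  have hcen' : ∀ z : G', (∀ d ∈ D', z * d * z⁻¹ = d) → z ∈ Subgroup.center G' := fun z hc => by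
    rw [Subgroup.mem_center_iff]
    intro g
    have : g ∈ Subgroup.centralizer ({z} : Set G') := by
      have hle : Subgroup.closure D' ≤ Subgroup.centralizer ({z} : Set G') := (Subgroup.closure_le _).2
        fun d hd => Subgroup.mem_centralizer_singleton_iff.2 (mul_inv_eq_iff_eq_mul.1 (hc d hd)).symm
      exact hle (hgen' ▸ Subgroup.mem_top g)
    exact Subgroup.mem_centralizer_singleton_iff.1 this
  have hcen : ∀ g : G, (∀ d ∈ D, g * d * g⁻¹ = d) → g = 1 := fun g hc => by
    have : g ∈ Subgroup.center G := by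
      rw [Subgroup.mem_center_iff]
      intro k
      have hle : Subgroup.closure D ≤ Subgroup.centralizer ({g} : Set G) := (Subgroup.closure_le _).2
        fun d hd => Subgroup.mem_centralizer_singleton_iff.2 (mul_inv_eq_iff_eq_mul.1 (hc d hd)).symm
      exact Subgroup.mem_centralizer_singleton_iff.1 (hle (hgen ▸ Subgroup.mem_top k))
    rwa [hz, Subgroup.mem_bot] at this
  let ψ : Γ →* G := (MonoidHom.fst G G').comp Γ.subtype
  let χ : Γ →* G' ⧸ Subgroup.center G' :=
    (QuotientGroup.mk' _).comp ((MonoidHom.snd G G').comp Γ.subtype)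
  have hψ : Function.Surjective ψ := by
    rw [← MonoidHom.range_eq_top, eq_top_iff, ← hgen, Subgroup.closure_le]
    intro d hd
    exact ⟨⟨(d, f d), hΓ ▸ Subgroup.subset_closure ⟨d, hd, rfl⟩⟩, rfl⟩
  have hχ : Function.Surjective χ := by
    have hsnd : Function.Surjective ((MonoidHom.snd G G').comp Γ.subtype) := by
      rw [← MonoidHom.range_eq_top, eq_top_iff, ← hgen', Subgroup.closure_le]
      intro d' hd'
      obtain ⟨d, hd, rfl⟩ := hsurj d' hd'
      exact ⟨⟨(d, f d), hΓ ▸ Subgroup.subset_closure ⟨d, hd, rfl⟩⟩, rfl⟩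
    exact (QuotientGroup.mk'_surjective _).comp hsnd
  have hker : ψ.ker = χ.ker := by
    ext ⟨⟨g, g'⟩, hp⟩
    simp only [MonoidHom.mem_ker]
    show g = 1 ↔ QuotientGroup.mk g' = 1
    rw [QuotientGroup.eq_one_iff]
    constructor
    · rintro rfl
      refine hcen' g' fun d' hd' => ?_
      obtain ⟨d, hd, rfl⟩ := hsurj d' hd'
      have := key _ hp d hd
      simpa using this.symm
    · intro hg'
      refine hcen g fun d hd => hinj (hD g d hd) hd ?_
      rw [key _ hp d hd]
      rw [← Subgroup.mem_center_iff.1 hg' (f d), mul_inv_cancel_right]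
  exact ⟨(QuotientGroup.quotientKerEquivOfSurjective ψ hψ).symm.trans
    ((QuotientGroup.quotientMulEquivOfEq hker).trans (QuotientGroup.quotientKerEquivOfSurjective χ hχ))⟩

end Cfsg.Agent.Fischer.Twin
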