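import Cfsg.Agent.Lib.Fischer.Transitive
import Cfsg.Agent.Lib.Spor.ThreeRelations
import Cfsg.Agent.Lib.Spor.ThreeWidth
import Cfsg.Prelude.Def_CaseTheorems

/-!
Fischer 3-transposition groups in which every commuting pair lies on a line of at least three members: every member
commutes with exactly one member of a line, or with all of them.
-/

set_option autoImplicit false
set_option linter.unusedSectionVars false

namespace Cfsg.Agent.Fischer.Twin

variable {G : Type*} [Group G] {D : Set G}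

/-- conjugation -/
def cj (g a : G) : G := g * a * g⁻¹

theorem cj_mul (g k a : G) : cj (g * k) a = cj g (cj k a) := by simp only [cj, mul_inv_rev, mul_assoc]

@[simp] theorem cj_one (a : G) : cj 1 a = a := by simp [cj]

theorem cj_inj {g a b : G} (h : cj g a = cj g b) : a = b := mul_left_cancel (mul_right_cancel h)

theorem cj_commute (g : G) {a b : G} : Commute (cj g a) (cj g b) ↔ Commute a b := Commute.conj_iff g

theorem cj_fix {g a : G} (h : Commute g a) : cj g a = a := by rw [cj, h.eq, mul_inv_cancel_right]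

/-- the line through two commuting members -/
def ln (D : Set G) (a e : G) : Set G := {u | u ∈ D ∧ ∀ v ∈ D, Commute v a → Commute v e → Commute v u}

/-- common commuting members, themselves included -/
def perp (D : Set G) (a e : G) : Set G := {v | v ∈ D ∧ Commute v a ∧ Commute v e}

theorem ln_left {a e : G} (ha : a ∈ D) : a ∈ ln D a e := ⟨ha, fun _ _ h _ => h⟩

theorem ln_right {a e : G} (he : e ∈ D) : e ∈ ln D a e := ⟨he, fun _ _ _ h => h⟩

theorem ln_comm (a e : G) : ln D a e = ln D e a := by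
  ext u
  exact ⟨fun h => ⟨h.1, fun v hv h1 h2 => h.2 v hv h2 h1⟩, fun h => ⟨h.1, fun v hv h1 h2 => h.2 v hv h2 h1⟩⟩

/-- every commuting pair lies on a line with a third member -/
structure Polar (D : Set G) : Prop where
  hyp : Hyp D
  twin : ∀ a ∈ D, ∀ e ∈ nbr D a, ∃ f ∈ ln D a e, f ≠ a ∧ f ≠ e

namespace Polar

variable (h : Polar D)
include h

theorem mem_cj (g : G) {d : G} (hd : d ∈ D) : cj g d ∈ D := h.hyp.conj_mem g hd

theorem mem_cj_iff (g : G) {d : G} : cj g d ∈ D ↔ d ∈ D := by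
  refine ⟨fun hd => ?_, h.mem_cj g⟩
  have := h.mem_cj g⁻¹ hd
  rwa [← cj_mul, inv_mul_cancel, cj_one] at this

theorem sq {a : G} (ha : a ∈ D) : a * a = 1 := Spor.mul_self_of_order_two (h.hyp.cls.1.1 a ha)

theorem inv {a : G} (ha : a ∈ D) : a⁻¹ = a := Spor.inv_of_order_two (h.hyp.cls.1.1 a ha)

theorem cj_eq {a : G} (ha : a ∈ D) (b : G) : cj a b = a * b * a := by rw [cj, h.inv ha]

theorem cj_twice {a : G} (ha : a ∈ D) (b : G) : cj a (cj a b) = b := by rw [← cj_mul, h.sq ha, cj_one]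

theorem cj_commute_iff {g : G} (hg : g ∈ D) {a b : G} : Commute (cj g a) b ↔ Commute a (cj g b) := by
  conv_lhs => rw [← h.cj_twice hg b]
  exact cj_commute g

theorem braid {a b : G} (ha : a ∈ D) (hb : b ∈ D) (hn : ¬ Commute a b) : cj a b = cj b a := by
  rw [h.cj_eq ha, h.cj_eq hb]
  exact Spor.braid_of_not h.hyp.cls.1 ha hb hn

theorem third_not {a b : G} (ha : a ∈ D) (hn : ¬ Commute a b) : ¬ Commute a (cj a b) := fun c =>
  hn ((cj_commute a).1 (by rwa [cj_fix (Commute.refl a)]))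

theorem cj_ln (g : G) {a e u : G} (hu : u ∈ ln D a e) : cj g u ∈ ln D (cj g a) (cj g e) := by
  refine ⟨h.mem_cj g hu.1, fun v hv h1 h2 => ?_⟩
  have key : v = cj g (cj g⁻¹ v) := by rw [← cj_mul, mul_inv_cancel, cj_one]
  rw [key, cj_commute] at h1 h2 ⊢
  exact hu.2 _ (h.mem_cj g⁻¹ hv) h1 h2

theorem cj_perp (g : G) (a e : G) : perp D (cj g a) (cj g e) = cj g '' perp D a e := by
  ext v
  constructor
  · intro hv
    have key : v = cj g (cj g⁻¹ v) := by rw [← cj_mul, mul_inv_cancel, cj_one]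
    refine ⟨cj g⁻¹ v, ⟨h.mem_cj g⁻¹ hv.1, ?_, ?_⟩, key.symm⟩
    · rw [← cj_commute g, ← key]; exact hv.2.1
    · rw [← cj_commute g, ← key]; exact hv.2.2
  · rintro ⟨v, hv, rfl⟩
    exact ⟨h.mem_cj g hv.1, (cj_commute g).2 hv.2.1, (cj_commute g).2 hv.2.2⟩

section Line

variable {a e : G} (ha : a ∈ D) (he : e ∈ nbr D a)
include ha he

theorem ln_clique {u v : G} (hu : u ∈ ln D a e) (hv : v ∈ ln D a e) : Commute u v :=
  hv.2 u hu.1 (hu.2 a ha (Commute.refl a) he.2.2).symm (hu.2 e he.1 he.2.2.symm (Commute.refl e)).symm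

theorem ln_nbr {u : G} (hu : u ∈ ln D a e) (hne : u ≠ a) : u ∈ nbr D a :=
  ⟨hu.1, hne, h.ln_clique ha he (ln_left ha) hu⟩

variable [Finite G]

theorem perp_eq {u : G} (hu : u ∈ ln D a e) (hne : u ≠ a) : perp D a u = perp D a e := by
  refine (Set.eq_of_subset_of_ncard_le (fun v hv => ?_) ?_ (Set.toFinite _)).symm
  · exact ⟨hv.1, hv.2.1, hu.2 v hv.1 hv.2.1 hv.2.2⟩
  · obtain ⟨g, hga, hgu⟩ := h.hyp.pair_transitive ha he ha (h.ln_nbr ha he hu hne)
    rw [show perp D a u = perp D (cj g a) (cj g e) by rw [cj, cj, hga, hgu], h.cj_perp,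
      Set.ncard_image_of_injective _ fun x y => cj_inj]

theorem ln_eq {u : G} (hu : u ∈ ln D a e) (hne : u ≠ a) : ln D a u = ln D a e := by
  have key : ∀ v, (v ∈ D ∧ Commute v a ∧ Commute v u) ↔ (v ∈ D ∧ Commute v a ∧ Commute v e) :=
    fun v => Set.ext_iff.1 (h.perp_eq ha he hu hne) v
  ext w
  refine and_congr_right fun _ => forall_congr' fun v => ?_
  constructor
  · intro f hv h1 h2; exact f hv h1 ((key v).2 ⟨hv, h1, h2⟩).2.2
  · intro f hv h1 h2; exact f hv h1 ((key v).1 ⟨hv, h1, h2⟩).2.2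

theorem ln_two {u v : G} (hu : u ∈ ln D a e) (hv : v ∈ ln D a e) (hne : u ≠ v) : ln D u v = ln D a e := by
  by_cases hua : u = a
  · subst hua; exact h.ln_eq ha he hv hne.symm
  have hu' := h.ln_nbr ha he hu hua
  have e1 : ln D u a = ln D a e := by rw [ln_comm]; exact h.ln_eq ha he hu hua
  have hau : a ∈ nbr D u := ⟨ha, fun e' => hua e'.symm, hu'.2.2.symm⟩
  rw [← e1] at hv ⊢
  exact h.ln_eq hu.1 hau hv hne.symm

/-- commuting with two members of a line gives commuting with all -/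
theorem ln_all {u v w p : G} (hu : u ∈ ln D a e) (hv : v ∈ ln D a e) (hne : u ≠ v) (hw : w ∈ ln D a e)
    (hp : p ∈ D) (h1 : Commute p u) (h2 : Commute p v) : Commute p w := by
  rw [← h.ln_two ha he hu hv hne] at hw
  exact hw.2 p hp h1 h2

end Line

/-- the class of `e` at `x` contains a member commuting with `y` -/
def Reach (D : Set G) (x y e : G) : Prop := ∃ u ∈ ln D x e, u ≠ x ∧ Commute u y

variable [Finite G]

theorem reach_ln {x y e f : G} (hx : x ∈ D) (he : e ∈ nbr D x) (hf : f ∈ ln D x e) (hfx : f ≠ x)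
    (hr : Reach D x y e) : Reach D x y f := by
  rw [Reach, h.ln_eq hx he hf hfx]; exact hr

theorem reach_step {x y e k : G} (hx : x ∈ D) (hy : y ∈ D) (hxy : ¬ Commute x y) (he : e ∈ nbr D x)
    (hey : Commute e y) (hk : k ∈ nbr D x) (hek : ¬ Commute e k) : Reach D x y k := by
  by_contra hkR
  obtain ⟨f, hf, hfx, hfe⟩ := h.twin x hx e he
  have hfn := h.ln_nbr hx he hf hfx
  have hfy : ¬ Commute f y := fun c => hxy
    (h.ln_all hx he (ln_right he.1) hf hfe.symm (ln_left hx) hy hey.symm c.symm).symm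
  have hfk : ¬ Commute f k := fun c => hek
    (h.ln_all hx he (ln_left hx) hf hfx.symm (ln_right he.1) hk.1 hk.2.2.symm c.symm).symm
  have hky : ¬ Commute k y := fun c => hkR ⟨k, ln_right hk.1, hk.2.1, c⟩
  have hnfix : ∀ g : G, g ∈ nbr D x → cj g x = x := fun g hg => cj_fix hg.2.2.symm
  have hconj := (Spor.class_isGroup h.hyp.cls).2.1
  have hnb : ∀ g, g ∈ nbr D x → ∀ d, d ∈ nbr D x → cj g d ∈ nbr D x := fun g hg d hd => by
    have := (nbr_conj hconj g).2 hd
    rwa [show g * x * g⁻¹ = x from hnfix g hg] at this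
  obtain ⟨m, hm⟩ : ∃ m, m = cj e k := ⟨_, rfl⟩
  obtain ⟨n, hn⟩ : ∃ n, n = cj f k := ⟨_, rfl⟩
  have hmx : m ∈ nbr D x := hm ▸ hnb e he k hk
  have hnx : n ∈ nbr D x := hn ▸ hnb f hfn k hk
  have hnm : n ∈ ln D x m := by
    have := h.cj_ln k hf
    rwa [hnfix k hk, ← h.braid hfn.1 hk.1 hfk, ← h.braid he.1 hk.1 hek, ← hn, ← hm] at this
  have hmR : ¬ Reach D x y m := fun ⟨u, hu, hux, huy⟩ => hkR ⟨cj e u,
    (by have := h.cj_ln e hu; rwa [hnfix e he, hm, h.cj_twice he.1] at this),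
    fun e' => hux (cj_inj (e'.trans (hnfix e he).symm)),
    (h.cj_commute_iff he.1).2 (by rwa [cj_fix hey])⟩
  have hmn : m ∈ ln D x n := by rw [h.ln_eq hx hmx hnm hnx.2.1]; exact ln_right hmx.1
  have hnR : ¬ Reach D x y n := fun r => hmR (h.reach_ln hx hnx hmn hmx.2.1 r)
  have hny : ¬ Commute n y := fun c => hnR ⟨n, ln_right hnx.1, hnx.2.1, c⟩
  obtain ⟨z, hz⟩ : ∃ z, z = cj y x := ⟨_, rfl⟩
  have hzD : z ∈ D := hz ▸ h.mem_cj y hx
  have hzx : z = cj x y := hz.trans (h.braid hy hx fun c => hxy c.symm)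
  obtain ⟨t, ht⟩ : ∃ t, t = cj y n := ⟨_, rfl⟩
  obtain ⟨w, hw⟩ : ∃ w, w = cj y f := ⟨_, rfl⟩
  obtain ⟨v, hv⟩ : ∃ v, v = cj k z := ⟨_, rfl⟩
  have htD : t ∈ D := ht ▸ h.mem_cj y hnx.1
  have hwD : w ∈ D := hw ▸ h.mem_cj y hfn.1
  have hvD : v ∈ D := hv ▸ h.mem_cj k hzD
  -- every neighbour of `x` not commuting with `y` does not commute with `z`
  have hzn : ∀ d, d ∈ nbr D x → ¬ Commute d y → ¬ Commute z d := fun d hd hd' c => hd' (by
    rw [hzx, h.cj_commute_iff hx, cj_fix hd.2.2] at c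
    exact c.symm)
  have hvy : Commute v y := by
    rw [hv, h.cj_commute_iff hk.1, h.braid hk.1 hy hky, hz]
    exact (cj_commute y).2 hk.2.2
  obtain ⟨p, hp⟩ : ∃ p, p = cj k (cj f y) := ⟨_, rfl⟩
  have hvp : Commute v p := by
    rw [hv, hp, cj_commute, h.braid hfn.1 hy hfy, hz, cj_commute]
    exact hfn.2.2
  have hfv : ¬ Commute f v := fun c => by
    rw [hv] at c
    have c' := (h.cj_commute_iff hk.1).1 c.symm
    rw [h.braid hk.1 hfn.1 (fun c2 => hfk c2.symm), ← hn] at c'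
    exact hzn n hnx hny c'
  obtain ⟨g, hg⟩ : ∃ g, g = w * v * t * f := ⟨_, rfl⟩
  have hgd : ∀ d, cj g d = cj w (cj v (cj t (cj f d))) := fun d => by
    rw [hg, cj_mul, cj_mul, cj_mul]
  have ee : ∀ {a : G}, a ∈ D → ∀ b : G, a * (a * b) = b := fun ha b => by rw [← mul_assoc, h.sq ha, one_mul]
  -- `g` fixes `x`
  have g1 : cj g x = x := by
    rw [hgd, hnfix f hfn]
    have hxt : ¬ Commute x t := fun c => by
      rw [ht] at c
      have c' := (h.cj_commute_iff hy).1 c.symm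
      rw [← hz] at c'
      exact hzn n hnx hny c'.symm
    have e1 : cj t x = cj z n := by
      rw [← h.braid hx htD hxt, ht, hzx, h.cj_eq (h.mem_cj x hy), h.cj_eq hx, h.cj_eq hx, h.cj_eq hy]
      have hxn : x * n * x = n := by rw [← h.cj_eq hx]; exact cj_fix hnx.2.2
      calc x * (y * n * y) * x = x * (y * (x * n * x) * y) * x := by rw [hxn]
        _ = _ := by simp only [mul_assoc]
    rw [e1, hv, h.braid hk.1 hzD (fun c => hzn k hk hky c.symm), h.cj_eq (h.mem_cj z hk.1), h.cj_eq hzD,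
      h.cj_eq hzD]
    have e2 : z * k * z * (z * n * z) * (z * k * z) = cj z f := by
      rw [h.cj_eq hzD, hn, h.braid hfn.1 hk.1 hfk, h.cj_eq hk.1]
      simp only [mul_assoc, ee hzD, ee hk.1]
    rw [e2, hzx, h.cj_eq hx, cj_mul (x * y), cj_fix hfn.2.2, cj_mul, ← hw]
    have hxw : ¬ Commute x w := fun c => by
      rw [hw] at c
      have c' := (h.cj_commute_iff hy).1 c.symm
      rw [← hz] at c'
      exact hzn f hfn hfy c'.symm
    rw [h.braid hx hwD hxw, h.cj_twice hwD]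
  -- `g` fixes `n`
  have hyp' : cj n (cj y k) = p := by
    rw [hp, hn, h.braid hfn.1 hk.1 hfk, h.braid hy hk.1 (fun c => hky c.symm), h.cj_eq (h.mem_cj k hfn.1),
      h.cj_eq hk.1, h.cj_eq hk.1, h.cj_eq hk.1, h.cj_eq hfn.1]
    simp only [mul_assoc, ee hk.1]
  have hfn' : cj f n = k := by rw [hn, h.cj_twice hfn.1]
  have g2 : cj g n = n := by
    rw [hgd, hfn']
    have e1 : cj t k = cj y p := by
      rw [← hyp', ht, h.cj_eq (h.mem_cj y hnx.1), h.cj_eq hy, h.cj_eq hnx.1, h.cj_eq hy, h.cj_eq hy]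
      simp only [mul_assoc]
    rw [e1, ← cj_mul v y, hvy.eq, cj_mul, cj_fix hvp, hw, h.cj_eq (h.mem_cj y hfn.1), h.cj_eq hy, h.cj_eq hy]
    have e3 : f * p * f = y * n * y := by
      rw [← h.cj_eq hy n, ← h.braid hnx.1 hy hny, hp, hn, h.cj_eq (h.mem_cj f hk.1), h.cj_eq hk.1,
        h.cj_eq hfn.1, h.cj_eq hfn.1]
      simp only [mul_assoc]
    calc y * f * y * (y * p * y) * (y * f * y) = y * (f * p * f) * y := by simp only [mul_assoc, ee hy]
      _ = n := by rw [e3]; simp only [mul_assoc, ee hy, h.sq hy, mul_one]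
  -- `g` moves `v` to `y`
  have g3 : cj g v = y := by
    rw [hgd]
    have e1 : cj f t = p := by
      rw [ht, ← h.braid hnx.1 hy hny, hp, hn, h.cj_eq hfn.1, h.cj_eq (h.mem_cj f hk.1), h.cj_eq hfn.1,
        h.cj_eq hk.1, h.cj_eq hfn.1]
      simp only [mul_assoc, ee hfn.1, h.sq hfn.1, mul_one]
    have hc : Commute t (cj f v) := by
      rw [← h.cj_commute_iff hfn.1, e1]; exact hvp.symm
    rw [cj_fix hc, h.braid hfn.1 hvD hfv, h.cj_twice hvD, hw, ← h.braid hfn.1 hy hfy, h.cj_eq (h.mem_cj f hy)]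
    have : cj f y * f * cj f y = cj f (cj y f) := by
      rw [h.cj_eq hfn.1, h.cj_eq hfn.1, h.cj_eq hy]; simp only [mul_assoc, ee hfn.1, ee hy]
    rw [this, ← h.braid hfn.1 hy hfy, h.cj_twice hfn.1]
  have hmv : Commute m v := by
    rw [hm, hv, h.braid he.1 hk.1 hek, cj_commute, hz, ← cj_fix hey.symm, cj_commute]
    exact he.2.2.symm
  refine hnR ⟨cj g m, ?_, fun e' => hmx.2.1 (cj_inj (e'.trans g1.symm)), ?_⟩
  · have := h.cj_ln g hmn
    rwa [g1, g2] at this
  · rw [← g3]; exact (cj_commute g).2 hmv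

theorem reach {x y e : G} (hx : x ∈ D) (hy : y ∈ D) (hxy : ¬ Commute x y) (he : e ∈ nbr D x) :
    Reach D x y e := by
  obtain ⟨d, hd, hdy⟩ := h.hyp.exists_common hx hy hxy
  have h0 : Reach D x y d := ⟨d, ln_right hd.1, hd.2.1, hdy⟩
  have := h.hyp.nbr_conn hx hd he
  induction this with
  | refl => exact h0
  | @tail p q _ hpq ih =>
    obtain ⟨hp, hq, hn⟩ := hpq
    obtain ⟨u, hu, hux, huy⟩ := ih hp
    refine h.reach_step hx hy hxy (h.ln_nbr hx hp hu hux) huy hq fun c => hn ?_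
    exact (h.ln_all hx hp (ln_left hx) hu hux.symm (ln_right hp.1) hq.1 hq.2.2.symm c.symm).symm

/-- the member of the class of `e` at `x` commuting with `y` -/
theorem exists_rep {x y e : G} (hx : x ∈ D) (hy : y ∈ D) (hxy : ¬ Commute x y) (he : e ∈ nbr D x) :
    ∃ u ∈ ln D x e, u ∈ nbr D x ∧ Commute u y ∧ ∀ u' ∈ ln D x e, Commute u' y → u' = u := by
  obtain ⟨u, hu, hux, huy⟩ := h.reach hx hy hxy he
  refine ⟨u, hu, h.ln_nbr hx he hu hux, huy, fun u' hu' hu'y => ?_⟩
  by_contra hne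
  exact hxy (h.ln_all hx he hu' hu hne (ln_left hx) hy hu'y.symm huy.symm).symm

/-- every member commutes with some member of each line -/
theorem exists_perp {a e v : G} (ha : a ∈ D) (he : e ∈ nbr D a) (hv : v ∈ D) :
    ∃ u ∈ ln D a e, Commute u v := by
  by_cases hc : Commute a v
  · exact ⟨a, ln_left ha, hc⟩
  obtain ⟨u, hu, -, huv, -⟩ := h.exists_rep ha hv hc he
  exact ⟨u, hu, huv⟩

/-- all lines have the same number of members -/
theorem ln_ncard {a e c d : G} (ha : a ∈ D) (he : e ∈ nbr D a) (hc : c ∈ D) (hd : d ∈ nbr D c) :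
    (ln D a e).ncard = (ln D c d).ncard := by
  obtain ⟨g, rfl, rfl⟩ := h.hyp.pair_transitive ha he hc hd
  have : ln D (cj g a) (cj g e) = cj g '' ln D a e := by
    ext v
    constructor
    · intro hv
      refine ⟨cj g⁻¹ v, ?_, by rw [← cj_mul, mul_inv_cancel, cj_one]⟩
      have := h.cj_ln g⁻¹ hv
      rwa [← cj_mul, ← cj_mul, inv_mul_cancel, cj_one, cj_one] at this
    · rintro ⟨u, hu, rfl⟩; exact h.cj_ln g hu
  exact ((congrArg Set.ncard this).trans (Set.ncard_image_of_injective _ fun x y => cj_inj)).symm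

end Polar

/-- a normal 2-subgroup of the local group outside the centre gives lines of at least three members -/
theorem polar_of_core [Finite G] (h : Hyp D) {x : G} (hx : x ∈ D)
    (hne : ¬ Cfsg.pCore 2 ↥(Subgroup.closure (nbr D x)) ≤ Subgroup.center ↥(Subgroup.closure (nbr D x))) :
    Polar D := by
  haveI : Fact (Nat.Prime 2) := ⟨Nat.prime_two⟩
  set H := Subgroup.closure (nbr D x) with hH
  haveI hOn : (Cfsg.pCore 2 ↥H).Normal := Solv.pCore_normal 2
  have hconj := (Spor.class_isGroup h.cls).2.1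
  obtain ⟨o, hoO, hoZ⟩ := SetLike.not_le_iff_exists.1 hne
  obtain ⟨e, he, hne'⟩ : ∃ e ∈ nbr D x, cj (o : G) e ≠ e := by
    by_contra hc
    push Not at hc
    refine hoZ (Subgroup.mem_center_iff.2 fun w => Subtype.ext ?_)
    have hcl : H ≤ Subgroup.centralizer ({(o : G)} : Set G) := (Subgroup.closure_le _).2 fun e he =>
      Subgroup.mem_centralizer_singleton_iff.2 (mul_inv_eq_iff_eq_mul.1 (hc e he)).symm
    exact Subgroup.mem_centralizer_singleton_iff.1 (hcl w.2)
  have hox : Commute (o : G) x := Subgroup.mem_centralizer_singleton_iff.1 (Hyp.closure_nbr_le x o.2)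
  have hf : cj (o : G) e ∈ nbr D x := by
    have := (nbr_conj hconj (o : G)).2 he
    rwa [show (o : G) * x * (o : G)⁻¹ = x from cj_fix hox] at this
  set E : Set ↥H := {v | (v : G) ∈ nbr D x} with hE
  have hset : Cfsg.IsThreeTranspositionSet E :=
    ⟨fun v hv => (Subgroup.orderOf_coe v).symm.trans (h.cls.1.1 _ hv.1),
      fun v hv v' hv' => (h.cls.1.2 _ hv.1 _ hv'.1).imp (fun e' => Subtype.ext e') fun e' => Subtype.ext e'⟩
  obtain ⟨e', he'⟩ : ∃ e' : ↥H, (e' : G) = e := ⟨⟨e, Subgroup.subset_closure he⟩, rfl⟩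
  obtain ⟨f', hf'⟩ : ∃ f' : ↥H, (f' : G) = cj (o : G) e := ⟨⟨_, Subgroup.subset_closure hf⟩, rfl⟩
  have hee : e' ∈ E := by rw [hE, Set.mem_setOf_eq, he']; exact he
  have hff : f' ∈ E := by rw [hE, Set.mem_setOf_eq, hf']; exact hf
  have hprod : e' * f' ∈ Cfsg.pCore 2 ↥H := by
    have : e' * f' = e' * o * e'⁻¹ * o⁻¹ := by
      apply Subtype.ext
      simp only [Subgroup.coe_mul, Subgroup.coe_inv, he', hf', cj, Spor.inv_of_order_two (h.cls.1.1 e he.1)]
      group
    rw [this]; exact mul_mem (hOn.conj_mem o hoO e') (inv_mem hoO)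
  have hV := Spor.sameV_of_mul_mem hset hee hff hprod
  have hline : cj (o : G) e ∈ ln D x e := by
    refine ⟨hf.1, fun v hv h1 h2 => ?_⟩
    by_cases hvx : v = x
    · exact hvx ▸ hf.2.2
    have hvn : v ∈ nbr D x := ⟨hv, hvx, h1.symm⟩
    have hc := (hV ⟨v, Subgroup.subset_closure hvn⟩ hvn).1 (Subtype.ext (by
      simp only [Subgroup.coe_mul, he']; exact h2.symm.eq))
    have := congrArg Subtype.val hc.eq
    simp only [Subgroup.coe_mul, hf'] at this
    exact this.symm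
  refine ⟨h, fun a ha b hb => ?_⟩
  obtain ⟨g, rfl, rfl⟩ := h.pair_transitive hx he ha hb
  refine ⟨cj g (cj (o : G) e), ⟨h.conj_mem g hf.1, fun v hv h1 h2 => ?_⟩, fun e' => hf.2.1 (cj_inj e'),
    fun e' => hne' (cj_inj e')⟩
  have key : v = g * (g⁻¹ * v * g) * g⁻¹ := by group
  rw [key, Commute.conj_iff] at h1 h2
  rw [key, cj, Commute.conj_iff]
  refine hline.2 _ ?_ h1 h2
  have := h.conj_mem g⁻¹ hv
  rwa [inv_inv] at this

end Cfsg.Agent.Fischer.Twin
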