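import Cfsg.Agent.Lib.Fischer.Twin.Sp

/-!
A path of four members among the neighbours of `x` makes the local group non-solvable; hence with a solvable local
group the common neighbours of a non-commuting pair do not commute.
-/

set_option autoImplicit false
set_option linter.unusedSectionVars false

namespace Cfsg.Agent.Fischer.Twin

variable {G : Type*} [Group G] {D : Set G}

namespace Polar

variable (h : Polar D)
include h

/-- a four-term path generates a non-solvable group -/
theorem path_not_solvable {H : Subgroup G} {a b c d : G} (ha : a ∈ D) (hb : b ∈ D) (hc : c ∈ D) (hd : d ∈ D)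
    (haH : a ∈ H) (hbH : b ∈ H) (hcH : c ∈ H) (hdH : d ∈ H) (hab : ¬ Commute a b) (hbc : ¬ Commute b c)
    (hcd : ¬ Commute c d) (hac : Commute a c) (hbd : Commute b d) (had : Commute a d) :
    ¬ Group.IsSolvable ↥H := by
  intro hs
  have hai := h.inv ha
  have hbi := h.inv hb
  have hci := h.inv hc
  have hdi := h.inv hd
  obtain ⟨A, rfl⟩ : ∃ A : H, (A : G) = a := ⟨⟨a, haH⟩, rfl⟩
  obtain ⟨B, rfl⟩ : ∃ B : H, (B : G) = b := ⟨⟨b, hbH⟩, rfl⟩
  obtain ⟨C, rfl⟩ : ∃ C : H, (C : G) = c := ⟨⟨c, hcH⟩, rfl⟩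
  obtain ⟨E, rfl⟩ : ∃ E : H, (E : G) = d := ⟨⟨d, hdH⟩, rfl⟩
  -- the shift along three members
  have shift : ∀ {p q r : G}, p ∈ D → q ∈ D → r ∈ D → ¬ Commute p q → ¬ Commute q r → Commute p r →
      cj (p * q * r) (p * q) = q * r := by
    intro p q r hp hq hr hpq hqr hpr
    have e1 : cj (p * q * r) p = q := by
      rw [cj_mul, cj_fix hpr.symm, cj_mul, h.braid hq hp fun c => hpq c.symm, h.cj_twice hp]
    have e2 : cj (p * q * r) q = r := by
      rw [cj_mul, cj_mul, h.braid hr hq fun c => hqr c.symm, h.cj_twice hq, cj_fix hpr]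
    rw [show cj (p * q * r) (p * q) = cj (p * q * r) p * cj (p * q * r) q by simp only [cj]; group, e1, e2]
  have key : ∀ k, A * B ∈ derivedSeries (↥H) k ∧ C * E ∈ derivedSeries (↥H) k := by
    intro k
    induction k with
    | zero => exact ⟨Subgroup.mem_top _, Subgroup.mem_top _⟩
    | succ k ih =>
      have hn := (derivedSeries_normal (↥H) (k + 1))
      have hm : (A * B) * (C * E) * (A * B)⁻¹ * (C * E)⁻¹ ∈ derivedSeries (↥H) (k + 1) :=
        Subgroup.commutator_mem_commutator ih.1 ih.2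
      have e : (A * B) * (C * E) * (A * B)⁻¹ * (C * E)⁻¹ = A * (C * B) * A⁻¹ := by
        apply Subtype.ext
        simp only [Subgroup.coe_mul, Subgroup.coe_inv, mul_inv_rev, hai, hbi, hci, hdi]
        obtain ⟨a, ha'⟩ := A
        obtain ⟨b, hb'⟩ := B
        obtain ⟨c, hc'⟩ := C
        obtain ⟨d, hd'⟩ := E
        simp only at *
        have hbr := h.braid hb hc hbc
        rw [h.cj_eq hb, h.cj_eq hc] at hbr
        calc a * b * (c * d) * (b * a) * (d * c) = a * b * c * (d * b) * a * d * c := by simp only [mul_assoc]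
          _ = a * b * c * b * ((d * a * d) * c) := by rw [← hbd.eq]; simp only [mul_assoc]
          _ = a * b * c * b * (a * c) := by
            rw [← had.eq, mul_assoc a d d, h.sq hd, mul_one]
          _ = a * (c * b * c) * (a * c) := by rw [← hbr]; simp only [mul_assoc]
          _ = a * (c * b) * (c * (c * a)) := by rw [hac.eq]; simp only [mul_assoc]
          _ = a * (c * b) * a := by rw [← mul_assoc c c, h.sq hc, one_mul]
      rw [e] at hm
      have hCB : C * B ∈ derivedSeries (↥H) (k + 1) := by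
        have := hn.conj_mem _ hm A⁻¹
        simpa only [inv_inv, ← mul_assoc, inv_mul_cancel, one_mul, inv_mul_cancel_right] using this
      have hBC : B * C ∈ derivedSeries (↥H) (k + 1) := by
        have := inv_mem hCB
        have e' : (C * B)⁻¹ = B * C := Subtype.ext (by simp [hbi, hci])
        rwa [e'] at this
      constructor
      · have := hn.conj_mem _ hBC (A * B * C)⁻¹
        have e' : (A * B * C)⁻¹ * (B * C) * (A * B * C)⁻¹⁻¹ = A * B := by
          apply Subtype.ext
          simp only [Subgroup.coe_mul, Subgroup.coe_inv, inv_inv]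
          conv_lhs => rw [← shift ha hb hc hab hbc hac]
          simp only [cj]; group
        rwa [e'] at this
      · have := hn.conj_mem _ hBC (B * C * E)
        have e' : B * C * E * (B * C) * (B * C * E)⁻¹ = C * E := by
          apply Subtype.ext
          simp only [Subgroup.coe_mul, Subgroup.coe_inv]
          exact shift hb hc hd hbc hcd hbd
        rwa [e'] at this
  obtain ⟨k, hk⟩ := (Group.isSolvable_def _).1 hs
  have h1 := (key k).1
  rw [hk, Subgroup.mem_bot] at h1
  have h2 := congrArg Subtype.val h1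
  simp only [Subgroup.coe_mul, Subgroup.coe_one] at h2
  refine hab ?_
  rw [mul_eq_one_iff_eq_inv, hbi] at h2
  rw [h2]

variable [Finite G]

/-- with a solvable local group the common neighbours never commute -/
theorem thin_of_solvable {x y : G} (hx : x ∈ D) (hy : y ∈ D) (hxy : ¬ Commute x y)
    (hs : Group.IsSolvable ↥(Subgroup.closure (nbr D x))) :
    ∀ p ∈ Hyp.com D x y, ∀ q ∈ Hyp.com D x y, Commute p q → p = q := by
  intro a ha c hc hac
  by_contra hne
  have hH : ∀ {t}, t ∈ Hyp.com D x y → t ∈ Subgroup.closure (nbr D x) := fun {t} ht => Subgroup.subset_closure ht.1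
  have path : ∀ {p q r d}, p ∈ Hyp.com D x y → q ∈ Hyp.com D x y → r ∈ Hyp.com D x y → d ∈ Hyp.com D x y →
      ¬ Commute p q → ¬ Commute q r → ¬ Commute r d → Commute p r → Commute q d → Commute p d → False :=
    fun hp hq hr hd h1 h2 h3 h4 h5 h6 => h.path_not_solvable hp.1.1 hq.1.1 hr.1.1 hd.1.1 (hH hp) (hH hq) (hH hr)
      (hH hd) h1 h2 h3 h4 h5 h6 hs
  have hT : Sub D (D ∩ Hyp.com D x y) := h.sub_com h.sub_top hx hy hxy
    ⟨a, ⟨ha.1.1, ha⟩, c, ⟨hc.1.1, hc⟩, hac, hne⟩
  have hcn : c ∈ nbr D a := ⟨hc.1.1, fun e => hne e.symm, hac⟩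
  have aT : a ∈ D ∩ Hyp.com D x y := ⟨ha.1.1, ha⟩
  have cT : c ∈ D ∩ Hyp.com D x y := ⟨hc.1.1, hc⟩
  -- a member commuting with neither
  obtain ⟨b, hbT, hba, hbc⟩ : ∃ b ∈ D ∩ Hyp.com D x y, ¬ Commute a b ∧ ¬ Commute c b := by
    by_contra hno
    push Not at hno
    obtain ⟨b1, hb1, h1⟩ := hT.rad a aT
    obtain ⟨b2, hb2, h2⟩ := hT.rad c cT
    have h1c : Commute c b1 := hno b1 hb1 h1
    have h2a : Commute a b2 := by
      by_contra hc'
      exact h2 (hno b2 hb2 hc')
    obtain ⟨u, hu, hua, huc⟩ := h.twin a ha.1.1 c hcn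
    have huT := hT.line a aT c cT hcn hu
    have h1u : ¬ Commute b1 u := fun e => h1
      (h.ln_all ha.1.1 hcn hu (ln_right hc.1.1) huc (ln_left ha.1.1) hb1.1 e h1c.symm).symm
    have h2u : ¬ Commute b2 u := fun e => h2
      (h.ln_all ha.1.1 hcn hu (ln_left ha.1.1) hua (ln_right hc.1.1) hb2.1 e h2a.symm).symm
    by_cases h12 : Commute b1 b2
    · exact path ha hb1.2 huT.2 hb2.2 h1 h1u (fun e => h2u e.symm)
        (h.ln_clique ha.1.1 hcn (ln_left ha.1.1) hu) h12 h2a
    · have hn := hT.conj b1 hb1 b2 hb2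
      have h3 := hno _ hn fun e => h1 ?_
      · rw [← cj_fix h1c.symm, cj_commute] at h3
        exact h2 h3
      · rw [h.braid hb1.1 hb2.1 h12, ← cj_fix h2a.symm, cj_commute] at e
        exact e
  obtain ⟨q, hq, hqb⟩ := h.exists_perp ha.1.1 hcn hbT.1
  have hqT := hT.line a aT c cT hcn hq
  have hqa : q ≠ a := fun e => hba (e ▸ hqb)
  have hqn : q ∈ nbr D a := h.ln_nbr ha.1.1 hcn hq hqa
  have hqc : q ≠ c := fun e => hbc (e ▸ hqb)
  obtain ⟨d, hd, hqd⟩ := h.com_rad hT aT hbT hba q ⟨hqT, hqn, hqb⟩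
  have hcd : ¬ Commute c d := fun e => hqd
    (h.ln_all ha.1.1 hcn (ln_left ha.1.1) (ln_right hc.1.1) hne hq hd.1.1 hd.2.1.2.2.symm e.symm).symm
  exact path ha hbT.2 hc hd.1.2 hba (fun e => hbc e.symm) hcd hac hd.2.2.symm hd.2.1.2.2

end Polar

end Cfsg.Agent.Fischer.Twin
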