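import Cfsg.Agent.Lib.Fischer.Twin.USU
import Cfsg.Agent.Lib.Fischer.Twin.Solv
import Cfsg.Agent.S0247
import Mathlib.FieldTheory.Finite.GaloisField

/-!
Fischer's theorem for lines with a third member: symplectic over two elements or unitary over four.
-/

set_option autoImplicit false
set_option linter.unusedSectionVars false

namespace Cfsg.Agent.Fischer.Twin

open Cfsg.Agent.Classical
open Cfsg.Agent.Small.PSpn (sf sf_add_right sf_smul_right sf_zero_right)

variable {G : Type*} [Group G] {D : Set G} [Finite G]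

/-- the field with four elements -/
theorem exists_F4 : ∃ (F : Type) (_ : Field F) (_ : Fintype F), Fintype.card F = 4 := by
  haveI : Fact (Nat.Prime 2) := ⟨Nat.prime_two⟩
  letI := Fintype.ofFinite (GaloisField 2 2)
  refine ⟨GaloisField 2 2, inferInstance, inferInstance, ?_⟩
  rw [← Nat.card_eq_fintype_card, GaloisField.card 2 2 (by norm_num)]
  norm_num

theorem center_bot (hsol : ∀ N : Subgroup G, N.Normal → Group.IsSolvable ↥N → N = ⊥) : Subgroup.center G = ⊥ :=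
  hsol _ inferInstance (Group.isSolvable_of_comm fun a b => Subtype.ext (Subgroup.mem_center_iff.1 b.2 a))

/-- a member not commuting with `x` -/
theorem exists_partner (h : Hyp D) {x : G} (hx : x ∈ D) : ∃ y ∈ D, ¬ Commute x y :=
  Spor.exists_braid h.cls h.prim.2.1 hx

namespace Polar

variable (h : Polar D)
include h

/-- the two cases -/
theorem classification {x y : G} (hx : x ∈ D) (hy : y ∈ D) (hxy : ¬ Commute x y) (hz : Subgroup.center G = ⊥) :
    (∃ (m : ℕ) (e : G → (Fin m ⊕ Fin m → ZMod 2)),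
      Nonempty (G ≃* Matrix.symplecticGroup (Fin m) (ZMod 2)) ∧
      (∀ v, v ≠ 0 → ∃ d ∈ D, e d = v) ∧ (∀ d ∈ D, e d ≠ 0) ∧
      ∀ a ∈ D, ∀ b ∈ D, (sf (e a) (e b) = 0 ↔ Commute a b)) ∨
    ∃ (F : Type) (_ : Field F) (_ : Fintype F) (n : ℕ), Fintype.card F = 4 ∧ 4 ≤ n ∧
      Nonempty (G ≃* Cfsg.PSU n F 2) ∧
      ((∀ p ∈ Hyp.com D x y, ∀ q ∈ Hyp.com D x y, Commute p q → p = q) → n ≤ 5) := by
  obtain ⟨t, ht⟩ := h.hyp.exists_common hx hy hxy
  rcases h.ln_bound hx ht.1 with h3 | h5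
  · exact Or.inl (h.sp_case (fun a ha e he => (h.ln_ncard ha he hx ht.1).trans h3) hz)
  · right
    obtain ⟨F, hF, hFf, hcard⟩ := exists_F4
    let S : Five D x y := ⟨h, fun a ha e he => (h.ln_ncard ha he hx ht.1).trans h5, hx, hy, hxy⟩
    obtain ⟨co, γ, hco⟩ := S.exists_coord F hcard
    obtain ⟨n, hn, hiso, hthin⟩ := (⟨S, hcard, co, γ, hco⟩ : UData D x y F).psu_case hz
    exact ⟨F, hF, hFf, n, hcard, hn, hiso, hthin⟩

/-- without commuting common neighbours the symplectic space has dimension four -/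
theorem sp_two {x y : G} (hx : x ∈ D) (hy : y ∈ D) (hxy : ¬ Commute x y) {m : ℕ}
    (e : G → (Fin m ⊕ Fin m → ZMod 2)) (hsurj : ∀ v, v ≠ 0 → ∃ d ∈ D, e d = v) (hne : ∀ d ∈ D, e d ≠ 0)
    (hcom : ∀ a ∈ D, ∀ b ∈ D, (sf (e a) (e b) = 0 ↔ Commute a b))
    (hthin : ∀ p ∈ Hyp.com D x y, ∀ q ∈ Hyp.com D x y, Commute p q → p = q) : m = 2 := by
  classical
  let L : (Fin m ⊕ Fin m → ZMod 2) → (Fin m ⊕ Fin m → ZMod 2) →ₗ[ZMod 2] ZMod 2 := fun u =>
    { toFun := sf u
      map_add' := fun a b => sf_add_right u a b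
      map_smul' := fun c a => sf_smul_right c u a }
  have one : ∀ {a b}, a ∈ D → b ∈ D → ¬ Commute a b → sf (e a) (e b) = 1 := fun ha hb hn =>
    (zmod_two _).resolve_left fun c => hn ((hcom _ ha _ hb).1 c)
  have zero : ∀ {a b}, a ∈ D → b ∈ D → Commute a b → sf (e a) (e b) = 0 := fun ha hb hc => (hcom _ ha _ hb).2 hc
  have hfr : Module.finrank (ZMod 2) (Fin m ⊕ Fin m → ZMod 2) = 2 * m := by
    rw [Module.finrank_fintype_fun_eq_card, Fintype.card_sum, Fintype.card_fin]; omega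
  obtain ⟨t, ht⟩ := h.hyp.exists_common hx hy hxy
  obtain ⟨f, hf⟩ : ∃ f : (Fin m ⊕ Fin m → ZMod 2) →ₗ[ZMod 2] ZMod 2 × ZMod 2,
      ∀ v, f v = (sf (e x) v, sf (e y) v) := ⟨(L (e x)).prod (L (e y)), fun _ => rfl⟩
  by_contra hm
  rcases Nat.lt_or_ge m 2 with h1 | h1
  · rcases Nat.eq_zero_or_pos m with rfl | h0
    · exact hne x hx (Subsingleton.elim _ _)
    have hm1 : Module.finrank (ZMod 2) (Fin m ⊕ Fin m → ZMod 2) = Module.finrank (ZMod 2) (ZMod 2 × ZMod 2) := by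
      rw [hfr, Module.finrank_prod, Module.finrank_self]; omega
    have hs : Function.Surjective f := by
      rintro ⟨p, q⟩
      refine ⟨q • e x + p • e y, ?_⟩
      rw [map_add, map_smul, map_smul, hf, hf, zero hx hx (Commute.refl x), zero hy hy (Commute.refl y),
        one hx hy hxy, one hy hx fun c => hxy c.symm]
      simp
    refine hne t ht.1.1 ((LinearMap.injective_iff_surjective_of_finrank_eq_finrank hm1).2 hs ?_)
    rw [map_zero, hf, zero hx ht.1.1 ht.1.2.2, zero hy ht.1.1 ht.2.symm]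
    rfl
  obtain ⟨K, hK⟩ : ∃ K, K = LinearMap.ker f := ⟨_, rfl⟩
  have hK4 : 4 ≤ Module.finrank (ZMod 2) K := by
    have h2 := f.finrank_range_add_finrank_ker
    have h3 : Module.finrank (ZMod 2) (LinearMap.range f) ≤ 2 := (Submodule.finrank_le _).trans (by simp)
    rw [hK]; omega
  have hmem : ∀ {v : Fin m ⊕ Fin m → ZMod 2}, v ∈ K → v ≠ 0 →
      ∃ d ∈ Hyp.com D x y, e d = v := by
    intro v hv hv0
    rw [hK, LinearMap.mem_ker, hf, Prod.mk_eq_zero] at hv
    obtain ⟨d, hd, rfl⟩ := hsurj v hv0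
    refine ⟨d, ⟨⟨hd, ?_, (hcom x hx d hd).1 hv.1⟩, ((hcom y hy d hd).1 hv.2).symm⟩, rfl⟩
    intro e'
    exact hxy ((hcom y hy x hx).1 (e' ▸ hv.2)).symm
  have : Nontrivial K := Module.nontrivial_of_finrank_pos (R := ZMod 2) (by omega)
  obtain ⟨a, ha0⟩ := exists_ne (0 : K)
  obtain ⟨p, q, hp, hq, hpq⟩ := exists_pair_ker (((L (a : _)).comp K.subtype).prod (0 : K →ₗ[ZMod 2] ZMod 2))
    hK4
  obtain ⟨w, hw, hw0, hwa⟩ : ∃ w : K, sf (a : Fin m ⊕ Fin m → ZMod 2) (w : Fin m ⊕ Fin m → ZMod 2) = 0 ∧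
      w ≠ 0 ∧ w ≠ a := by
    have hp0 : p ≠ 0 := fun e' => one_ne_zero (hpq 1 0 (by rw [e', smul_zero, zero_smul, add_zero])).1
    have hq0 : q ≠ 0 := fun e' => one_ne_zero (hpq 0 1 (by rw [e', smul_zero, zero_smul, add_zero])).2
    by_cases hpa : p = a
    · refine ⟨q, congrArg Prod.fst hq, hq0, fun e' => one_ne_zero (hpq 1 1 ?_).1⟩
      rw [one_smul, one_smul, hpa, e', ZModModule.add_self]
    · exact ⟨p, congrArg Prod.fst hp, hp0, hpa⟩
  obtain ⟨d, hd, hde⟩ := hmem a.2 fun e' => ha0 (Subtype.ext e')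
  obtain ⟨d', hd', hde'⟩ := hmem w.2 fun e' => hw0 (Subtype.ext e')
  have hc : Commute d d' := (hcom d hd.1.1 d' hd'.1.1).1 (by rw [hde, hde']; exact hw)
  exact hwa (Subtype.ext (by rw [← hde', ← hde, hthin d hd d' hd' hc]))

end Polar

end Cfsg.Agent.Fischer.Twin
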