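import Cfsg.Agent.Lib.Fischer.Twin.Fibre

/-!
Descent to a subset in which common neighbours of non-commuting pairs never commute; lines have three or five
members.
-/

set_option autoImplicit false
set_option linter.unusedSectionVars false

namespace Cfsg.Agent.Fischer.Twin

variable {G : Type*} [Group G] {D : Set G}

/-- a closed subset containing its lines and without radical -/
structure Sub (D X : Set G) : Prop where
  sub : X ⊆ D
  conj : ∀ a ∈ X, ∀ b ∈ X, cj a b ∈ X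
  line : ∀ a ∈ X, ∀ e ∈ X, e ∈ nbr D a → ln D a e ⊆ X
  rad : ∀ e ∈ X, ∃ v ∈ X, ¬ Commute e v
  pair : ∃ a ∈ X, ∃ e ∈ X, e ∈ nbr D a

theorem com_comm {a b : G} (ha : a ∈ D) (hb : b ∈ D) (hn : ¬ Commute a b) :
    Hyp.com D a b = Hyp.com D b a := by
  ext t
  simp only [Hyp.com, nbr, Set.mem_setOf_eq]
  exact ⟨fun ⟨⟨h1, _, h3⟩, h4⟩ => ⟨⟨h1, fun e => hn (e ▸ h3), h4.symm⟩, h3.symm⟩,
    fun ⟨⟨h1, _, h3⟩, h4⟩ => ⟨⟨h1, fun e => hn (e ▸ h3.symm), h4.symm⟩, h3.symm⟩⟩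

namespace Polar

variable (h : Polar D)
include h

variable [Finite G]

theorem sub_top : Sub D D := by
  refine ⟨subset_rfl, fun a _ b hb => h.mem_cj a hb, fun a _ e _ _ u hu => hu.1, fun e he => ?_, ?_⟩
  · exact Spor.exists_braid h.hyp.cls h.hyp.prim.2.1 he
  · obtain ⟨a, ha, b, hb, hne, hc⟩ := h.hyp.width
    exact ⟨a, ha, b, hb, hb, hne.symm, hc⟩

theorem com_rad {X : Set G} (hX : Sub D X) {x y : G} (hx : x ∈ X) (hy : y ∈ X) (hxy : ¬ Commute x y) :
    ∀ e ∈ X ∩ Hyp.com D x y, ∃ v ∈ X ∩ Hyp.com D x y, ¬ Commute e v := by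
  have hxD := hX.sub hx
  have hyD := hX.sub hy
  intro e he
  by_contra hrad
  push Not at hrad
  have key : ∀ {a b : G}, a ∈ X → b ∈ D → ¬ Commute a b → e ∈ nbr D a →
      (∀ t ∈ X, t ∈ nbr D a → Commute t b → Commute e t) → ∀ p ∈ X, p ∈ nbr D a → Commute e p := by
    intro a b ha hb hab hea hall p hp hpa
    obtain ⟨u, hu, hua, hub, -⟩ := h.exists_rep (hX.sub ha) hb hab hpa
    exact h.ln_all (hX.sub ha) hpa (ln_left (hX.sub ha)) hu hua.2.1.symm (ln_right hpa.1) hea.1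
      hea.2.2.symm (hall u (hX.line a ha p hp hpa hu) hua hub)
  have hyx : ¬ Commute y x := fun c => hxy c.symm
  have hx' := key hx hyD hxy he.2.1 fun t ht htx hty => hrad t ⟨ht, htx, hty⟩
  have hey : e ∈ nbr D y := ⟨he.2.1.1, fun e' => hxy (e' ▸ he.2.1.2.2), he.2.2.symm⟩
  have hy' := key hy hxD hyx hey fun t ht hty htx =>
    hrad t ⟨ht, (com_comm hxD hyD hxy) ▸ (show t ∈ Hyp.com D y x from ⟨hty, htx⟩)⟩
  obtain ⟨v, hv, hev⟩ := hX.rad e he.1
  have hvx : ¬ Commute x v := fun c => by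
    by_cases e' : v = x
    · exact hev (e' ▸ he.2.1.2.2.symm)
    · exact hev (hx' v hv ⟨hX.sub hv, e', c⟩)
  have hvy : ¬ Commute y v := fun c => by
    by_cases e' : v = y
    · exact hev (e' ▸ he.2.2)
    · exact hev (hy' v hv ⟨hX.sub hv, e', c⟩)
  obtain ⟨u, hu, hux, huv, -⟩ := h.exists_rep hxD (hX.sub hv) hvx he.2.1
  have huX := hX.line x hx e he.1 he.2.1 hu
  have heu : Commute e u := h.ln_clique hxD he.2.1 (ln_right he.2.1.1) hu
  have hun : u ∈ nbr D v := ⟨hux.1, fun e' => hev (e' ▸ heu), huv.symm⟩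
  obtain ⟨w, hw, hwy⟩ := h.exists_perp (hX.sub hv) hun hyD
  have hwX := hX.line v hv u huX hun hw
  have hew : Commute e w := by
    by_cases e' : w = y
    · exact e' ▸ he.2.2
    · exact hy' w hwX ⟨hX.sub hwX, e', hwy.symm⟩
  by_cases hwu : w = u
  · subst hwu
    have hue : w ≠ e := fun e' => hev (e' ▸ huv)
    exact hxy (h.ln_all hxD he.2.1 hu (ln_right he.2.1.1) hue (ln_left hxD) hyD hwy.symm he.2.2.symm).symm
  · exact hev (h.ln_all (hX.sub hv) hun hw (ln_right hun.1) hwu (ln_left (hX.sub hv)) he.2.1.1 hew heu)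

/-- the common neighbours of a non-commuting pair again form such a subset if two of them commute -/
theorem sub_com {X : Set G} (hX : Sub D X) {x y : G} (hx : x ∈ X) (hy : y ∈ X) (hxy : ¬ Commute x y)
    (hp : ∃ p ∈ X ∩ Hyp.com D x y, ∃ q ∈ X ∩ Hyp.com D x y, Commute p q ∧ p ≠ q) :
    Sub D (X ∩ Hyp.com D x y) := by
  have hxD := hX.sub hx
  have hyD := hX.sub hy
  refine ⟨fun u hu => hX.sub hu.1, fun a ha b hb => ⟨hX.conj a ha.1 b hb.1, h.com_closed ha.2 hb.2⟩,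
    fun a ha e he hae u hu => ⟨hX.line a ha.1 e he.1 hae hu, ?_⟩, fun e he => ?_, ?_⟩
  · have h1 : Commute x u := hu.2 x hxD ha.2.1.2.2 he.2.1.2.2
    have h2 : Commute y u := hu.2 y hyD ha.2.2.symm he.2.2.symm
    exact ⟨⟨hu.1, fun e' => hxy (e' ▸ h2).symm, h1⟩, h2.symm⟩
  · exact h.com_rad hX hx hy hxy e he
  · obtain ⟨p, hp, q, hq, hc, hne⟩ := hp
    exact ⟨p, hp, q, hq, hX.sub hq.1, hne.symm, hc⟩

theorem exists_thin_sub : ∃ X, Sub D X ∧ ∀ x ∈ X, ∀ y ∈ X, ¬ Commute x y →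
    ∀ p ∈ X ∩ Hyp.com D x y, ∀ q ∈ X ∩ Hyp.com D x y, Commute p q → p = q := by
  suffices H : ∀ n, ∀ X : Set G, Sub D X → X.ncard = n → ∃ X, Sub D X ∧ ∀ x ∈ X, ∀ y ∈ X, ¬ Commute x y →
      ∀ p ∈ X ∩ Hyp.com D x y, ∀ q ∈ X ∩ Hyp.com D x y, Commute p q → p = q from H _ D h.sub_top rfl
  intro n
  induction n using Nat.strong_induction_on with
  | _ n ih =>
    intro X hX hn
    by_contra hc
    obtain ⟨x, hx, y, hy, hxy, p, hp, q, hq, hpq, hne⟩ : ∃ x ∈ X, ∃ y ∈ X, ¬ Commute x y ∧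
        ∃ p ∈ X ∩ Hyp.com D x y, ∃ q ∈ X ∩ Hyp.com D x y, Commute p q ∧ p ≠ q := by
      by_contra h'
      push Not at h'
      exact hc ⟨X, hX, h'⟩
    refine hc (ih _ ?_ _ (h.sub_com hX hx hy hxy ⟨p, hp, q, hq, hpq, hne⟩) rfl)
    rw [← hn]
    refine Set.ncard_lt_ncard ⟨Set.inter_subset_left, fun hs => ?_⟩ (Set.toFinite _)
    exact (hs hx).2.1.2.1 rfl

theorem cls_two {a e : G} (ha : a ∈ D) (he : e ∈ nbr D a) :
    ∃ m, (cls D a e).ncard ∣ 2 ^ m ∧ 2 ≤ (cls D a e).ncard := by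
  haveI : Fact (Nat.Prime 2) := ⟨Nat.prime_two⟩
  obtain ⟨x, hx, hax⟩ := Spor.exists_braid h.hyp.cls h.hyp.prim.2.1 ha
  obtain ⟨P, hP⟩ := h.hyp.exists_common ha hx hax
  obtain ⟨f, hf, hfP⟩ := h.exists_other ha hP.1
  have h2 : 2 ≤ (cls D a e).ncard := by
    rw [h.cls_ncard ha he ha hP.1, ← Set.ncard_pair hfP]
    exact Set.ncard_le_ncard (Set.insert_subset hf (Set.singleton_subset_iff.2 (h.self_cls hP.1))) (Set.toFinite _)
  -- a member not commuting with `P`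
  obtain ⟨r, hr, hPr⟩ : ∃ r ∈ nbr D a, ¬ Commute P r := by
    obtain ⟨w, hw, haw, hne, hPw⟩ := h.hyp.exists_sep ha hP.1
    by_contra hall
    push Not at hall
    have hsub : nbr D a ⊆ insert P (nbr D P) := fun r hr => by
      by_cases e' : r = P
      · exact Or.inl e'
      · exact Or.inr ⟨hr.1, e', hall r hr⟩
    obtain ⟨d, hd, hdw⟩ := h.hyp.exists_join ha hw haw (Q := nbr D a) subset_rfl ⟨P, hP.1⟩
      (fun z hz => Or.inl hz)
    have hc := h.hyp.nbr_conn ha hP.1 hd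
    rcases Relation.ReflTransGen.cases_head hc with e' | ⟨q, hq, -⟩
    · exact hdw (e' ▸ hPw.symm)
    · exact hq.2.2 (hall q hq.2.1)
  obtain ⟨Q, hQ, hQn, hQx, -⟩ := h.exists_rep ha hx hax hr
  have hPQ : ¬ Commute P Q := fun c => hPr
    (h.ln_all ha hr (ln_left ha) hQ hQn.2.1.symm (ln_right hr.1) hP.1.1 hP.1.2.2.symm c)
  have hQc : Q ∈ Hyp.com D a x := ⟨hQn, hQx⟩
  have himg : (fun g => g * P * g⁻¹) '' (tw D a Q : Set G) = cls D a P := by
    ext v
    constructor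
    · rintro ⟨g, hg, rfl⟩; exact h.tw_cls ha hx hax hP hQc hPQ hg P (h.self_cls hP.1)
    · intro hv
      obtain ⟨g, hg, rfl⟩ := h.tw_trans ha hx hax hP hQc hPQ hv
      exact ⟨g, hg, rfl⟩
  obtain ⟨m, hm⟩ := IsPGroup.iff_card.1 (((Solv.pCore_isPGroup 2).map _).to_le (h.tw_le_core ha hQn))
  refine ⟨m, ?_, h2⟩
  rw [h.cls_ncard ha he ha hP.1, ← himg, Spor.conj_image_ncard, ← hm]
  exact Subgroup.relIndex_dvd_card _ _

/-- a class has two or four members -/
theorem cls_bound {a e : G} (ha : a ∈ D) (he : e ∈ nbr D a) :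
    (cls D a e).ncard = 2 ∨ (cls D a e).ncard = 4 := by
  classical
  obtain ⟨s, hs⟩ : ∃ s, s = (cls D a e).ncard := ⟨_, rfl⟩
  rw [← hs]
  obtain ⟨X, hX, hthin⟩ := h.exists_thin_sub
  have hsz : ∀ {p q : G}, p ∈ D → q ∈ nbr D p → (cls D p q).ncard = s := fun hp hq =>
    hs ▸ h.cls_ncard hp hq ha he
  obtain ⟨m₂, hdvd, h2⟩ := h.cls_two ha he
  rw [← hs] at hdvd h2
  -- degrees
  have hdeg : ∀ {p q : G}, p ∈ X → q ∈ X → ¬ Commute p q →
      (X ∩ nbr D p).ncard = s * (X ∩ Hyp.com D p q).ncard := by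
    intro p q hp hq hpq
    have hrep : ∀ d, ∃ u, d ∈ X ∩ nbr D p → u ∈ ln D p d ∧ u ∈ nbr D p ∧ Commute u q := fun d => by
      by_cases hd : d ∈ X ∩ nbr D p
      · obtain ⟨u, hu, hun, huq, -⟩ := h.exists_rep (hX.sub hp) (hX.sub hq) hpq hd.2
        exact ⟨u, fun _ => ⟨hu, hun, huq⟩⟩
      · exact ⟨d, fun h' => absurd h' hd⟩
    choose f hf using hrep
    have h1 := Finset.card_eq_sum_card_fiberwise (f := f) (s := (X ∩ nbr D p).toFinite.toFinset)
      (t := (X ∩ Hyp.com D p q).toFinite.toFinset) fun d hd => by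
        simp only [Set.Finite.coe_toFinset] at hd ⊢
        have := hf d hd
        exact ⟨hX.line p hp d hd.1 hd.2 this.1, this.2.1, this.2.2⟩
    rw [Set.ncard_eq_toFinset_card _ (Set.toFinite _), Set.ncard_eq_toFinset_card _ (Set.toFinite _), h1,
      Finset.sum_const_nat fun t ht => ?_, mul_comm]
    rw [Set.Finite.mem_toFinset] at ht
    rw [← hsz (hX.sub hp) ht.2.1, Set.ncard_eq_toFinset_card _ (Set.toFinite _)]
    congr 1
    ext d
    simp only [Finset.mem_filter, Set.Finite.mem_toFinset]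
    constructor
    · rintro ⟨hd, rfl⟩
      have := hf d hd
      rw [cls, h.ln_eq (hX.sub hp) hd.2 this.1 this.2.1.2.1]
      exact ⟨ln_right hd.2.1, hd.2.2.1⟩
    · intro hd
      have hdX : d ∈ X ∩ nbr D p :=
        ⟨hX.line p hp t ht.1 ht.2.1 hd.1, h.cls_nbr (hX.sub hp) ht.2.1 hd⟩
      refine ⟨hdX, ?_⟩
      have := hf d hdX
      rw [h.ln_eq (hX.sub hp) ht.2.1 hd.1 hd.2] at this
      exact h.com_unique (hX.sub hp) (hX.sub hq) hpq ht.2 ⟨this.1, this.2.1.2.1⟩ this.2.2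
  have hsym : ∀ {p q : G}, p ∈ X → q ∈ X → ¬ Commute p q → (X ∩ nbr D p).ncard = (X ∩ nbr D q).ncard :=
    fun {p q} hp hq hpq => by
      rw [hdeg hp hq hpq, hdeg hq hp fun c => hpq c.symm, com_comm (hX.sub hp) (hX.sub hq) hpq]
  have hconst : ∀ {p q : G}, p ∈ X → q ∈ X → (X ∩ nbr D p).ncard = (X ∩ nbr D q).ncard := by
    intro p q hp hq
    by_cases hpq : Commute p q
    swap
    · exact hsym hp hq hpq
    by_cases e' : p = q
    · rw [e']
    obtain ⟨c, hc, hpc⟩ := hX.rad p hp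
    by_cases hcq : Commute c q
    swap
    · exact (hsym hp hc hpc).trans (hsym hc hq hcq)
    obtain ⟨c', hc', hqc'⟩ := hX.rad q hq
    by_cases hpc' : Commute p c'
    swap
    · exact (hsym hp hc' hpc').trans (hsym hq hc' hqc').symm
    have hn : q ∈ nbr D p := ⟨hX.sub hq, fun e'' => e' e''.symm, hpq⟩
    obtain ⟨u, hu, hup, huq⟩ := h.twin p (hX.sub hp) q hn
    have huX := hX.line p hp q hq hn hu
    have h1 : ¬ Commute c u := fun c1 => hpc (h.ln_all (hX.sub hp) hn hu (ln_right hn.1) huq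
      (ln_left (hX.sub hp)) (hX.sub hc) c1 hcq).symm
    have h2' : ¬ Commute c' u := fun c1 => hqc' (h.ln_all (hX.sub hp) hn hu (ln_left (hX.sub hp)) hup
      (ln_right hn.1) (hX.sub hc') c1 hpc'.symm).symm
    exact (hsym hp hc hpc).trans ((hsym hc huX h1).trans ((hsym huX hc' fun c1 => h2' c1.symm).trans
      (hsym hq hc' hqc').symm))
  -- common neighbours of a commuting pair
  have hcomm2 : ∀ {p q r : G}, p ∈ X → q ∈ X → q ∈ nbr D p → r ∈ X → r ∈ nbr D p → Commute r q →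
      r ∈ cls D p q := by
    intro p q r hp hq hqp hr hrp hc
    obtain ⟨v, hv, hpv⟩ := hX.rad p hp
    obtain ⟨t, ht, htn, htv, -⟩ := h.exists_rep (hX.sub hp) (hX.sub hv) hpv hqp
    obtain ⟨t', ht', htn', htv', -⟩ := h.exists_rep (hX.sub hp) (hX.sub hv) hpv hrp
    have h1 : Commute r t := ht.2 r hrp.1 hrp.2.2.symm hc
    have h2 : Commute t t' := ht'.2 t htn.1 htn.2.2.symm h1.symm
    have e' := hthin p hp v hv hpv t ⟨hX.line p hp q hq hqp ht, htn, htv⟩ t'
      ⟨hX.line p hp r hr hrp ht', htn', htv'⟩ h2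
    refine ⟨?_, hrp.2.1⟩
    rw [← h.ln_eq (hX.sub hp) hqp ht htn.2.1, e', h.ln_eq (hX.sub hp) hrp ht' htn'.2.1]
    exact ln_right hrp.1
  obtain ⟨x, hx, e₀, he₀, hne₀⟩ := hX.pair
  obtain ⟨y, hy, hxy⟩ := hX.rad x hx
  obtain ⟨T, hT⟩ : ∃ T, T = X ∩ Hyp.com D x y := ⟨_, rfl⟩
  obtain ⟨k, hk⟩ : ∃ k, k = (X ∩ nbr D x).ncard := ⟨_, rfl⟩
  obtain ⟨m, hm⟩ : ∃ m, m = T.ncard := ⟨_, rfl⟩
  have hkm : k = s * m := by rw [hk, hm, hT, hdeg hx hy hxy]
  have hTh : Thin D x y T := hT ▸ ⟨hX.sub hx, hX.sub hy, hxy, fun t ht => ht.2,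
    fun t ht u hu => ⟨hX.conj t ht.1 u hu.1, h.com_closed ht.2 hu.2⟩, fun t ht u hu => hthin x hx y hy hxy t ht u hu⟩
  have hm1 : 1 ≤ m := by
    have : 0 < k := by
      rw [hk, Set.ncard_pos (Set.toFinite _)]; exact ⟨e₀, he₀, hne₀⟩
    rw [hkm] at this
    exact Nat.pos_of_mul_pos_left this
  obtain ⟨P, hP⟩ : T.Nonempty := Set.nonempty_of_ncard_ne_zero (by omega)
  have hPX : P ∈ X := (hT ▸ hP : P ∈ X ∩ Hyp.com D x y).1
  have hPc := hTh.sub hP
  -- the members outside `x`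
  obtain ⟨Y, hY⟩ : ∃ Y, Y = {d | d ∈ X ∧ ¬ Commute x d} := ⟨_, rfl⟩
  have hYcard : Y.ncard + s * s = s * k := by
    have hrep : ∀ d, ∃ u, d ∈ Y → u ∈ cls D x P ∧ Commute u d ∧ ∀ u' ∈ cls D x P, Commute u' d → u' = u := fun d => by
      by_cases hd : d ∈ Y
      · rw [hY] at hd
        obtain ⟨u, hu, hun, hud, huniq⟩ := h.exists_rep (hX.sub hx) (hX.sub hd.1) hd.2 hPc.1
        exact ⟨u, fun _ => ⟨⟨hu, hun.2.1⟩, hud, fun u' h' => huniq u' h'.1⟩⟩
      · exact ⟨d, fun h' => absurd h' hd⟩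
    choose f hf using hrep
    have h1 := Finset.card_eq_sum_card_fiberwise (f := f) (s := Y.toFinite.toFinset)
      (t := (cls D x P).toFinite.toFinset) fun d hd => by
        simp only [Set.Finite.coe_toFinset] at hd ⊢
        exact (hf d hd).1
    rw [← Set.ncard_eq_toFinset_card Y (Set.toFinite _)] at h1
    have hfib : ∀ u ∈ (cls D x P).toFinite.toFinset,
        (Y.toFinite.toFinset.filter fun d => f d = u).card = k - s := by
      intro u hu
      rw [Set.Finite.mem_toFinset] at hu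
      have hun := h.cls_nbr (hX.sub hx) hPc.1 hu
      have huX := hX.line x hx P hPX hPc.1 hu.1
      have hxu : x ∈ nbr D u := ⟨hX.sub hx, hun.2.1.symm, hun.2.2.symm⟩
      have hsub : cls D u x ⊆ X ∩ nbr D u := fun d hd =>
        ⟨hX.line u huX x hx hxu hd.1, h.cls_nbr hun.1 hxu hd⟩
      rw [show k - s = ((X ∩ nbr D u) \ cls D u x).ncard by
        rw [Set.ncard_sdiff hsub (Set.toFinite _), hsz hun.1 hxu, hk, hconst hx huX],
        Set.ncard_eq_toFinset_card _ (Set.toFinite _)]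
      congr 1
      ext d
      simp only [Finset.mem_filter, Set.Finite.mem_toFinset, Set.mem_sdiff, Set.mem_inter_iff]
      constructor
      · rintro ⟨hd, rfl⟩
        have := hf d hd
        rw [hY] at hd
        refine ⟨⟨hd.1, hX.sub hd.1, fun e' => hd.2 (e' ▸ hun.2.2), this.2.1⟩, fun hc => hd.2 ?_⟩
        exact (h.cls_commute hun.1 hxu (h.self_cls hxu) hc)
      · rintro ⟨⟨hd, hdu⟩, hnc⟩
        have hdY : d ∈ Y := by
          rw [hY]
          refine ⟨hd, fun c => hnc ?_⟩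
          exact hcomm2 huX hx hxu hd hdu c.symm
        exact ⟨hdY, ((hf d hdY).2.2 u hu hdu.2.2).symm⟩
    rw [Finset.sum_const_nat hfib, ← Set.ncard_eq_toFinset_card _ (Set.toFinite _),
      hsz (hX.sub hx) hPc.1] at h1
    have hsk : s ≤ k := hkm ▸ Nat.le_mul_of_pos_right s hm1
    rw [h1, ← Nat.mul_add, Nat.sub_add_cancel hsk]
  have hyY : y ∈ Y := hY ▸ ⟨hy, hxy⟩
  by_cases h3 : 3 < m
  · right
    have hYc : ∀ t ∈ T, ∀ b ∈ cls D x t, ∀ d ∈ Y, cj b d ∈ Y := fun t ht b hb d hd => by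
      rw [hY] at hd ⊢
      have htX : t ∈ X ∩ Hyp.com D x y := hT ▸ ht
      have hbX := hX.line x hx t htX.1 htX.2.1 hb.1
      refine ⟨hX.conj b hbX d hd.1, fun c => hd.2 ?_⟩
      rwa [← cj_fix (h.cls_nbr (hX.sub hx) htX.2.1 hb).2.2.symm, cj_commute] at c
    have hYx : ∀ d ∈ Y, cj x d ∈ Y := fun d hd => by
      rw [hY] at hd ⊢
      refine ⟨hX.conj x hx d hd.1, fun c => hd.2 ?_⟩
      exact (cj_commute x).1 (by rw [cj_fix (Commute.refl x)]; exact c)
    obtain ⟨P', hP', h4, h5⟩ := hTh.fibre h hyY hYc hYx (fun d hd => by rw [hY] at hd; exact hd.2) (hm ▸ h3)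
    rw [hsz (hX.sub hx) (hTh.sub hP').1] at h4 h5
    by_contra hne
    have h6 := h5 (by omega)
    have hm9 : m ≤ 9 := hm ▸ hTh.ncard_le h
    have : s * k ≤ 9 * (s * s) := by rw [hkm]; nlinarith
    have : 0 < s * s := Nat.mul_pos (by omega) (by omega)
    omega
  -- three classes
  have hm3 : m = 3 := by
    obtain ⟨Q, hQ, hne⟩ : ∃ Q ∈ T, Q ≠ P := by
      by_contra hc
      push Not at hc
      have h1 := Set.ncard_le_ncard (show T ⊆ {P} from fun q hq => hc q hq) (Set.toFinite _)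
      rw [Set.ncard_singleton, ← hm] at h1
      have h0 : 0 < Y.ncard := (Set.ncard_pos (Set.toFinite _)).2 ⟨y, hyY⟩
      have : s * k = s * s := by rw [hkm, show m = 1 by omega, mul_one]
      omega
    have hn3 := hTh.nc h hP hQ hne.symm
    have e1 : P ≠ cj P Q := fun e' => hne (cj_inj (e'.symm.trans (cj_fix (Commute.refl P)).symm))
    have e2 : Q ≠ cj P Q := fun e' => hn3 (commute_of_cj e'.symm)
    have : ({P, Q, cj P Q} : Set G) ⊆ T := by
      rintro t (rfl | rfl | rfl)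
      exacts [hP, hQ, hTh.closed _ hP _ hQ]
    have h1 := Set.ncard_le_ncard this (Set.toFinite _)
    rw [Set.ncard_insert_of_notMem (by simp [hne.symm, e1]) (Set.toFinite _), Set.ncard_pair e2, ← hm] at h1
    omega
  subst hm3
  -- the multiplicity
  haveI : Fintype X := Fintype.ofFinite _
  let A : Matrix X X ℝ := Matrix.of fun u v => if (v : G) ∈ nbr D u then 1 else 0
  let J : Matrix X X ℝ := Matrix.of fun _ _ => 1
  have hcard : ∀ S : Set G, S ⊆ X → ∑ v : X, (if (v : G) ∈ S then (1 : ℝ) else 0) = (S.ncard : ℝ) := by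
    intro S hS
    rw [Finset.sum_boole, Nat.cast_inj, ← Set.ncard_coe_finset,
      ← Set.ncard_image_of_injective _ Subtype.val_injective]
    congr 1
    ext z
    constructor
    · rintro ⟨v, hv, rfl⟩; simpa using hv
    · intro hz; exact ⟨⟨z, hS hz⟩, by simpa using hz, rfl⟩
  have hreg : ∀ u : X, ∑ v : X, A u v = (k : ℝ) := fun u => by
    simp only [A, Matrix.of_apply]
    rw [hk, hconst hx u.2, ← hcard _ Set.inter_subset_left]
    exact Finset.sum_congr rfl fun v _ => by simp [v.2]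
  have hsymA : ∀ u v : X, (v : G) ∈ nbr D u ↔ (u : G) ∈ nbr D v := fun u v =>
    ⟨fun hh => ⟨hX.sub u.2, hh.2.1.symm, hh.2.2.symm⟩, fun hh => ⟨hX.sub v.2, hh.2.1.symm, hh.2.2.symm⟩⟩
  have hsq : A * A = ((k : ℝ) - 3) • (1 : Matrix X X ℝ) + ((s : ℝ) - 4) • A + (3 : ℝ) • J := by
    ext u w
    rw [Matrix.mul_apply]
    have hh : ∑ v : X, A u v * A v w = ((X ∩ nbr D u ∩ nbr D w).ncard : ℝ) := by
      rw [← hcard _ fun z hz => hz.1.1]
      refine Finset.sum_congr rfl fun v _ => ?_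
      simp only [A, Matrix.of_apply, Set.mem_inter_iff, hsymA v w, v.2, true_and]
      split_ifs <;> simp_all
    rw [hh]
    by_cases huw : u = w
    · subst huw
      have : (u : G) ∉ nbr D u := fun h' => h'.2.1 rfl
      have e' : (X ∩ nbr D u ∩ nbr D u).ncard = k := by rw [Set.inter_assoc, Set.inter_self, hk, hconst hx u.2]
      simp [A, J, this, e']
    by_cases hadj : (w : G) ∈ nbr D u
    · have hc := h.self_cls hadj
      have e' : X ∩ nbr D u ∩ nbr D w = cls D u w \ {(w : G)} := by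
        ext r
        constructor
        · rintro ⟨⟨hr, hru⟩, hrw⟩
          exact ⟨hcomm2 u.2 w.2 hadj hr hru hrw.2.2.symm, hrw.2.1⟩
        · rintro ⟨hr, hne⟩
          have hrn := h.cls_nbr (hX.sub u.2) hadj hr
          exact ⟨⟨hX.line u u.2 w w.2 hadj hr.1, hrn⟩, hrn.1, hne,
            (h.cls_commute (hX.sub u.2) hadj hc hr)⟩
      rw [e', Set.ncard_sdiff_singleton_of_mem hc, hsz (hX.sub u.2) hadj]
      have : ((s - 1 : ℕ) : ℝ) = (s : ℝ) - 1 := by rw [Nat.cast_sub (by omega)]; simp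
      simp [A, J, hadj, huw, this]
      ring
    · have hn : ¬ Commute (u : G) w := fun c => hadj ⟨hX.sub w.2, fun e' => huw (Subtype.ext e'.symm), c⟩
      have e' : X ∩ nbr D u ∩ nbr D w = X ∩ Hyp.com D u w := by
        ext r
        constructor
        · rintro ⟨⟨hr, hru⟩, hrw⟩; exact ⟨hr, hru, hrw.2.2.symm⟩
        · rintro ⟨hr, hru, hrw⟩
          exact ⟨⟨hr, hru⟩, hX.sub hr, fun e'' => hn (e'' ▸ hru.2.2), hrw.symm⟩
      have h3' : (X ∩ Hyp.com D (u : G) w).ncard = 3 := by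
        have h1 := hdeg u.2 w.2 hn
        rw [← hconst hx u.2, ← hk, hkm] at h1
        exact (Nat.eq_of_mul_eq_mul_left (by omega) h1).symm
      rw [e', h3']
      simp [A, J, hadj, huw]
  obtain ⟨N, hN⟩ : ∃ N : ℕ, N = Fintype.card X := ⟨_, rfl⟩
  have hJJ : J * J = (N : ℝ) • J := by
    ext i j
    simp [J, Matrix.mul_apply, hN]
  have hrow : A * J = (k : ℝ) • J := by
    ext i j
    simp [J, Matrix.mul_apply, hreg]
  have hcol : J * A = (k : ℝ) • J := by
    ext i j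
    rw [Matrix.mul_apply, Matrix.smul_apply]
    simp only [J, Matrix.of_apply, one_mul, smul_eq_mul, mul_one]
    rw [← hreg j]
    exact Finset.sum_congr rfl fun v _ => by simp only [A, Matrix.of_apply, hsymA v j]
  have hks : (k : ℝ) = 3 * s := by rw [hkm]; push_cast; ring
  have hNv : (N : ℝ) = (s + 1) * (2 * s + 1) := by
    have e' := congrArg (fun M => M * J) hsq
    simp only [Matrix.mul_assoc, hrow, mul_smul_comm, add_mul, smul_mul_assoc, one_mul, hJJ, smul_smul] at e'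
    have := congrFun (congrFun e' ⟨x, hx⟩) ⟨x, hx⟩
    simp [J] at this
    rw [hks] at this
    linarith
  have hN0 : (N : ℝ) ≠ 0 := by rw [hNv]; positivity
  obtain ⟨c, hc⟩ : ∃ c : ℝ, c = ((k : ℝ) + 3) / N := ⟨_, rfl⟩
  have hcN : c * N = 3 * s + 3 := by rw [hc, div_mul_cancel₀ _ hN0, hks]
  set M : Matrix X X ℝ := ((s : ℝ) + 2)⁻¹ • (A + (3 : ℝ) • (1 : Matrix X X ℝ) - c • J) with hM
  have hs0 : (s : ℝ) + 2 ≠ 0 := by positivity
  have hc2 : c * (2 * s + 1) = 3 := by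
    have h1 : ((s : ℝ) + 1) ≠ 0 := by positivity
    rw [hNv] at hcN
    refine mul_left_cancel₀ h1 ?_
    linarith
  have hMM : M * M = M := by
    simp only [hM, sub_mul, mul_sub, add_mul, mul_add, smul_mul_assoc, mul_smul_comm, one_mul, mul_one, hrow,
      hcol, hJJ, hsq, smul_smul, smul_add, smul_sub]
    match_scalars <;> field_simp
    all_goals first | ring1 | (rw [hks]; linear_combination c * hcN - hc2) | (rw [hks]; ring1)
  have hidem : IsIdempotentElem (Matrix.toLin' M) := by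
    show Matrix.toLin' M * Matrix.toLin' M = Matrix.toLin' M
    rw [Module.End.mul_eq_comp, ← Matrix.toLin'_mul, hMM]
  have htr := (LinearMap.IsIdempotentElem.isProj_range _ hidem).trace
  rw [Matrix.trace_toLin'_eq] at htr
  obtain ⟨r, hr⟩ : ∃ r, r = Module.finrank ℝ (LinearMap.range (Matrix.toLin' M)) := ⟨_, rfl⟩
  rw [← hr] at htr
  have htrM : M.trace = ((s : ℝ) + 2)⁻¹ * (3 * N - (3 * s + 3)) := by
    rw [hM, Matrix.trace_smul, smul_eq_mul]
    congr 1
    have hd : ∀ i : X, A i i = 0 := fun i => by simp [A, show (i : G) ∉ nbr D i from fun h' => h'.2.1 rfl]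
    simp [Matrix.trace, J, hd, ← hN, ← hcN]
    ring
  rw [htrM, hNv] at htr
  have hdiv : (6 * s * (s + 1) : ℕ) = (s + 2) * r := by
    field_simp at htr
    have : ((6 * s * (s + 1) : ℕ) : ℝ) = (((s + 2) * r : ℕ) : ℝ) := by push_cast; linarith
    exact_mod_cast this
  have h12 : s + 2 ∣ 12 := by
    have h2' : s + 2 ∣ 6 * s * (s + 1) := Dvd.intro r hdiv.symm
    have h3' : s + 2 ∣ 6 * (s + 2) * s := ⟨6 * s, by ring⟩
    have e' : 6 * (s + 2) * s = 6 * s * (s + 1) + 6 * s := by ring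
    rw [e'] at h3'
    have h4 : s + 2 ∣ 6 * s := (Nat.dvd_add_right h2').1 h3'
    have h5 : s + 2 ∣ 6 * s + 12 := ⟨6, by ring⟩
    exact (Nat.dvd_add_right h4).1 h5
  have hle : s ≤ 10 := by have := Nat.le_of_dvd (by norm_num) h12; omega
  have key : ∀ t ≤ 10, 2 ≤ t → t + 2 ∣ 12 → t = 2 ∨ t = 4 ∨ t = 10 := by decide
  rcases key s hle h2 h12 with e' | e' | e'
  · exact Or.inl e'
  · exact Or.inr e'
  -- ten is no power of two
  have h5 : (5 : ℕ) ∣ 2 ^ m₂ := (e'.symm ▸ (by norm_num) : (5 : ℕ) ∣ s).trans hdvd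
  exact absurd ((by norm_num : Nat.Prime 5).dvd_of_dvd_pow h5) (by norm_num)

/-- a line has three or five members -/
theorem ln_bound {a e : G} (ha : a ∈ D) (he : e ∈ nbr D a) :
    (ln D a e).ncard = 3 ∨ (ln D a e).ncard = 5 := by
  have h1 := h.cls_bound ha he
  rw [cls, Set.ncard_sdiff_singleton_of_mem (ln_left ha)] at h1
  omega

end Polar

end Cfsg.Agent.Fischer.Twin
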