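import Cfsg.Agent.Lib.Fischer.Twin.Quad
import Cfsg.Agent.Lib.Fischer.Twin.Iso
import Cfsg.Agent.Lib.Classical.SymplecticCount
import Cfsg.Agent.S0440

/-!
All lines with three members: the members are the nonzero vectors of a symplectic space over two elements.
-/

set_option autoImplicit false
set_option linter.unusedSectionVars false

namespace Cfsg.Agent.Fischer.Twin

open Cfsg.Agent.Classical
open Cfsg.Agent.Small.PSpn (sf act act_zero act_one sf_act sf_zero_right)

universe uV in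
/-- a space with a nondegenerate alternating form has even dimension -/
theorem even_finrank {F : Type} [Field F] : ∀ (k : ℕ) {V : Type uV} [AddCommGroup V] [Module F V]
    [FiniteDimensional F V] {B : V →ₗ[F] V →ₗ[F] F}, SpCount.IsAltND B → Module.finrank F V = k →
    ∃ m, k = 2 * m := by
  intro k
  induction k using Nat.strong_induction_on with
  | _ k ih =>
    intro V _ _ _ B hB hk
    rcases Nat.eq_zero_or_pos k with rfl | hpos
    · exact ⟨0, rfl⟩
    have : Nontrivial V := Module.nontrivial_of_finrank_pos (R := F) (by omega)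
    obtain ⟨v, hv⟩ := exists_ne (0 : V)
    obtain ⟨w, hw⟩ := Classical.SpCount.exists_pair hB hv
    have := Classical.SpCount.finrank_comp hB hw
    obtain ⟨m, hm⟩ := ih _ (by omega) (Classical.SpCount.res_isAltND hB hw) rfl
    exact ⟨m + 1, by omega⟩

theorem zmod_two : ∀ c : ZMod 2, c = 0 ∨ c = 1 := by decide

variable {G : Type*} [Group G] {D : Set G}

namespace Polar

variable (h : Polar D) [Finite G]
include h

theorem exists_nc {a P : G} (ha : a ∈ D) (hP : P ∈ nbr D a) : ∃ r ∈ nbr D a, ¬ Commute P r := by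
  obtain ⟨w, hw, haw, hne, hPw⟩ := h.hyp.exists_sep ha hP
  by_contra hall
  push Not at hall
  obtain ⟨d, hd, hdw⟩ := h.hyp.exists_join ha hw haw (Q := nbr D a) subset_rfl ⟨P, hP⟩ (fun z hz => Or.inl hz)
  rcases Relation.ReflTransGen.cases_head (h.hyp.nbr_conn ha hP hd) with e' | ⟨q, hq, -⟩
  · exact hdw (e' ▸ hPw.symm)
  · exact hq.2.2 (hall q hq.2.1)

/-- common neighbours include a non-commuting pair -/
theorem com_nc {a b P : G} (ha : a ∈ D) (hb : b ∈ D) (hab : ¬ Commute a b) (hP : P ∈ Hyp.com D a b) :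
    ∃ Q ∈ Hyp.com D a b, ¬ Commute P Q := by
  obtain ⟨r, hr, hPr⟩ := h.exists_nc ha hP.1
  obtain ⟨Q, hQ, hQn, hQb, -⟩ := h.exists_rep ha hb hab hr
  exact ⟨Q, ⟨hQn, hQb⟩, fun c => hPr
    (h.ln_all ha hr (ln_left ha) hQ hQn.2.1.symm (ln_right hr.1) hP.1.1 hP.1.2.2.symm c)⟩

section Three

variable (h3 : ∀ a ∈ D, ∀ e ∈ nbr D a, (ln D a e).ncard = 3)
include h3

theorem third_unique {a e u v : G} (ha : a ∈ D) (he : e ∈ nbr D a) (hu : u ∈ ln D a e) (hua : u ≠ a)
    (hue : u ≠ e) (hv : v ∈ ln D a e) (hva : v ≠ a) (hve : v ≠ e) : u = v := by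
  by_contra hne
  have hsub : ({a, e, u, v} : Set G) ⊆ ln D a e := by
    rintro w (rfl | rfl | rfl | rfl)
    exacts [ln_left ha, ln_right he.1, hu, hv]
  have := Set.ncard_le_ncard hsub (Set.toFinite _)
  rw [Set.ncard_insert_of_notMem (by simp [he.2.1.symm, hua.symm, hva.symm]) (Set.toFinite _),
    Set.ncard_insert_of_notMem (by simp [hue.symm, hve.symm]) (Set.toFinite _), Set.ncard_pair hne,
    h3 a ha e he] at this
  omega

theorem triangle_of_common {x d p q : G} (hd : d ∈ D) (hx : x ∈ D) (hp : p ∈ D)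
    (hq : q ∈ D) (hpq : ¬ Commute p q) (hdp : ¬ Commute d p) (hdq : ¬ Commute d q) (hxp : p ∈ nbr D x)
    (hxq : q ∈ nbr D x) (hdx : ¬ Commute d x) : Commute d (cj p q) := by
  have hperp : ∀ {b}, b ∈ nbr D x → ¬ Commute d b → ∃ b' ∈ ln D x b, b' ≠ x ∧ b' ≠ b ∧ Commute d b' := by
    intro b hb hdb
    obtain ⟨b', hb', hbd⟩ := h.exists_perp hx hb hd
    exact ⟨b', hb', fun e => hdx (e ▸ hbd).symm, fun e => hdb (e ▸ hbd).symm, hbd.symm⟩
  obtain ⟨p', hp', hp'x, hp'p, hdp'⟩ := hperp hxp hdp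
  obtain ⟨q', hq', hq'x, hq'q, hdq'⟩ := hperp hxq hdq
  obtain ⟨r, hr⟩ : ∃ r, r = cj p q := ⟨_, rfl⟩
  have hpx : cj p x = x := cj_fix hxp.2.2.symm
  have hqx : cj q x = x := cj_fix hxq.2.2.symm
  have hp'n := h.ln_nbr hx hxp hp' hp'x
  have hrn : r ∈ nbr D x := hr ▸ h.cj_nbr hpx hxq
  have hqp' : ¬ Commute q p' := fun c => hpq (h.ln_all hx hxp (ln_left hx) hp' hp'x.symm (ln_right hp) hq
    hxq.2.2.symm c).symm
  have h1 : cj p q' ∈ ln D x r := by
    have := h.cj_ln p hq'
    rwa [hpx, ← hr] at this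
  have h1x : cj p q' ≠ x := fun e => hq'x (cj_inj (e.trans hpx.symm))
  have h1r : cj p q' ≠ r := fun e => hq'q (cj_inj (e.trans hr))
  have h2 : cj q p' ∈ ln D x r := by
    have := h.cj_ln q hp'
    rwa [hqx, ← h.braid hp hq hpq, ← hr] at this
  have h2x : cj q p' ≠ x := fun e => hp'x (cj_inj (e.trans hqx.symm))
  have h2r : cj q p' ≠ r := fun e => hp'p (cj_inj (e.trans (hr.trans (h.braid hp hq hpq))))
  have h4 : cj p' q' ∈ ln D x r := by
    have := h.cj_ln p' hq'
    rw [cj_fix hp'n.2.2.symm, h.braid hp'.1 hq fun c => hqp' c.symm] at this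
    rwa [h.ln_eq hx hrn h2 h2x] at this
  have h4x : cj p' q' ≠ x := fun e => hq'x (cj_inj (e.trans (cj_fix hp'n.2.2.symm).symm))
  have h4r : cj p' q' ≠ cj q p' := fun e => hq'q (cj_inj
    (e.trans (h.braid hq hp'.1 hqp')))
  have : cj p' q' = r := by
    by_contra hne
    exact h4r (h.third_unique h3 hx hrn h4 h4x hne h2 h2x h2r)
  rw [← hr, ← this]
  rw [← cj_fix hdp'.symm, cj_commute]
  exact hdq'

/-- a member not commuting with two members of a triangle commutes with the third -/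
theorem triangle {d p q : G} (hd : d ∈ D) (hp : p ∈ D) (hq : q ∈ D) (hpq : ¬ Commute p q)
    (hdp : ¬ Commute d p) (hdq : ¬ Commute d q) : Commute d (cj p q) := by
  have hnb : ∀ {t}, t ∈ Hyp.com D p q → p ∈ nbr D t ∧ q ∈ nbr D t := fun {t} ht =>
    ⟨⟨hp, ht.1.2.1.symm, ht.1.2.2.symm⟩, hq, fun e => hpq (e ▸ ht.1.2.2), ht.2⟩
  obtain ⟨x, hxc⟩ := h.hyp.exists_common hp hq hpq
  by_cases hdx : Commute d x
  swap
  · exact h.triangle_of_common h3 hd hxc.1.1 hp hq hpq hdp hdq (hnb hxc).1 (hnb hxc).2 hdx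
  by_contra hne
  have hall : ∀ t ∈ Hyp.com D p q, Commute d t := fun t ht => by
    by_contra hc
    exact hne (h.triangle_of_common h3 hd ht.1.1 hp hq hpq hdp hdq (hnb ht).1 (hnb ht).2 hc)
  obtain ⟨x', hx', hnc⟩ := h.com_nc hp hq hpq hxc
  have hdn : d ∈ nbr D x := ⟨hd, fun e => hdp (e ▸ hxc.1.2.2.symm), hdx.symm⟩
  obtain ⟨d', hd', hd'x, hd'd⟩ := h.twin x hxc.1.1 d hdn
  have hd'p : ∀ {b}, b ∈ nbr D x → ¬ Commute d b → ¬ Commute d' b := fun {b} hb hdb c => hdb
    (h.ln_all hxc.1.1 hdn (ln_left hxc.1.1) hd' hd'x.symm (ln_right hd) hb.1 hb.2.2.symm c.symm).symm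
  have h1 := hd'p (hnb hxc).1 hdp
  have h2 := hd'p (hnb hxc).2 hdq
  by_cases hc : Commute d' x'
  · exact hnc (h.ln_all hxc.1.1 hdn (ln_right hd) hd' hd'd.symm (ln_left hxc.1.1) hx'.1.1
      (hall x' hx').symm hc.symm).symm
  have hd'r := h.triangle_of_common h3 hd'.1 hx'.1.1 hp hq hpq h1 h2 (hnb hx').1 (hnb hx').2 hc
  have hxr : Commute x (cj p q) := by
    rw [← cj_fix hxc.1.2.2, cj_commute]; exact hxc.2
  exact hne (h.ln_all hxc.1.1 hdn (ln_left hxc.1.1) hd' hd'x.symm (ln_right hd) (h.mem_cj p hq)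
    hxr.symm hd'r.symm).symm

/-- the symplectic group over two elements -/
theorem sp_case (hzc : Subgroup.center G = ⊥) :
    ∃ (m : ℕ) (e : G → (Fin m ⊕ Fin m → ZMod 2)),
      Nonempty (G ≃* Matrix.symplecticGroup (Fin m) (ZMod 2)) ∧
      (∀ v, v ≠ 0 → ∃ d ∈ D, e d = v) ∧ (∀ d ∈ D, e d ≠ 0) ∧
      ∀ a ∈ D, ∀ b ∈ D, (sf (e a) (e b) = 0 ↔ Commute a b) := by
  classical
  obtain ⟨φ, hφ⟩ : ∃ φ : D → (D → ZMod 2), ∀ p v, φ p v = if Commute (p : G) v then 0 else 1 :=
    ⟨fun p v => if Commute (p : G) v then 0 else 1, fun _ _ => rfl⟩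
  have hsym : ∀ p q, φ p q = φ q p := fun p q => by
    rw [hφ, hφ]
    by_cases c : Commute (p : G) q
    · rw [if_pos c, if_pos c.symm]
    · rw [if_neg c, if_neg fun c' => c c'.symm]
  have hself : ∀ p, φ p p = 0 := fun p => by rw [hφ, if_pos (Commute.refl _)]
  have hne : ∀ p, φ p ≠ 0 := fun p e => by
    obtain ⟨v, hv, hpv⟩ := Spor.exists_braid h.hyp.cls h.hyp.prim.2.1 p.2
    have := congrFun e ⟨v, hv⟩
    rw [hφ, if_neg hpv, Pi.zero_apply] at this
    exact one_ne_zero this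
  have hinj : ∀ p q, φ p = φ q → p = q := fun p q e => Subtype.ext (h.hyp.sameV_eq p.2 q.2 fun v hv => by
    have := congrFun e ⟨v, hv⟩
    rw [hφ, hφ] at this
    split_ifs at this with c1 c2 c2
    · exact ⟨fun _ => c2, fun _ => c1⟩
    · exact absurd this zero_ne_one
    · exact absurd this one_ne_zero
    · exact ⟨fun c => absurd c c1, fun c => absurd c c2⟩)
  have hsum : ∀ p q : D, ¬ Commute (p : G) q → φ ⟨cj p q, h.mem_cj p q.2⟩ = φ p + φ q := by
    intro p q hpq
    funext v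
    rw [Pi.add_apply, hφ, hφ, hφ]
    have hfix : ∀ {g b : G}, Commute g b → cj g b = b := fun c => cj_fix c
    by_cases c1 : Commute (p : G) v <;> by_cases c2 : Commute (q : G) v
    · have : Commute (cj (p : G) q) v := by rw [← hfix c1, cj_commute]; exact c2
      rw [if_pos c1, if_pos c2, if_pos this, add_zero]
    · have : ¬ Commute (cj (p : G) q) v := fun c => c2 (by rwa [← hfix c1, cj_commute] at c)
      rw [if_pos c1, if_neg c2, if_neg this, zero_add]
    · have : ¬ Commute (cj (p : G) q) v := fun c => by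
        rw [h.braid p.2 q.2 hpq, ← hfix c2, cj_commute] at c
        exact c1 c
      rw [if_neg c1, if_pos c2, if_neg this, add_zero]
    · have := h.triangle h3 v.2 p.2 q.2 hpq (fun c => c1 c.symm) (fun c => c2 c.symm)
      rw [if_neg c1, if_neg c2, if_pos this.symm]
      decide
  have hsum2 : ∀ p q : D, p ≠ q → Commute (p : G) q → ∃ u : D, φ u = φ p + φ q := by
    intro p q hne' hc
    have hn : (q : G) ∈ nbr D p := ⟨q.2, fun e => hne' (Subtype.ext e.symm), hc⟩
    obtain ⟨u, hu, hup, huq⟩ := h.twin p p.2 q hn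
    refine ⟨⟨u, hu.1⟩, funext fun v => ?_⟩
    rw [Pi.add_apply, hφ, hφ, hφ]
    by_cases c1 : Commute (p : G) v <;> by_cases c2 : Commute (q : G) v
    · rw [if_pos c1, if_pos c2, if_pos (hu.2 v v.2 c1.symm c2.symm).symm, add_zero]
    · have : ¬ Commute (u : G) v := fun c => c2 (h.ln_all p.2 hn (ln_left p.2) hu hup.symm (ln_right q.2) v.2
        c1.symm c.symm).symm
      rw [if_pos c1, if_neg c2, if_neg this, zero_add]
    · have : ¬ Commute (u : G) v := fun c => c1 (h.ln_all p.2 hn (ln_right q.2) hu huq.symm (ln_left p.2) v.2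
        c2.symm c.symm).symm
      rw [if_neg c1, if_pos c2, if_neg this, add_zero]
    · obtain ⟨w, hw, hwv⟩ := h.exists_perp p.2 hn v.2
      have hwu : w = u := by
        refine h.third_unique h3 p.2 hn hw (fun e => c1 ?_) (fun e => c2 ?_) hu hup huq
        · rwa [← e]
        · rwa [← e]
      rw [if_neg c1, if_neg c2, if_pos (hwu ▸ hwv)]
      decide
  let V : Submodule (ZMod 2) (D → ZMod 2) :=
    { carrier := {f | f = 0 ∨ ∃ p, f = φ p}
      zero_mem' := Or.inl rfl
      add_mem' := by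
        rintro _ _ (rfl | ⟨p, rfl⟩) (rfl | ⟨q, rfl⟩)
        · exact Or.inl (add_zero _)
        · exact Or.inr ⟨q, zero_add _⟩
        · exact Or.inr ⟨p, add_zero _⟩
        · by_cases e : p = q
          · subst e; exact Or.inl (funext fun v => ZModModule.add_self _)
          by_cases c : Commute (p : G) q
          · obtain ⟨u, hu⟩ := hsum2 p q e c
            exact Or.inr ⟨u, hu.symm⟩
          · exact Or.inr ⟨_, (hsum p q c).symm⟩
      smul_mem' := by
        intro c f hf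
        rcases zmod_two c with rfl | rfl
        · exact Or.inl (zero_smul _ _)
        · rwa [one_smul] }
  have hmem : ∀ p, φ p ∈ V := fun p => Or.inr ⟨p, rfl⟩
  obtain ⟨d₀, hd₀, -⟩ := h.hyp.width
  have hψ : ∀ g : V, ∃ p : D, g ≠ 0 → (g : D → ZMod 2) = φ p := fun g => by
    rcases g.2 with e | ⟨p, e⟩
    · exact ⟨⟨d₀, hd₀⟩, fun hg => absurd (Subtype.ext e) hg⟩
    · exact ⟨p, fun _ => e⟩
  choose ψ hψ using hψ
  obtain ⟨β, hβ⟩ : ∃ β : V → V → ZMod 2, ∀ f g, β f g = if g = 0 then 0 else (f : D → ZMod 2) (ψ g) :=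
    ⟨fun f g => if g = 0 then 0 else (f : D → ZMod 2) (ψ g), fun _ _ => rfl⟩
  have hβsym : ∀ f g, β f g = β g f := by
    intro f g
    rw [hβ, hβ]
    by_cases hf : f = 0 <;> by_cases hg : g = 0 <;> simp [hf, hg]
    rw [hψ f hf, hψ g hg, hsym]
  have hadd : ∀ f f' g, β (f + f') g = β f g + β f' g := fun f f' g => by
    rw [hβ, hβ, hβ]; split_ifs <;> simp
  have hsmul : ∀ (c : ZMod 2) f g, β (c • f) g = c • β f g := fun c f g => by
    rw [hβ, hβ]; split_ifs <;> simp
  let B : V →ₗ[ZMod 2] V →ₗ[ZMod 2] ZMod 2 := LinearMap.mk₂ (ZMod 2) β hadd hsmul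
    (fun f g g' => by rw [hβsym, hadd, hβsym g, hβsym g']) (fun c f g => by rw [hβsym, hsmul, hβsym g])
  have hB : ∀ p q : D, B ⟨φ p, hmem p⟩ ⟨φ q, hmem q⟩ = φ p q := fun p q => by
    have hq : (⟨φ q, hmem q⟩ : V) ≠ 0 := fun e => hne q (congrArg Subtype.val e)
    show β _ _ = _
    rw [hβ, if_neg hq, ← hinj _ _ (hψ _ hq)]
  have hBND : SpCount.IsAltND B := by
    refine ⟨fun f => ?_, fun f hf => ?_⟩
    · show β f f = 0
      rw [hβ]
      by_cases hf : f = 0
      · rw [if_pos hf]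
      · rw [if_neg hf, hψ f hf, hself]
    · by_contra hf0
      obtain ⟨p, hp⟩ := (f.2 : (f : D → ZMod 2) = 0 ∨ _).resolve_left fun e => hf0 (Subtype.ext e)
      refine hne p (funext fun v => ?_)
      have := hf ⟨φ v, hmem v⟩
      rw [show f = ⟨φ p, hmem p⟩ from Subtype.ext hp, hB] at this
      exact this
  obtain ⟨m, hm⟩ := even_finrank _ hBND rfl
  obtain ⟨fam⟩ := Classical.SpCount.exists_fam m hBND hm
  let b := Classical.SpCount.famBasis hBND hm fam
  let E : V ≃ₗ[ZMod 2] (Fin m ⊕ Fin m → ZMod 2) := b.equivFun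
  have hform : ∀ f g : V, sf (E f) (E g) = B f g := by
    have he : (Classical.SpCount.stdForm m (ZMod 2)).compl₁₂ E.toLinearMap E.toLinearMap = B := by
      refine LinearMap.ext_basis b b fun i j => ?_
      rw [LinearMap.compl₁₂_apply]
      show Classical.SpCount.stdForm m (ZMod 2) (b.equivFun (b i)) (b.equivFun (b j)) = B (b i) (b j)
      rw [show b i = fam.1 i from Module.Basis.mk_apply _ _ i, show b j = fam.1 j from Module.Basis.mk_apply _ _ j,
        fam.2, ← show b i = fam.1 i from Module.Basis.mk_apply _ _ i,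
        ← show b j = fam.1 j from Module.Basis.mk_apply _ _ j, Classical.SpCount.stdForm_apply]
      have hsingle : ∀ l, b.equivFun (b l) = Pi.single l 1 := fun l => funext fun l' => by
        rw [Module.Basis.equivFun_self, Pi.single_apply]
        simp [eq_comm]
      rw [hsingle, hsingle, single_dotProduct, one_mul, Matrix.mulVec_single_one]
      rfl
    intro f g
    rw [← he, LinearMap.compl₁₂_apply, Classical.SpCount.stdForm_apply]
    rfl
  obtain ⟨e, he⟩ : ∃ e : G → (Fin m ⊕ Fin m → ZMod 2), ∀ p : D, e p = E ⟨φ p, hmem p⟩ :=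
    ⟨fun g => if hg : g ∈ D then E ⟨φ ⟨g, hg⟩, hmem _⟩ else 0, fun p => by simp [p.2]⟩
  have hcomm : ∀ a b : D, sf (e a) (e b) = if Commute (a : G) b then 0 else 1 := fun a b => by
    rw [he, he, hform, hB, hφ]
  have he0 : ∀ p : D, e p ≠ 0 := fun p e' => by
    rw [he, LinearEquiv.map_eq_zero_iff] at e'
    exact hne p (congrArg Subtype.val e')
  have hsurj : ∀ v, v ≠ 0 → ∃ d ∈ D, e d = v := by
    intro v hv
    have hg : E.symm v ≠ 0 := fun e' => hv (by rw [← E.apply_symm_apply v, e', map_zero])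
    refine ⟨ψ (E.symm v), (ψ (E.symm v)).2, ?_⟩
    rw [he]
    conv_rhs => rw [← E.apply_symm_apply v]
    exact congrArg E (Subtype.ext (hψ _ hg).symm)
  have hcjE : ∀ a b : D, e (cj (a : G) b) = e b + sf (e a) (e b) • e a := by
    intro a b
    rw [hcomm]
    by_cases c : Commute (a : G) b
    · rw [if_pos c, zero_smul, add_zero, cj_fix c]
    · rw [if_neg c, one_smul, he ⟨cj (a : G) b, h.mem_cj a b.2⟩, he, he, ← map_add]
      refine congrArg E (Subtype.ext ?_)
      show φ _ = φ b + φ a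
      rw [hsum a b c, add_comm]
  refine ⟨m, e, ?_, hsurj, fun d hd => he0 ⟨d, hd⟩, fun a ha b hb => ?_⟩
  swap
  · have := hcomm ⟨a, ha⟩ ⟨b, hb⟩
    by_cases c : Commute a b
    · rw [if_pos c] at this; exact iff_of_true this c
    · rw [if_neg c] at this; exact iff_of_false (fun h0 => zero_ne_one (h0.symm.trans this)) c
  have hm1 : 1 ≤ m := by
    by_contra hm'
    obtain rfl : m = 0 := by omega
    exact he0 ⟨d₀, hd₀⟩ (Subsingleton.elim _ _)
  have hinjtr : ∀ u v : Fin m ⊕ Fin m → ZMod 2, u ≠ 0 → S0440.tr u = S0440.tr v → u = v := by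
    intro u v hu huv
    obtain ⟨w, hw⟩ := S0440.exists_one hu
    have := congrArg (fun g => act g w) huv
    simp only [S0440.act_tr, hw, one_smul, add_right_inj] at this
    rcases zmod_two (sf v w) with e' | e' <;> rw [e'] at this
    · rw [zero_smul] at this; exact absurd this hu
    · rwa [one_smul] at this
  have hcls := S0440.result m hm1
  obtain ⟨iso⟩ := iso_of_class (D := D) h.hyp.cls.2.2 hcls.2.2 hzc (fun g d hd => h.hyp.conj_mem g hd)
    (fun d => S0440.tr (e d)) (fun d hd => S0440.rank_tr (he0 ⟨d, hd⟩))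
    (fun d' hd' => by
      obtain ⟨v, hv, rfl⟩ := S0440.eq_tr_of_rank hd'
      obtain ⟨d, hd, rfl⟩ := hsurj v hv
      exact ⟨d, hd, rfl⟩)
    (fun a ha b hb hab => by
      have := hinjtr _ _ (he0 ⟨a, ha⟩) hab
      rw [he ⟨a, ha⟩, he ⟨b, hb⟩] at this
      exact congrArg Subtype.val (hinj _ _ (congrArg Subtype.val (E.injective this))))
    (fun a ha b hb => by
      show S0440.tr (e (cj a b)) = _
      rw [hcjE ⟨a, ha⟩ ⟨b, hb⟩, S0440.tr_conj, S0440.act_tr])
  have hcen : Subgroup.center (Matrix.symplecticGroup (Fin m) (ZMod 2)) = ⊥ := by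
    rw [Subgroup.eq_bot_iff_forall]
    intro z hz
    refine Small.PSpn.eq_of_act fun v => ?_
    rw [act_one]
    by_cases hv : v = 0
    · rw [hv, act_zero]
    have h1 := S0440.tr_conj z v
    rw [← Subgroup.mem_center_iff.1 hz (S0440.tr v), mul_inv_cancel_right] at h1
    exact (hinjtr _ _ hv h1).symm
  exact ⟨iso.trans ((QuotientGroup.quotientMulEquivOfEq hcen).trans QuotientGroup.quotientBot)⟩

end Three

end Polar

end Cfsg.Agent.Fischer.Twin
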