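import Cfsg.Agent.Lib.Fischer.Twin.Sp
import Cfsg.Agent.Lib.Fischer.Twin.F4

/-!
Lines with five members: coordinates from the field with four elements on the classes at `x`, such that all the
bijections between classes are scalar.
-/

set_option autoImplicit false
set_option linter.unusedSectionVars false

namespace Cfsg.Agent.Fischer.Twin

variable {G : Type*} [Group G] {D : Set G}

/-- lines with five members, and a non-commuting pair -/
structure Five (D : Set G) (x y : G) : Prop where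
  pol : Polar D
  five : ∀ a ∈ D, ∀ e ∈ nbr D a, (ln D a e).ncard = 5
  hx : x ∈ D
  hy : y ∈ D
  hxy : ¬ Commute x y

/-- coordinates on the classes -/
structure Coord (D : Set G) (x y : G) {F : Type*} [Field F] (co γ : G → G → F) : Prop where
  bij : ∀ t ∈ Hyp.com D x y, Set.BijOn (co t) (cls D x t) Set.univ
  zero : ∀ t ∈ Hyp.com D x y, co t t = 0
  map : ∀ t ∈ Hyp.com D x y, ∀ u ∈ Hyp.com D x y, ¬ Commute t u → ∀ a ∈ cls D x t,
    co u (cj (cj t u) a) = γ t u * co t a
  comm : ∀ t ∈ Hyp.com D x y, ∀ u ∈ Hyp.com D x y, Commute t u → γ t u = 0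

/-- walks and their parity -/
def Walk {α : Type*} (r : α → α → Prop) (par : α → α → ZMod 2) : ℕ → α → α → ZMod 2 → Prop
  | 0, a, b, p => a = b ∧ p = 0
  | k + 1, a, b, p => ∃ c, r a c ∧ Walk r par k c b (p + par a c)

namespace Five

variable [Finite G] {x y : G} (S : Five D x y)
include S

theorem cls_card {t : G} (ht : t ∈ nbr D x) : (cls D x t).ncard = 4 := by
  rw [cls, Set.ncard_sdiff_singleton_of_mem (ln_left S.hx), S.five x S.hx t ht]

/-- the common neighbours are connected by non-commuting -/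
theorem com_conn {a c : G} (ha : a ∈ Hyp.com D x y) (hc : c ∈ Hyp.com D x y) :
    Relation.ReflTransGen (fun p q => p ∈ Hyp.com D x y ∧ q ∈ Hyp.com D x y ∧ ¬ Commute p q) a c := by
  have h := S.pol
  by_cases hac : Commute a c
  swap
  · exact Relation.ReflTransGen.single ⟨ha, hc, hac⟩
  by_cases hne : a = c
  · rw [hne]
  have hrad := h.com_rad h.sub_top S.hx S.hy S.hxy
  obtain ⟨b1, ⟨-, hb1⟩, h1⟩ := hrad a ⟨ha.1.1, ha⟩
  obtain ⟨b2, ⟨-, hb2⟩, h2⟩ := hrad c ⟨hc.1.1, hc⟩
  by_cases h1c : Commute c b1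
  swap
  · exact (Relation.ReflTransGen.single ⟨ha, hb1, h1⟩).tail ⟨hb1, hc, fun e => h1c e.symm⟩
  by_cases h2a : Commute a b2
  swap
  · exact (Relation.ReflTransGen.single ⟨ha, hb2, h2a⟩).tail ⟨hb2, hc, fun e => h2 e.symm⟩
  have hcn : c ∈ nbr D a := ⟨hc.1.1, fun e => hne e.symm, hac⟩
  obtain ⟨u, hu, hua, huc⟩ := h.twin a ha.1.1 c hcn
  have hxu : Commute x u := hu.2 x S.hx ha.1.2.2 hc.1.2.2
  have hyu : Commute y u := hu.2 y S.hy ha.2.symm hc.2.symm
  have huT : u ∈ Hyp.com D x y := ⟨⟨hu.1, fun e => S.hxy (e ▸ hyu).symm, hxu⟩, hyu.symm⟩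
  have h1u : ¬ Commute b1 u := fun e => h1
    (h.ln_all ha.1.1 hcn hu (ln_right hc.1.1) huc (ln_left ha.1.1) hb1.1.1 e h1c.symm).symm
  have h2u : ¬ Commute u b2 := fun e => h2
    (h.ln_all ha.1.1 hcn hu (ln_left ha.1.1) hua (ln_right hc.1.1) hb2.1.1 e.symm h2a.symm).symm
  exact (((Relation.ReflTransGen.single ⟨ha, hb1, h1⟩).tail ⟨hb1, huT, h1u⟩).tail ⟨huT, hb2, h2u⟩).tail
    ⟨hb2, hc, fun e => h2 e.symm⟩

theorem cls_inv {t u a : G} (ht : t ∈ Hyp.com D x y) (hu : u ∈ Hyp.com D x y) (htu : ¬ Commute t u) :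
    cj (cj u t) (cj (cj t u) a) = a := by
  rw [S.pol.braid hu.1.1 ht.1.1 fun e => htu e.symm, S.pol.cj_twice (S.pol.com_closed ht hu).1.1]

theorem exists_coord (F : Type*) [Field F] [Fintype F] (hF : Fintype.card F = 4) :
    ∃ co γ : G → G → F, Coord D x y co γ := by
  classical
  have h := S.pol
  have hx := S.hx
  have hy := S.hy
  have hxy := S.hxy
  have hc0 : ∀ t, ∃ c : G → F, t ∈ Hyp.com D x y → Set.BijOn c (cls D x t) Set.univ ∧ c t = 0 := fun t => by
    by_cases ht : t ∈ Hyp.com D x y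
    · obtain ⟨c, hc⟩ := F4.exists_bij hF (S.cls_card ht.1) (h.self_cls ht.1)
      exact ⟨c, fun _ => hc⟩
    · exact ⟨fun _ => 0, fun h' => absurd h' ht⟩
  choose c0 hc0 using hc0
  let E : G → G → Prop := fun t u => t ∈ Hyp.com D x y ∧ u ∈ Hyp.com D x y ∧ ¬ Commute t u
  have hsem : ∀ t u, ∃ p : ZMod 2, ∃ γ : F, E t u → γ ≠ 0 ∧
      ∀ a ∈ cls D x t, c0 u (cj (cj t u) a) = γ * F4.pw p (c0 t a) := by
    intro t u
    by_cases hE : E t u
    swap
    · exact ⟨0, 0, fun h' => absurd h' hE⟩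
    obtain ⟨ht, hu, htu⟩ := hE
    let inv : F → G := Function.invFunOn (c0 t) (cls D x t)
    have hinv : ∀ z, inv z ∈ cls D x t ∧ c0 t (inv z) = z := fun z =>
      ⟨Function.invFunOn_mem ((hc0 t ht).1.surjOn (Set.mem_univ z)),
        Function.invFunOn_eq ((hc0 t ht).1.surjOn (Set.mem_univ z))⟩
    obtain ⟨p, γ, hγ, hp⟩ := F4.semilinear hF (fun z => c0 u (cj (cj t u) (inv z))) (fun z z' e => by
      have := (hc0 u hu).1.injOn (h.cls_map hx hy hxy ht hu htu (hinv z).1)
        (h.cls_map hx hy hxy ht hu htu (hinv z').1) e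
      rw [← (hinv z).2, cj_inj this, (hinv z').2]) (by
      have : inv 0 = t := (hc0 t ht).1.injOn (hinv 0).1 (h.self_cls ht.1) ((hinv 0).2.trans (hc0 t ht).2.symm)
      show c0 u (cj (cj t u) (inv 0)) = 0
      rw [this, h.third ht.1.1 hu.1.1 htu, (hc0 u hu).2])
    refine ⟨p, γ, fun _ => ⟨hγ, fun a ha => ?_⟩⟩
    have := hp (c0 t a)
    rwa [show inv (c0 t a) = a from (hc0 t ht).1.injOn (hinv _).1 ha (hinv _).2] at this
  choose par g hpar using hsem
  have hsurj : ∀ {t}, t ∈ Hyp.com D x y → ∀ z, ∃ a ∈ cls D x t, c0 t a = z :=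
    fun {t} ht z => (hc0 t ht).1.surjOn (Set.mem_univ z)
  -- reversed edges
  have hrev : ∀ t u, E t u → par u t = par t u := by
    intro t u hE
    have hE' : E u t := ⟨hE.2.1, hE.1, fun e => hE.2.2 e.symm⟩
    obtain ⟨g1, e1⟩ := hpar t u hE
    obtain ⟨g2, e2⟩ := hpar u t hE'
    have := F4.pw_unique hF (one_ne_zero (α := F)) (p := 0) (q := par u t + par t u)
      (γ' := g u t * F4.pw (par u t) (g t u)) fun z => by
        obtain ⟨a, ha, rfl⟩ := hsurj hE.1 z
        have := e2 _ (h.cls_map hx hy hxy hE.1 hE.2.1 hE.2.2 ha)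
        rw [S.cls_inv hE.1 hE.2.1 hE.2.2, e1 a ha, F4.pw_mul, F4.pw_comp hF, ← mul_assoc] at this
        rw [one_mul, F4.pw_zero]
        exact this
    have e := this.1
    revert e; generalize par u t = p; generalize par t u = q; grind
  -- triangles
  have htri : ∀ t u v, E t u → E u v → E v t → par t u + par u v + par v t = 0 := by
    intro t u v hE1 hE2 hE3
    obtain ⟨g1, e1⟩ := hpar t u hE1
    obtain ⟨g2, e2⟩ := hpar u v hE2
    obtain ⟨g3, e3⟩ := hpar v t hE3
    obtain ⟨ht, hu, htu⟩ := hE1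
    obtain ⟨hv, -, hvt⟩ := hE3
    have huv := hE2.2.2
    obtain ⟨P, hP⟩ : ∃ P, P = par v t + (par u v + par t u) := ⟨_, rfl⟩
    obtain ⟨γ, hγ⟩ : ∃ γ, γ = g v t * (F4.pw (par v t) (g u v) * F4.pw (par v t + par u v) (g t u)) := ⟨_, rfl⟩
    have hγ0 : γ ≠ 0 := by
      rw [hγ]
      exact mul_ne_zero g3 (mul_ne_zero ((F4.pw_eq_zero _).not.2 g2) ((F4.pw_eq_zero _).not.2 g1))
    have hmap : ∀ a ∈ cls D x t,
        c0 t (cj (cj t v) (cj (cj u v) (cj (cj t u) a))) = γ * F4.pw P (c0 t a) := by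
      intro a ha
      have m1 := h.cls_map hx hy hxy ht hu htu ha
      rw [← h.braid hv.1.1 ht.1.1 hvt, e3 _ (h.cls_map hx hy hxy hu hv huv m1), e2 _ m1, e1 a ha]
      simp only [F4.pw_mul, F4.pw_comp hF, hγ, hP, mul_assoc, add_assoc]
    suffices P = 0 by
      rw [hP] at this; revert this
      generalize par t u = p; generalize par u v = q; generalize par v t = r; grind
    by_contra hP0
    have hP1 : P = 1 := (F4.pw_cases P).resolve_left hP0
    by_cases hn : Commute t (cj u v)
    · refine hP0 (F4.pw_unique hF hγ0 (q := 0) (γ' := 1) fun z => ?_).1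
      obtain ⟨a, ha, rfl⟩ := hsurj ht z
      rw [← hmap a ha, one_mul, F4.pw_zero, ← cj_mul, ← cj_mul]
      have hn2 := h.com_closed hu hv
      have hvu : cj (cj u v) u = v := h.third hu.1.1 hv.1.1 huv
      have e3' : cj t v = cj (cj u v) (cj t u) := by
        conv_lhs => rw [← hvu]
        rw [← cj_mul, hn.eq, cj_mul]
      have hn1 := h.com_closed ht hu
      rw [e3', h.cj_eq hn2.1.1 (cj t u), mul_assoc (cj u v * cj t u), h.sq hn2.1.1, mul_one,
        mul_assoc (cj u v), h.sq hn1.1.1, mul_one]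
      exact congrArg (c0 t) (cj_fix ((h.commute_iff_of_cls hx ht.1 ha hn2.1.1 hn2.1.2.2.symm).2 hn.symm))
    · obtain ⟨a, ha, haz⟩ := hsurj ht γ⁻¹
      have hne : a ≠ t := fun e => inv_ne_zero hγ0 (haz.symm.trans (e ▸ (hc0 t ht).2))
      refine h.holonomy hx hy hxy ht hu hv htu huv (fun e => hvt e.symm) hn ha hne ?_
      have m := h.cls_map hx hy hxy hv ht hvt (h.cls_map hx hy hxy hu hv huv (h.cls_map hx hy hxy ht hu htu ha))
      rw [h.braid hv.1.1 ht.1.1 hvt] at m
      refine (hc0 t ht).1.injOn m ha ?_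
      rw [hmap a ha, haz, hP1, F4.pw_one]; field_simp
  -- closed walks
  have hclosed : ∀ k t p, t ∈ Hyp.com D x y → Walk E par k t t p → p = 0 := by
    intro k
    induction k using Nat.strong_induction_on with
    | _ k ih =>
      intro t p ht hW
      match k, hW with
      | 0, hW => exact hW.2
      | 1, ⟨c, hE, hc, _⟩ => exact absurd (Commute.refl t) (hc ▸ hE).2.2
      | 2, ⟨c, hE, d, hE', hd, hp⟩ =>
        subst hd
        rw [hrev d c hE] at hp
        revert hp; generalize par d c = q; grind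
      | k + 3, ⟨b, h1, c, h2, d, h3, hW⟩ =>
        by_cases hac : t = c
        · subst hac
          refine ih (k + 1) (by omega) t p ht ⟨d, h3, ?_⟩
          rw [hrev t b h1] at hW
          convert hW using 1
          generalize par t b = q; generalize par t d = r; grind
        by_cases hac' : Commute t c
        swap
        · refine ih (k + 2) (by omega) t p ht ⟨c, ⟨ht, h2.2.1, hac'⟩, d, h3, ?_⟩
          convert hW using 1
          have := htri t b c h1 h2 ⟨h2.2.1, ht, fun e => hac' e.symm⟩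
          rw [hrev t c ⟨ht, h2.2.1, hac'⟩] at this
          revert this
          generalize par t b = q; generalize par b c = r; generalize par t c = s; generalize par c d = u
          grind
        by_cases hbd : b = d
        · subst hbd
          refine ih (k + 1) (by omega) t p ht ⟨b, h1, ?_⟩
          rw [hrev b c h2] at hW
          convert hW using 1
          generalize par t b = q; generalize par b c = r; grind
        by_cases hbd' : Commute b d
        swap
        · refine ih (k + 2) (by omega) t p ht ⟨b, h1, d, ⟨h1.2.1, h3.2.1, hbd'⟩, ?_⟩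
          convert hW using 1
          have := htri b c d h2 h3 ⟨h3.2.1, h1.2.1, fun e => hbd' e.symm⟩
          rw [hrev b d ⟨h1.2.1, h3.2.1, hbd'⟩] at this
          revert this
          generalize par t b = q; generalize par b c = r; generalize par c d = s; generalize par b d = u
          grind
        -- replace the inner edge
        obtain ⟨N, hN⟩ : ∃ N, N = cj c b := ⟨_, rfl⟩
        have hNT : N ∈ Hyp.com D x y := hN ▸ h.com_closed h2.2.1 h2.1
        have htN : E t N := ⟨ht, hNT, fun e => h1.2.2 (by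
          rw [hN, ← cj_fix hac'.symm, cj_commute] at e
          exact e)⟩
        have hNd : E N d := ⟨hNT, h3.2.1, fun e => h3.2.2 (by
          rw [hN, h.braid h2.2.1.1.1 h2.1.1.1 fun e' => h2.2.2 e'.symm, ← cj_fix hbd', cj_commute] at e
          exact e)⟩
        have hbN : E b N := ⟨h2.1, hNT, fun e => h2.2.2 (by
          rw [hN, h.braid h2.2.1.1.1 h2.1.1.1 fun e' => h2.2.2 e'.symm] at e
          exact absurd e (h.third_not h2.1.1.1 h2.2.2))⟩
        have hcN : E c N := ⟨h2.2.1, hNT, hN ▸ h.third_not h2.2.1.1.1 fun e => h2.2.2 e.symm⟩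
        refine ih (k + 2) (by omega) t p ht ⟨N, htN, d, hNd, ?_⟩
        convert hW using 1
        have a1 := htri t b N h1 hbN ⟨hNT, ht, fun e => htN.2.2 e.symm⟩
        have a2 := htri b c N h2 hcN ⟨hNT, h2.1, fun e => hbN.2.2 e.symm⟩
        have a3 := htri c d N h3 ⟨h3.2.1, hNT, fun e => hNd.2.2 e.symm⟩ ⟨hNT, h2.2.1, fun e => hcN.2.2 e.symm⟩
        rw [hrev t N htN] at a1
        rw [hrev b N hbN] at a2
        rw [hrev N d hNd, hrev c N hcN] at a3
        revert a1 a2 a3
        generalize par t b = q1; generalize par b c = q2; generalize par c d = q3; generalize par t N = q4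
        generalize par N d = q5; generalize par b N = q6; generalize par c N = q7
        grind
  have happ : ∀ k l a b c p q, Walk E par k a b p → Walk E par l b c q → Walk E par (k + l) a c (p + q) := by
    intro k
    induction k with
    | zero => intro l a b c p q h1 h2; rw [Nat.zero_add, h1.1, h1.2, zero_add]; exact h2
    | succ k ih =>
      intro l a b c p q ⟨d, hE, h1⟩ h2
      rw [Nat.add_right_comm]
      exact ⟨d, hE, by rw [add_right_comm]; exact ih l d b c _ q h1 h2⟩
  have hback : ∀ k a b p, Walk E par k a b p → Walk E par k b a p := by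
    intro k
    induction k with
    | zero => intro a b p h1; exact ⟨h1.1.symm, h1.2⟩
    | succ k ih =>
      intro a b p ⟨d, hE, h1⟩
      have := happ k 1 b d a _ (par a d) (ih d b _ h1) ⟨a, ⟨hE.2.1, hE.1, fun e => hE.2.2 e.symm⟩, rfl, by
        rw [hrev a d hE]; generalize par a d = q; grind⟩
      rwa [show p + par a d + par a d = p by generalize par a d = q; grind] at this
  obtain ⟨t₀, ht₀⟩ := h.hyp.exists_common hx hy hxy
  have hwalk : ∀ t, ∃ p, t ∈ Hyp.com D x y → ∃ k, Walk E par k t₀ t p := fun t => by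
    by_cases ht : t ∈ Hyp.com D x y
    swap
    · exact ⟨0, fun h' => absurd h' ht⟩
    have := S.com_conn ht₀ ht
    clear ht
    induction this with
    | refl => exact ⟨0, fun _ => ⟨0, rfl, rfl⟩⟩
    | @tail b c _ hbc ih =>
      obtain ⟨p, hp⟩ := ih
      obtain ⟨k, hk⟩ := hp hbc.1
      exact ⟨p + par b c, fun _ => ⟨k + 1, happ k 1 t₀ b c p _ hk ⟨c, hbc, rfl, by
        generalize par b c = q; grind⟩⟩⟩
  choose ε hε using hwalk
  have hcomp : ∀ t u, E t u → ε u + par t u = ε t := by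
    intro t u hE
    obtain ⟨k, hk⟩ := hε t hE.1
    obtain ⟨l, hl⟩ := hε u hE.2.1
    have hs := happ k 1 t₀ t u (ε t) (par t u) hk ⟨u, hE, rfl, by generalize par t u = q; grind⟩
    have := hclosed _ t₀ _ ht₀ (happ _ l t₀ u t₀ _ (ε u) hs (hback l t₀ u _ hl))
    revert this; generalize ε t = p; generalize ε u = q; generalize par t u = r; grind
  obtain ⟨γ, hγ⟩ : ∃ γ : G → G → F, ∀ t u, γ t u = if Commute t u then 0 else F4.pw (ε u) (g t u) :=
    ⟨fun t u => if Commute t u then 0 else F4.pw (ε u) (g t u), fun _ _ => rfl⟩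
  refine ⟨fun t a => F4.pw (ε t) (c0 t a), γ, fun t ht => ?_, fun t ht => ?_, fun t ht u hu htu a ha => ?_,
    fun t _ u _ c => by rw [hγ, if_pos c]⟩
  · refine ⟨fun _ _ => Set.mem_univ _, fun a ha b hb e => (hc0 t ht).1.injOn ha hb (F4.pw_injective hF _ e),
      fun z _ => ?_⟩
    obtain ⟨a, ha, haz⟩ := hsurj ht (F4.pw (ε t) z)
    refine ⟨a, ha, ?_⟩
    show F4.pw (ε t) (c0 t a) = z
    rw [haz, F4.pw_comp hF, show ε t + ε t = 0 from by generalize ε t = q; grind, F4.pw_zero]
  · show F4.pw (ε t) (c0 t t) = 0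
    rw [(hc0 t ht).2, F4.pw_eq_zero]
  · show F4.pw (ε u) (c0 u (cj (cj t u) a)) = γ t u * F4.pw (ε t) (c0 t a)
    rw [(hpar t u ⟨ht, hu, htu⟩).2 a ha, F4.pw_mul, F4.pw_comp hF, hγ, if_neg htu, hcomp t u ⟨ht, hu, htu⟩]

end Five

end Cfsg.Agent.Fischer.Twin
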