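import Cfsg.Agent.Lib.Fischer.Twin.UModel

/-!
The members correspond to the isotropic points of the model.
-/

set_option autoImplicit false
set_option linter.unusedSectionVars false

namespace Cfsg.Agent.Fischer.Twin

variable {G : Type*} [Group G] {D : Set G}

/-- two independent vectors in the kernel of two linear functions -/
theorem exists_pair_ker {K V : Type*} [Field K] [AddCommGroup V] [Module K V] [FiniteDimensional K V]
    (f : V →ₗ[K] K × K) (h4 : 4 ≤ Module.finrank K V) :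
    ∃ v w : V, f v = 0 ∧ f w = 0 ∧ ∀ p q : K, p • v + q • w = 0 → p = 0 ∧ q = 0 := by
  have hker : 2 ≤ Module.finrank K (LinearMap.ker f) := by
    have h1 := f.finrank_range_add_finrank_ker
    have h2 : Module.finrank K (LinearMap.range f) ≤ 2 := (Submodule.finrank_le _).trans (by simp)
    omega
  obtain ⟨b, hb⟩ := exists_linearIndependent_of_le_finrank hker
  refine ⟨b 0, b 1, (b 0).2, (b 1).2, fun p q e => ?_⟩
  have h' := Fintype.linearIndependent_iff.1 hb ![p, q] (by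
    rw [Fin.sum_univ_two]
    exact Subtype.ext e)
  exact ⟨h' 0, h' 1⟩

namespace UData

variable [Finite G] {x y : G} {F : Type*} [Field F] [Fintype F] (U : UData D x y F)
  [Fintype ↥(Hyp.com D x y)]
include U

theorem hV_add_right (v w w' : F × F × ↥U.W) : U.hV v (w + w') = U.hV v w + U.hV v w' := by
  simp only [hV, Prod.fst_add, Prod.snd_add, U.hW_add_right]
  ring

theorem hV_smul_right (c : F) (v w : F × F × ↥U.W) : U.hV v (c • w) = c * U.hV v w := by
  simp only [hV, Prod.smul_fst, Prod.smul_snd, smul_eq_mul, U.hW_smul_right]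
  ring

theorem hV_swap (v w : F × F × ↥U.W) : U.hV w v = U.hV v w ^ 2 := by
  simp only [hV, F4.sq_add U.card, mul_pow, ← pow_mul, F4.pow_four U.card, ← U.hW_swap]
  ring

theorem hV_add_left (v v' w : F × F × ↥U.W) : U.hV (v + v') w = U.hV v w + U.hV v' w := by
  rw [U.hV_swap w (v + v'), U.hV_add_right, F4.sq_add U.card, ← U.hV_swap, ← U.hV_swap]

theorem hV_smul_left (c : F) (v w : F × F × ↥U.W) : U.hV (c • v) w = c ^ 2 * U.hV v w := by
  rw [U.hV_swap w (c • v), U.hV_smul_right, mul_pow, ← U.hV_swap]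

theorem hV_nondeg (v : F × F × ↥U.W) (h0 : ∀ u, U.hV u v = 0) : v = 0 := by
  obtain ⟨a, b, w⟩ := v
  have h1 := h0 (1, 0, 0)
  have h2 := h0 (0, 1, 0)
  simp only [hV, U.hW_zero_left, one_pow, zero_pow two_ne_zero, one_mul, zero_mul, add_zero, zero_add] at h1 h2
  have h3 : w = 0 := U.hW_nondeg w fun u => by
    have := h0 (0, 0, u)
    simpa only [hV, zero_pow two_ne_zero, zero_mul, zero_add] using this
  rw [h1, h2, h3]
  rfl

/-- the values of the form on the diagonal -/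
theorem hV_self (v : F × F × ↥U.W) : U.hV v v = 0 ∨ U.hV v v = 1 := by
  have h := U.hV_swap v v
  by_cases h0 : U.hV v v = 0
  · exact Or.inl h0
  · refine Or.inr ((mul_right_eq_self₀.1 ?_).resolve_right h0)
    rw [← pow_two]
    exact h.symm

theorem τ_τ {v : F × F × ↥U.W} (hv : U.hV v v = 0) (w : F × F × ↥U.W) : U.τ v (U.τ v w) = w := by
  rw [τ, τ, U.hV_add_right, U.hV_smul_right, hv, mul_zero, add_zero, add_assoc, ← add_smul, F4.add_self U.card,
    zero_smul, add_zero]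

theorem τ_iso {v : F × F × ↥U.W} (hv : U.hV v v = 0) (w w' : F × F × ↥U.W) :
    U.hV (U.τ v w) (U.τ v w') = U.hV w w' := by
  simp only [τ, U.hV_add_left, U.hV_add_right, U.hV_smul_left, U.hV_smul_right, hv, U.hV_swap v w]
  linear_combination (U.hV v w') * (U.hV v w ^ 2) * F4.two_eq_zero U.card

/-! ### The vectors of the members -/

theorem Φ_ne (t : ↥(Hyp.com D x y)) : U.Φ t ≠ 0 := fun e => by
  obtain ⟨q, hq, htq⟩ := U.five.pol.com_nc U.five.hx U.five.hy U.five.hxy t.2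
  exact U.γ_ne t.2 hq htq (congrFun e ⟨q, hq⟩)

theorem φ_iso {d : G} (hd : d ∈ D) : U.hV (U.φ d) (U.φ d) = 0 := by
  rcases U.triv hd with rfl | hn | ho
  · rw [U.φ_x, hV, U.hW_zero_left]; simp
  · obtain ⟨t, ht⟩ := U.exists_cls hn
    have hΦ : U.Φ t t = 0 := U.γ_self t.2
    rw [U.φ_cls t ht]
    by_cases hc : U.co t d = 0
    · rw [hc, U.kv_zero, hV, U.hW_Φ]; simp [hΦ]
    · rw [U.kv_ne t hc, hV, U.hW_smul_left, U.hW_smul_right, U.hW_Φ]; simp [hΦ]
  · classical
    rw [U.φ_out ho, hV, U.hW_sec ho]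
    simp only [one_pow, one_mul, mul_one]
    by_cases hy : Commute d y
    · rw [U.al_y hy, Q, if_neg fun e => e.1 hy]; simp
    by_cases hz : Commute d (cj y x)
    · rw [U.al_z hy hz, Q, if_neg fun e => e.2 hz]
      linear_combination F4.two_eq_zero U.card
    obtain ⟨a0, a1, -, -⟩ := U.al_spec ho hy hz
    rw [Q, if_pos ⟨hy, hz⟩]
    exact F4.sq_add_add U.card a0 a1

theorem φ_ne {d : G} (hd : d ∈ D) : U.φ d ≠ 0 := by
  rcases U.triv hd with rfl | hn | ho
  · rw [U.φ_x]; exact fun e => one_ne_zero (congrArg Prod.fst e)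
  · obtain ⟨t, ht⟩ := U.exists_cls hn
    rw [U.φ_cls t ht]
    by_cases hc : U.co t d = 0
    · rw [hc, U.kv_zero]
      exact fun e => U.Φ_ne t (congrArg (fun v : F × F × ↥U.W => (v.2.2 : ↥(Hyp.com D x y) → F)) e)
    · rw [U.kv_ne t hc]; exact fun e => one_ne_zero (congrArg Prod.fst e)
  · rw [U.φ_out ho]; exact fun e => one_ne_zero (congrArg (fun v : F × F × ↥U.W => v.2.1) e)

/-- only `y` has the vector of `y` -/
theorem eq_y {d : G} (hd : d ∈ D) {c : F} (hc : c ≠ 0) (e : U.φ d = c • U.φ y) : d = y := by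
  rw [U.φ_y] at e
  simp only [Prod.smul_mk, smul_eq_mul, mul_zero, mul_one, smul_zero] at e
  rcases U.triv hd with rfl | hn | ho
  · rw [U.φ_x] at e; exact absurd (congrArg Prod.fst e) one_ne_zero
  · obtain ⟨t, ht⟩ := U.exists_cls hn
    rw [U.φ_cls t ht] at e
    by_cases hc' : U.co t d = 0
    · rw [hc', U.kv_zero] at e
      exact absurd (congrArg (fun v : F × F × ↥U.W => v.2.1) e).symm hc
    · rw [U.kv_ne t hc'] at e
      exact absurd (congrArg (fun v : F × F × ↥U.W => v.2.1) e).symm hc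
  rw [U.φ_out ho] at e
  have hal : U.al d = 0 := congrArg Prod.fst e
  have hsec : U.sec d = 0 := congrArg (fun v : F × F × ↥U.W => (v.2.2 : ↥(Hyp.com D x y) → F)) e
  have h := U.five.pol
  have hdy : Commute d y := by
    by_contra hy
    by_cases hz : Commute d (cj y x)
    · rw [U.al_z hy hz] at hal; exact one_ne_zero hal
    · exact (U.al_spec ho hy hz).1 hal
  by_contra hne
  have hn : d ∈ nbr D y := ⟨hd, hne, hdy.symm⟩
  obtain ⟨u, hu, hux⟩ := h.exists_perp U.five.hy hn U.five.hx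
  have huy : u ≠ y := fun e' => U.five.hxy (e' ▸ hux).symm
  have hun := h.ln_nbr U.five.hy hn hu huy
  have huT : u ∈ Hyp.com D x y := ⟨⟨hun.1, fun e' => U.five.hxy (e' ▸ hun.2.2.symm), hux.symm⟩, hun.2.2.symm⟩
  obtain ⟨q, hq, huq⟩ := h.com_nc U.five.hx U.five.hy U.five.hxy huT
  have hqd : Commute q d := (U.sec_zero_iff ho ⟨q, hq⟩).1 (congrFun hsec _)
  exact huq (hu.2 q hq.1.1 hq.2 hqd).symm

/-! ### Every isotropic vector belongs to a member -/

/-- the vectors of members, up to scalars -/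
def Real (v : F × F × ↥U.W) : Prop := ∃ d ∈ D, ∃ l : F, l ≠ 0 ∧ U.φ d = l • v

theorem real_step {a : G} (he : U.Eqv a) {v : F × F × ↥U.W} (hv : U.Real v) : U.Real (U.τ (U.φ a) v) := by
  obtain ⟨d, hd, l, hl, hlv⟩ := hv
  obtain ⟨m, hm, hmv⟩ := he d hd
  refine ⟨_, U.five.pol.mem_cj a hd, m * l, mul_ne_zero hm hl, ?_⟩
  rw [hmv, hlv, τ, τ, U.hV_smul_right]
  simp only [smul_add, smul_smul, mul_assoc]

theorem real_smul {v : F × F × ↥U.W} {c : F} (hc : c ≠ 0) (hv : U.Real (c • v)) : U.Real v := by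
  obtain ⟨d, hd, l, hl, hlv⟩ := hv
  exact ⟨d, hd, l * c, mul_ne_zero hl hc, by rw [hlv, smul_smul]⟩

theorem real_shift (w : ↥U.W) : ∃ a : F, U.Real (a, 1, w) := by
  have key : ∀ z ∈ U.W, ∀ (c : F) (w : ↥U.W), (∃ a : F, U.Real (a, 1, w)) → ∀ w' : ↥U.W,
      (w' : ↥(Hyp.com D x y) → F) = w + c • z → ∃ a : F, U.Real (a, 1, w') := by
    intro z hz
    induction hz using Submodule.span_induction with
    | mem z hz =>
      obtain ⟨t, rfl⟩ := hz
      intro c w hw w' hw'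
      obtain ⟨a, hr⟩ := hw
      obtain ⟨c', hc'⟩ : ∃ c', c' = c + (w : ↥(Hyp.com D x y) → F) t := ⟨_, rfl⟩
      obtain ⟨k, hk, hkc⟩ := U.exists_pt t.2 c'
      have hstep := U.real_step (U.eqv_cls t hk) hr
      rw [U.φ_cls t hk, hkc] at hstep
      by_cases h0 : c' = 0
      · refine ⟨a, ?_⟩
        rw [h0] at hc'
        have hcw := F4.eq_of_add U.card hc'.symm
        convert hstep using 1
        rw [h0, U.kv_zero, τ, hV, U.hW_Φ]
        simp only [zero_pow two_ne_zero, zero_mul, zero_add, Prod.smul_mk, Prod.mk_add_mk, smul_eq_mul, mul_zero,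
          add_zero]
        refine U.ext3 rfl rfl ?_
        rw [hw', ← hcw]
        rfl
      · refine ⟨a + (1 + c' ^ 2 * (w : ↥(Hyp.com D x y) → F) t), ?_⟩
        convert hstep using 1
        rw [U.kv_ne t h0, τ, hV, U.hW_smul_left, U.hW_Φ]
        simp only [one_pow, zero_pow two_ne_zero, zero_mul, one_mul, mul_one, mul_zero, zero_add, add_zero,
          Prod.smul_mk, Prod.mk_add_mk, smul_eq_mul]
        refine U.ext3 rfl rfl ?_
        show (w' : ↥(Hyp.com D x y) → F) = w + (1 + c' ^ 2 * (w : ↥(Hyp.com D x y) → F) t) • c' • U.Φ t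
        rw [hw', smul_smul]
        congr 2
        linear_combination -hc' - (w : ↥(Hyp.com D x y) → F) t * F4.cube U.card h0
          - (w : ↥(Hyp.com D x y) → F) t * F4.two_eq_zero U.card
    | zero =>
      intro c w hw w' hw'
      rw [smul_zero, add_zero] at hw'
      rwa [Subtype.ext hw']
    | add p q hp hq ihp ihq =>
      intro c w hw w' hw'
      refine ihq c (w + c • ⟨p, hp⟩) (ihp c w hw _ rfl) w' ?_
      rw [hw', smul_add, ← add_assoc]
      rfl
    | smul s p hp ih =>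
      intro c w hw w' hw'
      exact ih (c * s) w hw w' (by rw [hw', smul_smul])
  refine key _ w.2 1 0 ⟨0, y, U.five.hy, 1, one_ne_zero, ?_⟩ w (by simp)
  rw [U.φ_y, one_smul]

theorem real_one {a : F} {w : ↥U.W} (h0 : U.hV (a, 1, w) (a, 1, w) = 0) : U.Real (a, 1, w) := by
  obtain ⟨b, hr⟩ := U.real_shift w
  obtain ⟨d, hd, l, hl, hdl⟩ := hr
  have h1 := U.φ_iso hd
  rw [hdl, U.hV_smul_left, U.hV_smul_right, ← mul_assoc, ← pow_succ, F4.cube U.card hl, one_mul] at h1
  simp only [hV, one_pow, one_mul, mul_one] at h0 h1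
  have hab : (a + b) * (a + b + 1) = 0 := by
    linear_combination h0 - h1 + (a * b + b ^ 2 + b) * F4.two_eq_zero U.card
  rcases mul_eq_zero.1 hab with e | e
  · rw [F4.eq_of_add U.card e]
    exact ⟨d, hd, l, hl, hdl⟩
  · have hs := U.real_step U.eqv_x (⟨d, hd, l, hl, hdl⟩ : U.Real (b, 1, w))
    have e' : U.τ (U.φ x) (b, 1, w) = (a, 1, w) := by
      rw [U.φ_x, τ, hV, U.hW_zero_left]
      simp only [one_pow, zero_pow two_ne_zero, zero_mul, one_mul, add_zero, Prod.smul_mk, Prod.mk_add_mk,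
        smul_eq_mul, mul_zero, smul_zero, mul_one]
      refine U.ext3 ?_ rfl rfl
      linear_combination e - a * F4.two_eq_zero U.card
    rwa [e'] at hs

theorem real_of_snd {v : F × F × ↥U.W} (hv : U.hV v v = 0) (hb : v.2.1 ≠ 0) : U.Real v := by
  obtain ⟨a, b, w⟩ := v
  simp only at hb
  refine U.real_smul (inv_ne_zero hb) ?_
  have h0 : U.hV (b⁻¹ • (a, b, w)) (b⁻¹ • (a, b, w)) = 0 := by
    rw [U.hV_smul_left, U.hV_smul_right, hv, mul_zero, mul_zero]
  simp only [Prod.smul_mk, smul_eq_mul, inv_mul_cancel₀ hb] at h0 ⊢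
  exact U.real_one h0

theorem real_of_fst {v : F × F × ↥U.W} (hv : U.hV v v = 0) (ha : v.1 ≠ 0) : U.Real v := by
  by_cases hb : v.2.1 = 0
  swap
  · exact U.real_of_snd hv hb
  have hy0 := U.φ_iso U.five.hy
  have h2 : (U.τ (U.φ y) v).2.1 ≠ 0 := by
    rw [U.φ_y, τ, hV, U.hW_zero_left]
    simpa [hb] using ha
  have := U.real_step U.eqv_y (U.real_of_snd ((U.τ_iso hy0 v v).trans hv) h2)
  rwa [U.τ_τ hy0] at this

/-- every isotropic vector belongs to a member -/
theorem real_of_iso {v : F × F × ↥U.W} (hv : U.hV v v = 0) (hne : v ≠ 0) : U.Real v := by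
  by_cases ha : v.1 = 0
  swap
  · exact U.real_of_fst hv ha
  by_cases hb : v.2.1 = 0
  swap
  · exact U.real_of_snd hv hb
  obtain ⟨a, b, w⟩ := v
  simp only at ha hb
  subst ha
  subst hb
  obtain ⟨t, ht⟩ : ∃ t, (w : ↥(Hyp.com D x y) → F) t ≠ 0 := by
    by_contra hno
    push Not at hno
    exact hne (U.ext3 rfl rfl (funext hno))
  obtain ⟨k, hk, hkc⟩ := U.exists_pt t.2 1
  have hk0 := U.φ_iso (U.five.pol.cls_nbr U.five.hx t.2.1 hk).1
  have h2 : (U.τ (U.φ k) (0, 0, w)).1 ≠ 0 := by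
    rw [U.φ_cls t hk, hkc, U.kv_ne t one_ne_zero, one_smul, τ, hV, U.hW_Φ]
    simpa using ht
  have := U.real_step (U.eqv_cls t hk) (U.real_of_fst ((U.τ_iso hk0 _ _).trans hv) h2)
  rwa [U.τ_τ hk0] at this

/-- an isotropic vector of the space of sections is a row -/
theorem row_of_iso {w : ↥U.W} (hw : U.hW w w = 0) (hne : w ≠ 0) :
    ∃ (t : ↥(Hyp.com D x y)) (l : F), l ≠ 0 ∧ U.Φ t = l • (w : ↥(Hyp.com D x y) → F) := by
  obtain ⟨d, hd, l, hl, e⟩ := U.real_of_iso (v := (0, 0, w)) (by rw [hV, hw]; simp)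
    (fun e => hne (congrArg (fun v : F × F × ↥U.W => v.2.2) e))
  simp only [Prod.smul_mk, smul_eq_mul, mul_zero] at e
  rcases U.triv hd with rfl | hn | ho
  · rw [U.φ_x] at e; exact absurd (congrArg Prod.fst e) one_ne_zero
  · obtain ⟨t, ht⟩ := U.exists_cls hn
    rw [U.φ_cls t ht] at e
    by_cases hc : U.co t d = 0
    · rw [hc, U.kv_zero] at e
      exact ⟨t, l, hl, congrArg (fun v : F × F × ↥U.W => (v.2.2 : ↥(Hyp.com D x y) → F)) e⟩
    · rw [U.kv_ne t hc] at e; exact absurd (congrArg Prod.fst e) one_ne_zero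
  · rw [U.φ_out ho] at e
    exact absurd (congrArg (fun v : F × F × ↥U.W => v.2.1) e) one_ne_zero

/-- the rows of two non-commuting members are independent -/
theorem two_le_finrank : 2 ≤ Module.finrank F ↥U.W := by
  obtain ⟨t, ht⟩ := U.five.pol.hyp.exists_common U.five.hx U.five.hy U.five.hxy
  obtain ⟨u, hu, htu⟩ := U.five.pol.com_nc U.five.hx U.five.hy U.five.hxy ht
  have hli : LinearIndependent F ![(⟨U.Φ ⟨t, ht⟩, U.Φ_mem _⟩ : ↥U.W), ⟨U.Φ ⟨u, hu⟩, U.Φ_mem _⟩] := by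
    rw [LinearIndependent.pair_iff]
    intro p q hpq
    have e1 := congrFun (congrArg Subtype.val hpq) ⟨t, ht⟩
    have e2 := congrFun (congrArg Subtype.val hpq) ⟨u, hu⟩
    simp only [Submodule.coe_add, SetLike.val_smul, Submodule.coe_zero, Pi.add_apply, Pi.smul_apply, smul_eq_mul,
      Pi.zero_apply, Φ, U.γ_self ht, U.γ_self hu, mul_zero, zero_add, add_zero] at e1 e2
    exact ⟨(mul_eq_zero.1 e2).resolve_right (U.γ_ne ht hu htu),
      (mul_eq_zero.1 e1).resolve_right (U.γ_ne hu ht fun c => htu c.symm)⟩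
  simpa using hli.fintype_card_le_finrank

/-- commuting common neighbours exist as soon as the space of sections has dimension four -/
theorem finrank_le_three (hthin : ∀ p ∈ Hyp.com D x y, ∀ q ∈ Hyp.com D x y, Commute p q → p = q) :
    Module.finrank F ↥U.W ≤ 3 := by
  by_contra hlt
  obtain ⟨t, ht⟩ := U.five.pol.hyp.exists_common U.five.hx U.five.hy U.five.hxy
  obtain ⟨u, hu, htu⟩ := U.five.pol.com_nc U.five.hx U.five.hy U.five.hxy ht
  obtain ⟨et, het⟩ : ∃ e : ↥U.W, e = ⟨U.Φ ⟨t, ht⟩, U.Φ_mem _⟩ := ⟨_, rfl⟩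
  obtain ⟨f, hf⟩ : ∃ f : ↥U.W →ₗ[F] F × F,
      ∀ w, f w = ((w : ↥(Hyp.com D x y) → F) ⟨t, ht⟩, (w : ↥(Hyp.com D x y) → F) ⟨u, hu⟩) :=
    ⟨{ toFun := fun w => ((w : ↥(Hyp.com D x y) → F) ⟨t, ht⟩, (w : ↥(Hyp.com D x y) → F) ⟨u, hu⟩)
       map_add' := fun _ _ => rfl
       map_smul' := fun _ _ => rfl }, fun _ => rfl⟩
  obtain ⟨b0, b1, hb0, hb1, hpair⟩ := exists_pair_ker f (by omega)
  obtain ⟨w, hwk, hw0, hwq⟩ : ∃ w : ↥U.W, f w = 0 ∧ w ≠ 0 ∧ U.hW w w = 0 := by
    have n0 : b0 ≠ 0 := fun e => one_ne_zero (hpair 1 0 (by rw [e, smul_zero, zero_smul, add_zero])).1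
    have n1 : b1 ≠ 0 := fun e => one_ne_zero (hpair 0 1 (by rw [e, smul_zero, zero_smul, add_zero])).2
    have hval : ∀ w : ↥U.W, U.hW w w = 0 ∨ U.hW w w = 1 := fun w => by
      have := U.hV_self (0, 0, w)
      simpa [hV] using this
    rcases hval b0 with h0 | h0
    · exact ⟨b0, hb0, n0, h0⟩
    rcases hval b1 with h1 | h1
    · exact ⟨b1, hb1, n1, h1⟩
    obtain ⟨c, hc⟩ : ∃ c, c = U.hW b0 b1 := ⟨_, rfl⟩
    obtain ⟨l, hl, hlc⟩ : ∃ l : F, l ≠ 0 ∧ (l * c = 0 ∨ l * c = 1) := by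
      by_cases hc0 : c = 0
      · exact ⟨1, one_ne_zero, Or.inl (by rw [hc0, mul_zero])⟩
      · exact ⟨c⁻¹, inv_ne_zero hc0, Or.inr (inv_mul_cancel₀ hc0)⟩
    refine ⟨b0 + l • b1, ?_, fun e => ?_, ?_⟩
    · rw [map_add, map_smul, hb0, hb1, smul_zero, add_zero]
    · have := hpair 1 l (by rw [one_smul]; exact e)
      exact one_ne_zero this.1
    · simp only [U.hW_add_left, U.hW_add_right, U.hW_smul_left, U.hW_smul_right, h0, h1, U.hW_swap b0 b1,
        ← hc]
      rcases hlc with e | e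
      · linear_combination F4.cube U.card hl + F4.two_eq_zero U.card + (1 + l * c) * e
      · linear_combination F4.cube U.card hl + (2 + l * c) * e + 2 * F4.two_eq_zero U.card
  obtain ⟨t', l, hl, e⟩ := U.row_of_iso hwq hw0
  have h1 : U.γ t' t = 0 := by
    have := congrFun e ⟨t, ht⟩
    rw [Pi.smul_apply, show (w : ↥(Hyp.com D x y) → F) ⟨t, ht⟩ = 0 from congrArg Prod.fst ((hf w).symm.trans hwk), smul_zero] at this
    exact this
  have h2 : U.γ t' u = 0 := by
    have := congrFun e ⟨u, hu⟩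
    rw [Pi.smul_apply, show (w : ↥(Hyp.com D x y) → F) ⟨u, hu⟩ = 0 from congrArg Prod.snd ((hf w).symm.trans hwk), smul_zero] at this
    exact this
  have hc : Commute (t' : G) t := by
    by_contra hc
    exact U.γ_ne t'.2 ht hc h1
  have := hthin _ t'.2 _ ht hc
  rw [this] at h2
  exact U.γ_ne ht hu htu h2

end UData

end Cfsg.Agent.Fischer.Twin
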