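import Cfsg.Agent.Lib.Fischer.Twin.USec

/-!
The value of the form on a section tells whether the member commutes with `y` or `z`; the remaining invariant is a
scalar.
-/

set_option autoImplicit false
set_option linter.unusedSectionVars false

namespace Cfsg.Agent.Fischer.Twin

variable {G : Type*} [Group G] {D : Set G}

namespace UData

/-- one of the two members `y`, `z` -/
structure Side (D : Set G) (x y : G) (w w' : G) : Prop where
  out : w ∈ UData.out D x
  com : ∀ t ∈ Hyp.com D x y, Commute t w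
  img : cj w x = w'
  only : ∀ t ∈ Hyp.com D x y, ∀ a ∈ cls D x t, Commute a w → a = t

variable [Finite G] {x y : G} {F : Type*} [Field F] [Fintype F] (U : UData D x y F)
include U

theorem x_eq : cj y (cj y x) = x := U.five.pol.cj_twice U.five.hy x

theorem z_eq : cj y x = cj x y := U.five.pol.braid U.five.hy U.five.hx fun c => U.five.hxy c.symm

theorem z_out : cj y x ∈ out D x := ⟨U.five.pol.mem_cj y U.five.hx, by
  rw [U.z_eq]; exact U.five.pol.third_not U.five.hx U.five.hxy⟩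

theorem y_not_z : ¬ Commute y (cj y x) := U.five.pol.third_not U.five.hy fun c => U.five.hxy c.symm

theorem sideY : Side D x y y (cj y x) :=
  ⟨U.y_out, fun _ ht => ht.2, rfl, fun _ ht _ ha c => U.five.pol.com_unique U.five.hx U.five.hy U.five.hxy ht ha c⟩

theorem sideZ : Side D x y (cj y x) y := by
  refine ⟨U.z_out, fun t ht => ?_, ?_, fun t ht a ha c => ?_⟩
  · rw [← cj_fix ht.2.symm, cj_commute]; exact ht.1.2.2.symm
  · rw [U.five.pol.braid (U.five.pol.mem_cj y U.five.hx) U.five.hx fun c => U.z_out.2 c.symm, U.z_eq,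
      U.five.pol.cj_twice U.five.hx]
  · refine U.five.pol.com_unique U.five.hx U.five.hy U.five.hxy ht ha ?_
    have hax := (U.five.pol.cls_nbr U.five.hx ht.1 ha).2.2
    have := (cj_commute x).2 c
    rwa [cj_fix hax, U.z_eq, U.five.pol.cj_twice U.five.hx] at this

section Side

variable {w w' : G} (S : Side D x y w w')
include S

theorem side_x : cj w w' = x := by rw [← S.img, U.five.pol.cj_twice S.out.1]

theorem side_out {d : G} (hd : d ∈ out D x) (hn : ¬ Commute d w') : cj w d ∈ out D x :=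
  ⟨U.five.pol.mem_cj w hd.1, fun c => hn (by
    rw [← U.five.pol.cj_commute_iff S.out.1, S.img] at c
    exact c.symm)⟩

theorem side_sec_zero {d : G} (hd : d ∈ out D x) (hn : ¬ Commute d w') (t : ↥(Hyp.com D x y)) :
    U.sec (cj w d) t = 0 ↔ U.sec d t = 0 := by
  rw [U.sec_zero_iff (U.side_out S hd hn), U.sec_zero_iff hd]
  conv_lhs => rw [← cj_fix (S.com t t.2).symm, cj_commute]

theorem side_fix {d : G} (hw : Commute d w) : U.sec (cj w d) = U.sec d := by rw [cj_fix hw.symm]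

theorem k_not_side {t : ↥(Hyp.com D x y)} {k : G} (hk : k ∈ cls D x t) (hc : U.co t k ≠ 0) :
    ¬ Commute k w := fun c => hc (by rw [S.only t t.2 k hk c, U.coord.zero t t.2])

/-- whether the conjugate commutes with `w` -/
theorem crit {d k : G} (hd : d ∈ out D x) (t : ↥(Hyp.com D x y)) (hk : k ∈ cls D x t) (hc : U.co t k ≠ 0) :
    (¬ Commute d w' → (Commute (cj k d) w ↔ U.co t k = U.sec (cj w d) t)) ∧
      (Commute d w' → (Commute (cj k d) w ↔ U.sec d t = 0)) := by
  have h := U.five.pol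
  have hkn := h.cls_nbr U.five.hx t.2.1 hk
  have e : Commute (cj k d) w ↔ Commute d (cj w k) := by
    rw [h.cj_commute_iff hk.1.1, h.braid hk.1.1 S.out.1 (U.k_not_side S hk hc)]
  refine ⟨fun hn => ?_, fun hw' => ?_⟩
  · rw [e, ← h.cj_commute_iff S.out.1, ← U.sec_spec (U.side_out S hd hn) t hk]
    exact ⟨fun c => c.symm, fun c => c.symm⟩
  · rw [e, U.sec_zero_iff hd]
    have htn : (t : G) ∈ nbr D w' := by
      refine ⟨t.2.1.1, fun e' => ?_, ?_⟩
      · have h1 := U.side_x S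
        rw [← e', cj_fix (S.com t t.2).symm] at h1
        exact t.2.1.2.1 h1
      · have h1 := (cj_commute w).2 t.2.1.2.2
        rwa [S.img, cj_fix (S.com t t.2).symm] at h1
    have hl : cj w k ∈ ln D w' t := by
      have := h.cj_ln w hk.1
      rwa [S.img, cj_fix (S.com t t.2).symm] at this
    have hne : cj w k ≠ w' := fun e' => hkn.2.1 (cj_inj (e'.trans S.img.symm))
    refine ⟨fun c => ?_, fun c => hl.2 d hd.1 hw' c.symm⟩
    have hw'D : w' ∈ D := S.img ▸ h.mem_cj w U.five.hx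
    exact (h.ln_all hw'D htn (ln_left hw'D) hl hne.symm (ln_right t.2.1.1) hd.1 hw' c).symm

theorem crit_zero {d k : G} (t : ↥(Hyp.com D x y)) (hk : k ∈ cls D x t) (hc : U.co t k = 0) :
    Commute (cj k d) w ↔ Commute d w := by
  have hkt : k = t := (U.coord.bij t t.2).injOn hk (U.five.pol.self_cls t.2.1) (hc.trans (U.coord.zero t t.2).symm)
  conv_lhs => rw [← cj_fix (show Commute k w from hkt ▸ S.com t t.2), cj_commute]

theorem side_ne_sec {d : G} (hd : d ∈ out D x) (hn : ¬ Commute d w') (hw : ¬ Commute d w)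
    (t : ↥(Hyp.com D x y)) (h0 : U.sec d t ≠ 0) : U.sec (cj w d) t ≠ U.sec d t := fun e => by
  obtain ⟨k, hk, hkc⟩ := U.exists_pt t.2 (U.sec d t)
  have hkd := (U.sec_spec hd t hk).2 hkc
  refine hw ?_
  have := ((U.crit S hd t hk (hkc ▸ h0)).1 hn).2 (hkc.trans e.symm)
  rwa [cj_fix hkd] at this

end Side

theorem not_both {d : G} (hd : d ∈ out D x) (hy : Commute d y) (hz : Commute d (cj y x)) : False := hd.2 (by
  have := (cj_commute y).2 hz
  rw [cj_fix hy.symm, U.x_eq] at this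
  exact this.symm)

theorem yz_ne {d : G} (hd : d ∈ out D x) (hy : ¬ Commute d y) (hz : ¬ Commute d (cj y x))
    (t : ↥(Hyp.com D x y)) (h0 : U.sec d t ≠ 0) : U.sec (cj y d) t ≠ U.sec (cj (cj y x) d) t := fun e => by
  obtain ⟨k, hk, hkc⟩ := U.exists_pt t.2 (U.sec (cj y d) t)
  have hne : U.co t k ≠ 0 := hkc ▸ fun e' => h0 ((U.side_sec_zero U.sideY hd hz t).1 e')
  exact U.not_both (U.cj_out hd (U.five.pol.cls_nbr U.five.hx t.2.1 hk))
    (((U.crit U.sideY hd t hk hne).1 hz).2 hkc) (((U.crit U.sideZ hd t hk hne).1 hy).2 (hkc.trans e))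

open scoped _root_.Classical in
/-- one if the member commutes neither with `y` nor with `z` -/
noncomputable def Q (_U : UData D x y F) (d : G) : F := if ¬ Commute d y ∧ ¬ Commute d (cj y x) then 1 else 0

theorem Q_swap {d d' : G} (e1 : Commute d' y ↔ Commute d (cj y x)) (e2 : Commute d' (cj y x) ↔ Commute d y) :
    U.Q d' = U.Q d := by
  classical
  rw [Q, Q]
  exact if_congr ⟨fun a => ⟨fun c => a.2 (e2.2 c), fun c => a.1 (e1.2 c)⟩,
    fun a => ⟨fun c => a.2 (e1.1 c), fun c => a.1 (e2.1 c)⟩⟩ rfl rfl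

section Form

variable [Fintype ↥(Hyp.com D x y)]

/-- the form of a section -/
theorem hW_sec {d : G} (hd : d ∈ out D x) : U.hW ⟨U.sec d, U.sec_mem hd⟩ ⟨U.sec d, U.sec_mem hd⟩ = U.Q d := by
  classical
  have hx := U.five.hx
  have h := U.five.pol
  have key : ∀ e, e ∈ out D x → ∀ he : U.sec e ∈ U.W, U.hW ⟨U.sec e, he⟩ ⟨U.sec e, he⟩ = U.Q e := by
    refine U.out_induction (P := fun e => ∀ he : U.sec e ∈ U.W, U.hW ⟨U.sec e, he⟩ ⟨U.sec e, he⟩ = U.Q e) ?_ ?_ ?_
    · intro he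
      have : (⟨U.sec y, he⟩ : ↥U.W) = 0 := Subtype.ext U.sec_y
      rw [this, Q, if_neg fun e => e.1 (Commute.refl y), ← zero_smul F (0 : ↥U.W), U.hW_smul_right, zero_mul]
    · intro k hk d hd ih he
      obtain ⟨r, hr, hrn, hry, -⟩ := h.exists_rep hx U.five.hy U.five.hxy hk
      have hkr : k ∈ cls D x r := ⟨by rw [h.ln_eq hx hk hr hrn.2.1]; exact ln_right hk.1, hk.2.1⟩
      let t : ↥(Hyp.com D x y) := ⟨r, hrn, hry⟩
      obtain ⟨a, ha⟩ : ∃ a, a = U.sec d t + U.co t k := ⟨_, rfl⟩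
      have e : (⟨U.sec (cj k d), he⟩ : ↥U.W) = ⟨U.sec d, U.sec_mem hd⟩ + a • ⟨U.Φ t, U.Φ_mem t⟩ :=
        Subtype.ext (by rw [ha]; exact U.sec_cj hd t hkr)
      have h1 : U.hW ⟨U.sec (cj k d), he⟩ ⟨U.sec (cj k d), he⟩ =
          U.Q d + (U.co t k * U.sec d t ^ 2 + U.co t k ^ 2 * U.sec d t) := by
        rw [e]
        simp only [U.hW_add_left, U.hW_add_right, U.hW_smul_left, U.hW_smul_right, ih (U.sec_mem hd)]
        rw [U.hW_swap ⟨U.Φ t, U.Φ_mem t⟩ ⟨U.sec d, U.sec_mem hd⟩, U.hW_Φ, U.hW_Φ]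
        simp only [show U.Φ t t = 0 from U.γ_self t.2, ha]
        linear_combination (U.sec d t ^ 3 + U.co t k * U.sec d t ^ 2) * F4.two_eq_zero U.card
      rw [h1]
      by_cases hc : U.co t k = 0
      · rw [hc, Q, Q, U.crit_zero U.sideY t hkr hc, U.crit_zero U.sideZ t hkr hc]; ring
      have cy := U.crit U.sideY hd t hkr hc
      have cz := U.crit U.sideZ hd t hkr hc
      by_cases hs : U.sec d t = 0
      · have e1 : Commute (cj k d) y ↔ Commute d (cj y x) := by
          refine ⟨fun c => ?_, fun c => (cy.2 c).2 hs⟩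
          by_contra hn
          exact hc (((cy.1 hn).1 c).trans ((U.side_sec_zero U.sideY hd hn t).2 hs))
        have e2 : Commute (cj k d) (cj y x) ↔ Commute d y := by
          refine ⟨fun c => ?_, fun c => (cz.2 c).2 hs⟩
          by_contra hn
          exact hc (((cz.1 hn).1 c).trans ((U.side_sec_zero U.sideZ hd hn t).2 hs))
        rw [hs, U.Q_swap e1 e2]; ring
      by_cases hcs : U.co t k = U.sec d t
      · rw [cj_fix ((U.sec_spec hd t hkr).2 hcs), hcs]
        linear_combination U.sec d t ^ 3 * F4.two_eq_zero U.card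
      have hval : U.co t k * U.sec d t ^ 2 + U.co t k ^ 2 * U.sec d t = 1 := by
        obtain ⟨u, hu⟩ : ∃ u, u = U.co t k * U.sec d t ^ 2 := ⟨_, rfl⟩
        have hs3 := F4.cube U.card hs
        have hc' : U.co t k = u * U.sec d t := by rw [hu, mul_assoc, ← pow_succ, hs3, mul_one]
        have h2 := F4.sq_add_add U.card (x := u) (by rw [hu]; exact mul_ne_zero hc (pow_ne_zero _ hs))
          (fun e' => hcs (by rw [hc', e', one_mul]))
        rw [hc']
        linear_combination (u + u ^ 2) * hs3 + h2 - F4.two_eq_zero U.card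
      rw [hval]
      by_cases hdy : Commute d y
      · have hdz : ¬ Commute d (cj y x) := fun c => U.not_both hd hdy c
        have n1 : ¬ Commute (cj k d) y := fun c => hcs (by
          rw [(cy.1 hdz).1 c, U.side_fix U.sideY hdy])
        have n2 : ¬ Commute (cj k d) (cj y x) := fun c => hs ((cz.2 hdy).1 c)
        rw [Q, Q, if_neg (fun e' => e'.1 hdy), if_pos ⟨n1, n2⟩, zero_add]
      by_cases hdz : Commute d (cj y x)
      · have n1 : ¬ Commute (cj k d) y := fun c => hs ((cy.2 hdz).1 c)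
        have n2 : ¬ Commute (cj k d) (cj y x) := fun c => hcs (by
          rw [(cz.1 hdy).1 c, U.side_fix U.sideZ hdz])
        rw [Q, Q, if_neg (fun e' => e'.2 hdz), if_pos ⟨n1, n2⟩, zero_add]
      have hor : U.co t k = U.sec (cj y d) t ∨ U.co t k = U.sec (cj (cj y x) d) t := by
        by_contra hno
        push Not at hno
        have e3 := F4.third U.card (mt (U.side_sec_zero U.sideY hd hdz t).1 hs)
          (mt (U.side_sec_zero U.sideZ hd hdy t).1 hs) (U.yz_ne hd hdy hdz t hs) hc hno.1 hno.2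
        have e4 := F4.third U.card (mt (U.side_sec_zero U.sideY hd hdz t).1 hs)
          (mt (U.side_sec_zero U.sideZ hd hdy t).1 hs) (U.yz_ne hd hdy hdz t hs) hs
          (U.side_ne_sec U.sideY hd hdz hdy t hs).symm (U.side_ne_sec U.sideZ hd hdy hdz t hs).symm
        exact hcs (e3.trans e4.symm)
      rw [Q, Q, if_pos ⟨hdy, hdz⟩, F4.add_self U.card, if_neg]
      rintro ⟨n1, n2⟩
      rcases hor with e' | e'
      · exact n1 ((cy.1 hdz).2 e')
      · exact n2 ((cz.1 hdy).2 e')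
    · intro d hd ih he
      have e : (⟨U.sec (cj x d), he⟩ : ↥U.W) = ⟨U.sec d, U.sec_mem hd⟩ := Subtype.ext (U.sec_cj_x hd)
      rw [e, ih (U.sec_mem hd)]
      have e1 : Commute (cj x d) y ↔ Commute d (cj y x) := by rw [h.cj_commute_iff hx, U.z_eq]
      have e2 : Commute (cj x d) (cj y x) ↔ Commute d y := by
        rw [h.cj_commute_iff hx, U.z_eq, h.cj_twice hx]
      exact (U.Q_swap e1 e2).symm
  exact key d hd _

theorem sec_ne {d : G} (hd : d ∈ out D x) (hy : ¬ Commute d y) (hz : ¬ Commute d (cj y x)) :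
    ∀ (c : F) (t : ↥(Hyp.com D x y)), U.sec d ≠ c • U.Φ t := by
  intro c t e
  have h1 := U.hW_sec hd
  have e' : (⟨U.sec d, U.sec_mem hd⟩ : ↥U.W) = c • ⟨U.Φ t, U.Φ_mem t⟩ := Subtype.ext e
  rw [e', U.hW_smul_left, U.hW_smul_right, U.hW_Φ] at h1
  simp only [show U.Φ t t = 0 from U.γ_self t.2, mul_zero] at h1
  rw [Q, if_pos ⟨hy, hz⟩] at h1
  exact zero_ne_one h1

theorem sec_ne_zero {d : G} (hd : d ∈ out D x) (hy : ¬ Commute d y) (hz : ¬ Commute d (cj y x)) :
    ∃ t, U.sec d t ≠ 0 := by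
  by_contra hno
  push Not at hno
  obtain ⟨t₀, ht₀⟩ := U.five.pol.hyp.exists_common U.five.hx U.five.hy U.five.hxy
  exact U.sec_ne hd hy hz 0 ⟨t₀, ht₀⟩ (by rw [zero_smul]; exact funext hno)

/-- the scalar of a member commuting neither with `y` nor `z` -/
theorem exists_ratio {d : G} (hd : d ∈ out D x) (hy : ¬ Commute d y) (hz : ¬ Commute d (cj y x)) :
    ∃ a : F, a ≠ 0 ∧ a ≠ 1 ∧ U.sec (cj (cj y x) d) = a ^ 2 • U.sec d ∧ U.sec (cj y d) = a • U.sec d := by
  classical
  obtain ⟨σ, hσ⟩ : ∃ σ, σ = U.sec d := ⟨_, rfl⟩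
  obtain ⟨A, hA⟩ : ∃ A, A = U.sec (cj (cj y x) d) := ⟨_, rfl⟩
  have h := U.five.pol
  have hzA : ∀ t, σ t = 0 → A t = 0 := fun t e =>
    hA ▸ (U.side_sec_zero U.sideZ hd hy t).2 (hσ ▸ e)
  have hA0 : ∀ t, σ t ≠ 0 → A t ≠ 0 ∧ A t ≠ σ t := fun t e => hA ▸ hσ ▸
    ⟨mt (U.side_sec_zero U.sideZ hd hy t).1 (hσ ▸ e), U.side_ne_sec U.sideZ hd hy hz t (hσ ▸ e)⟩
  obtain ⟨r, hr⟩ : ∃ r : ↥(Hyp.com D x y) → F, ∀ t, r t = A t * σ t ^ 2 := ⟨fun t => A t * σ t ^ 2, fun _ => rfl⟩
  have hr' : ∀ t, σ t ≠ 0 → A t = r t * σ t ∧ r t ≠ 0 ∧ r t ≠ 1 := fun t e => by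
    have h3 := F4.cube U.card e
    have e1 : A t = r t * σ t := by rw [hr, mul_assoc, ← pow_succ, h3, mul_one]
    exact ⟨e1, fun e' => (hA0 t e).1 (by rw [e1, e', zero_mul]), fun e' => (hA0 t e).2 (by rw [e1, e', one_mul])⟩
  have hσW : σ ∈ U.W := hσ ▸ U.sec_mem hd
  have hAW : A ∈ U.W := hA ▸ U.sec_mem (U.side_out U.sideZ hd hy)
  have adj : ∀ t u : ↥(Hyp.com D x y), ¬ Commute (t : G) u → σ t ≠ 0 → σ u ≠ 0 → r t = r u := by
    intro t u htu ht hu
    let n : ↥(Hyp.com D x y) := ⟨cj (t : G) u, h.com_closed t.2 u.2⟩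
    have h1 : σ n = U.γ t n * σ t + U.γ u n * σ u := U.W_rel hσW htu
    have h2 : A n = U.γ t n * A t + U.γ u n * A u := U.W_rel hAW htu
    rw [(hr' t ht).1, (hr' u hu).1] at h2
    have gt : U.γ t n ≠ 0 := U.γ_ne t.2 n.2 (h.third_not t.2.1.1 htu)
    have gu : U.γ u n ≠ 0 := U.γ_ne u.2 n.2 (by
      show ¬ Commute (u : G) (cj (t : G) u)
      rw [h.braid t.2.1.1 u.2.1.1 htu]; exact h.third_not u.2.1.1 fun e => htu e.symm)
    by_contra hne
    by_cases hn : σ n = 0
    · rw [hzA n hn] at h2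
      rw [hn] at h1
      have : U.γ t n * σ t * (r t - r u) = 0 := by linear_combination -h2 + r u * h1
      exact hne (sub_eq_zero.1 ((mul_eq_zero.1 this).resolve_left (mul_ne_zero gt ht)))
    · obtain ⟨e1, n0, n1⟩ := hr' n hn
      rw [e1] at h2
      by_cases h3 : r n = r t
      · rw [h3, h1] at h2
        have : U.γ u n * σ u * (r t - r u) = 0 := by linear_combination h2
        exact hne (sub_eq_zero.1 ((mul_eq_zero.1 this).resolve_left (mul_ne_zero gu hu)))
      by_cases h4 : r n = r u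
      · rw [h4, h1] at h2
        have : U.γ t n * σ t * (r u - r t) = 0 := by linear_combination h2
        exact hne (sub_eq_zero.1 ((mul_eq_zero.1 this).resolve_left (mul_ne_zero gt ht))).symm
      have e3 := F4.third U.card (hr' t ht).2.1 (hr' u hu).2.1 hne n0 h3 h4
      have e4 := F4.third U.card (hr' t ht).2.1 (hr' u hu).2.1 hne one_ne_zero (hr' t ht).2.2.symm (hr' u hu).2.2.symm
      exact n1 (e3.trans e4.symm)
  have nz : ∀ t b : ↥(Hyp.com D x y), ¬ Commute (t : G) b → σ b = 0 → σ t ≠ 0 →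
      σ ⟨cj (b : G) t, h.com_closed b.2 t.2⟩ ≠ 0 := fun t b htb hb ht e => by
    have htb' : ¬ Commute (b : G) t := fun c => htb c.symm
    rw [U.W_rel hσW htb', hb, mul_zero, zero_add] at e
    refine (mul_ne_zero (U.γ_ne t.2 (h.com_closed b.2 t.2) ?_) ht) e
    rw [h.braid b.2.1.1 t.2.1.1 htb']; exact h.third_not t.2.1.1 htb
  have two : ∀ t b e : ↥(Hyp.com D x y), ¬ Commute (t : G) b → ¬ Commute (b : G) e → σ t ≠ 0 → σ e ≠ 0 →
      r t = r e := by
    intro t b e htb hbe ht he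
    by_cases hb : σ b = 0
    swap
    · exact (adj t b htb ht hb).trans (adj b e hbe hb he)
    by_cases hte : Commute (t : G) e
    swap
    · exact adj t e hte ht he
    let b' : ↥(Hyp.com D x y) := ⟨cj (b : G) t, h.com_closed b.2 t.2⟩
    have hb' : σ b' ≠ 0 := nz t b htb hb ht
    have h1 : ¬ Commute (t : G) b' := by
      show ¬ Commute (t : G) (cj (b : G) t)
      rw [h.braid b.2.1.1 t.2.1.1 fun c => htb c.symm]; exact h.third_not t.2.1.1 htb
    have h2 : ¬ Commute (b' : G) e := by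
      show ¬ Commute (cj (b : G) t) e
      rw [h.braid b.2.1.1 t.2.1.1 fun c => htb c.symm, ← cj_fix hte, cj_commute]; exact hbe
    exact (adj t b' h1 ht hb').trans (adj b' e h2 hb' he)
  obtain ⟨t₀, ht₀⟩ := U.sec_ne_zero hd hy hz
  rw [← hσ] at ht₀
  have hconst : ∀ t : ↥(Hyp.com D x y), σ t ≠ 0 → r t = r t₀ := by
    have main : ∀ b : G, Relation.ReflTransGen
        (fun p q => p ∈ Hyp.com D x y ∧ q ∈ Hyp.com D x y ∧ ¬ Commute p q) (t₀ : G) b →
        ∀ hb : b ∈ Hyp.com D x y, (σ ⟨b, hb⟩ ≠ 0 → r ⟨b, hb⟩ = r t₀) ∧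
          (σ ⟨b, hb⟩ = 0 → ∀ e : ↥(Hyp.com D x y), ¬ Commute b e → σ e ≠ 0 → r e = r t₀) := by
      intro b hb
      induction hb with
      | refl => exact fun _ => ⟨fun _ => rfl, fun e => absurd e ht₀⟩
      | @tail b c _ hbc ih =>
        intro hc
        obtain ⟨ih1, ih2⟩ := ih hbc.1
        refine ⟨fun hσc => ?_, fun hσc e hce he => ?_⟩
        · by_cases hσb : σ ⟨b, hbc.1⟩ = 0
          · exact ih2 hσb ⟨c, hc⟩ hbc.2.2 hσc
          · exact (adj ⟨b, hbc.1⟩ ⟨c, hc⟩ hbc.2.2 hσb hσc).symm.trans (ih1 hσb)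
        · by_cases hσb : σ ⟨b, hbc.1⟩ = 0
          swap
          · exact (two ⟨b, hbc.1⟩ ⟨c, hc⟩ e hbc.2.2 hce hσb he).symm.trans (ih1 hσb)
          by_cases hbe : Commute b (e : G)
          swap
          · exact ih2 hσb e hbe he
          have hec : ¬ Commute (e : G) c := fun cc => hce cc.symm
          let b' : ↥(Hyp.com D x y) := ⟨cj c e, h.com_closed hc e.2⟩
          have hb' : σ b' ≠ 0 := nz e ⟨c, hc⟩ hec hσc he
          have h1 : ¬ Commute (e : G) b' := by
            show ¬ Commute (e : G) (cj c e)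
            rw [h.braid hc.1.1 e.2.1.1 hce]; exact h.third_not e.2.1.1 hec
          have h2 : ¬ Commute b (b' : G) := by
            show ¬ Commute b (cj c e)
            rw [h.braid hc.1.1 e.2.1.1 hce, ← cj_fix hbe.symm, cj_commute]; exact hbc.2.2
          exact (adj e b' h1 he hb').trans (ih2 hσb b' h2 hb')
    exact fun t ht => (main t (U.five.com_conn t₀.2 t.2) t.2).1 ht
  obtain ⟨e1, r0, r1⟩ := hr' t₀ ht₀
  obtain ⟨ρ, hρ⟩ : ∃ ρ, ρ = r t₀ := ⟨_, rfl⟩
  rw [← hρ] at r0 r1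
  have hAρ : ∀ t, A t = ρ * σ t := fun t => by
    by_cases ht : σ t = 0
    · rw [hzA t ht, ht, mul_zero]
    · rw [(hr' t ht).1, hconst t ht, hρ]
  refine ⟨ρ ^ 2, pow_ne_zero _ r0, fun e => r1 ?_, ?_, ?_⟩
  · have := F4.cube U.card r0
    rwa [pow_succ, e, one_mul] at this
  · rw [← pow_mul, F4.pow_four U.card, ← hA, ← hσ]
    exact funext hAρ
  · funext t
    rw [Pi.smul_apply, smul_eq_mul, ← hσ]
    by_cases ht : σ t = 0
    · rw [ht, mul_zero]
      exact (U.side_sec_zero U.sideY hd hz t).2 (hσ ▸ ht)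
    have h0 : U.sec d t ≠ 0 := hσ ▸ ht
    have := F4.third U.card ht (hA0 t ht).1 (hA0 t ht).2.symm (mt (U.side_sec_zero U.sideY hd hz t).1 h0)
      (hσ ▸ U.side_ne_sec U.sideY hd hz hy t h0) (hA ▸ U.yz_ne hd hy hz t h0)
    rw [this, hAρ, F4.sq_eq_add U.card r0 r1]; ring

end Form

end UData

end Cfsg.Agent.Fischer.Twin
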