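import Cfsg.Agent.Lib.Fischer.Twin.UInv

/-!
Vectors for the members and the equivariance of this assignment.
-/

set_option autoImplicit false
set_option linter.unusedSectionVars false

namespace Cfsg.Agent.Fischer.Twin

variable {G : Type*} [Group G] {D : Set G}

namespace UData

variable [Finite G] {x y : G} {F : Type*} [Field F] [Fintype F] (U : UData D x y F)
  [Fintype ↥(Hyp.com D x y)]
include U

/-- the vector of a member of the class of `t` with coordinate `c` -/
noncomputable def kv (t : ↥(Hyp.com D x y)) (c : F) : F × F × ↥U.W := by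
  classical exact if c = 0 then (0, 0, ⟨U.Φ t, U.Φ_mem t⟩) else (1, 0, c • ⟨U.Φ t, U.Φ_mem t⟩)

theorem kv_zero (t : ↥(Hyp.com D x y)) : U.kv t 0 = (0, 0, ⟨U.Φ t, U.Φ_mem t⟩) := by
  classical exact if_pos rfl

theorem kv_ne (t : ↥(Hyp.com D x y)) {c : F} (hc : c ≠ 0) : U.kv t c = (1, 0, c • ⟨U.Φ t, U.Φ_mem t⟩) := by
  classical exact if_neg hc

/-- the form on the model -/
noncomputable def hV (v w : F × F × ↥U.W) : F := v.1 ^ 2 * w.2.1 + v.2.1 ^ 2 * w.1 + U.hW v.2.2 w.2.2

/-- the transvection of the model -/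
noncomputable def τ (v w : F × F × ↥U.W) : F × F × ↥U.W := w + U.hV v w • v

/-- the scalar of a member outside `x` -/
noncomputable def al (d : G) : F := by
  classical exact if Commute d y then 0 else if Commute d (cj y x) then 1
    else Classical.epsilon fun a : F => U.sec (cj y d) = a • U.sec d

theorem al_y {d : G} (h : Commute d y) : U.al d = 0 := by classical exact if_pos h

theorem al_z {d : G} (h : ¬ Commute d y) (h' : Commute d (cj y x)) : U.al d = 1 := by
  classical exact (if_neg h).trans (if_pos h')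

theorem al_spec {d : G} (hd : d ∈ out D x) (hy : ¬ Commute d y) (hz : ¬ Commute d (cj y x)) :
    U.al d ≠ 0 ∧ U.al d ≠ 1 ∧ U.sec (cj (cj y x) d) = U.al d ^ 2 • U.sec d ∧
      U.sec (cj y d) = U.al d • U.sec d := by
  classical
  obtain ⟨a, ha0, ha1, hA, hB⟩ := U.exists_ratio hd hy hz
  have e : U.al d = Classical.epsilon fun a : F => U.sec (cj y d) = a • U.sec d := (if_neg hy).trans (if_neg hz)
  have h1 : U.sec (cj y d) = U.al d • U.sec d :=
    e ▸ Classical.epsilon_spec (p := fun a : F => U.sec (cj y d) = a • U.sec d) ⟨a, hB⟩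
  obtain ⟨t, ht⟩ := U.sec_ne_zero hd hy hz
  have : U.al d = a := by
    have h2 := congrFun (h1.symm.trans hB) t
    exact mul_right_cancel₀ ht h2
  exact this.symm ▸ ⟨ha0, ha1, hA, hB⟩

theorem al_eq_y {d : G} (hd : d ∈ out D x) (hy : ¬ Commute d y) (hz : ¬ Commute d (cj y x)) {a : F}
    (h : U.sec (cj y d) = a • U.sec d) : U.al d = a := by
  obtain ⟨t, ht⟩ := U.sec_ne_zero hd hy hz
  exact mul_right_cancel₀ ht (congrFun ((U.al_spec hd hy hz).2.2.2.symm.trans h) t)

theorem al_eq_z {d : G} (hd : d ∈ out D x) (hy : ¬ Commute d y) (hz : ¬ Commute d (cj y x))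
    {t : ↥(Hyp.com D x y)} (ht : U.sec d t ≠ 0) {a : F}
    (h : U.sec (cj (cj y x) d) t = a ^ 2 * U.sec d t) : U.al d = a := by
  refine F4.pw_injective U.card 1 ?_
  rw [F4.pw_one, F4.pw_one]
  have := congrFun (U.al_spec hd hy hz).2.2.1 t
  rw [Pi.smul_apply, smul_eq_mul, h] at this
  exact (mul_right_cancel₀ ht this).symm

theorem exists_cls {g : G} (hg : g ∈ nbr D x) : ∃ t : ↥(Hyp.com D x y), g ∈ cls D x t := by
  obtain ⟨r, hr, hrn, hry, -⟩ := U.five.pol.exists_rep U.five.hx U.five.hy U.five.hxy hg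
  exact ⟨⟨r, hrn, hry⟩, by rw [U.five.pol.ln_eq U.five.hx hg hr hrn.2.1]; exact ln_right hg.1, hg.2.1⟩

theorem cls_unique {g : G} {t t' : ↥(Hyp.com D x y)} (h1 : g ∈ cls D x t) (h2 : g ∈ cls D x t') : t = t' := by
  have h := U.five.pol
  have : (t' : G) ∈ cls D x t := by
    rw [← h.cls_eq U.five.hx t.2.1 h1, h.cls_eq U.five.hx t'.2.1 h2]
    exact h.self_cls t'.2.1
  exact Subtype.ext (h.com_unique U.five.hx U.five.hy U.five.hxy t.2 this t'.2.2).symm

/-- the vector of a member -/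
noncomputable def φ (g : G) : F × F × ↥U.W := by
  classical exact (if g = x then (1, 0, 0) else if h : g ∈ nbr D x then
    (U.kv (U.exists_cls h).choose (U.co (U.exists_cls h).choose g))
    else if h' : g ∈ out D x then (U.al g, 1, ⟨U.sec g, U.sec_mem h'⟩) else 0)

theorem φ_x : U.φ x = (1, 0, 0) := by classical exact if_pos rfl

theorem φ_cls {k : G} (t : ↥(Hyp.com D x y)) (hk : k ∈ cls D x t) : U.φ k = U.kv t (U.co t k) := by
  classical
  have hkn := U.five.pol.cls_nbr U.five.hx t.2.1 hk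
  unfold φ
  rw [if_neg hkn.2.1, dif_pos hkn, U.cls_unique (U.exists_cls hkn).choose_spec hk]

theorem φ_out {d : G} (hd : d ∈ out D x) : U.φ d = (U.al d, 1, ⟨U.sec d, U.sec_mem hd⟩) := by
  classical
  have h1 : d ≠ x := fun e => hd.2 (e ▸ Commute.refl x)
  unfold φ
  rw [if_neg h1, dif_neg (fun h => hd.2 h.2.2), dif_pos hd]

theorem triv {g : G} (hg : g ∈ D) : g = x ∨ g ∈ nbr D x ∨ g ∈ out D x := by
  by_cases h1 : g = x
  · exact Or.inl h1
  by_cases h2 : Commute x g
  · exact Or.inr (Or.inl ⟨hg, h1, h2⟩)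
  · exact Or.inr (Or.inr ⟨hg, h2⟩)

/-- equivariance at `a` -/
def Eqv (a : G) : Prop := ∀ b ∈ D, ∃ l : F, l ≠ 0 ∧ U.φ (cj a b) = l • U.τ (U.φ a) (U.φ b)

theorem one_of {v w : F × F × ↥U.W} (h : v = w) : ∃ l : F, l ≠ 0 ∧ v = l • w :=
  ⟨1, one_ne_zero, by rw [one_smul, h]⟩

theorem ext3 {a b a' b' : F} {w w' : ↥U.W} (h1 : a = a') (h2 : b = b')
    (h3 : (w : ↥(Hyp.com D x y) → F) = w') : (a, b, w) = (a', b', w') := by
  rw [h1, h2, Subtype.ext h3]

theorem sq_succ {a : F} (h0 : a ≠ 0) (h1 : a ≠ 1) : a + 1 ≠ 0 ∧ a + 1 ≠ 1 :=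
  ⟨fun e => h1 (F4.eq_of_add U.card e), fun e => h0 (by linear_combination e)⟩

theorem hW_zero_left (w : ↥U.W) : U.hW 0 w = 0 := by
  rw [← zero_smul F (0 : ↥U.W), U.hW_smul_left]; ring

theorem hW_zero_right (w : ↥U.W) : U.hW w 0 = 0 := by
  rw [← zero_smul F (0 : ↥U.W), U.hW_smul_right]; ring

theorem cj_x_side {d : G} : (Commute (cj x d) y ↔ Commute d (cj y x)) ∧
    (Commute (cj x d) (cj y x) ↔ Commute d y) := by
  have h := U.five.pol
  exact ⟨by rw [h.cj_commute_iff U.five.hx, U.z_eq], by rw [h.cj_commute_iff U.five.hx, U.z_eq, h.cj_twice U.five.hx]⟩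

theorem eqv_x : U.Eqv x := by
  intro b hb
  have h := U.five.pol
  rcases U.triv hb with rfl | hn | ho
  · refine U.one_of ?_
    rw [cj_fix (Commute.refl b), U.φ_x, τ, hV, U.hW_zero_left]
    simp
  · obtain ⟨t, ht⟩ := U.exists_cls hn
    refine U.one_of ?_
    rw [cj_fix hn.2.2, U.φ_x, τ, hV, U.hW_zero_left, U.φ_cls t ht]
    by_cases hc : U.co t b = 0
    · rw [hc, U.kv_zero]; simp
    · rw [U.kv_ne t hc]; simp
  refine U.one_of ?_
  have ho' := U.cj_x_out ho
  obtain ⟨e1, e2⟩ := U.cj_x_side (d := b)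
  rw [U.φ_out ho', U.φ_x, U.φ_out ho, τ, hV, U.hW_zero_left]
  simp only [one_pow, zero_pow two_ne_zero, zero_mul, one_mul, add_zero, Prod.smul_mk, Prod.mk_add_mk,
    smul_eq_mul, mul_zero, smul_zero]
  refine U.ext3 ?_ rfl (U.sec_cj_x ho)
  by_cases hy : Commute b y
  · rw [U.al_y hy, zero_add, U.al_z (fun c => U.not_both ho hy (e1.1 c)) (e2.2 hy)]
  by_cases hz : Commute b (cj y x)
  · rw [U.al_z hy hz, U.al_y (e1.2 hz), F4.add_self U.card]
  obtain ⟨a0, a1, hA, hB⟩ := U.al_spec ho hy hz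
  refine U.al_eq_y ho' (fun c => hz (e1.1 c)) (fun c => hy (e2.1 c)) ?_
  have : cj y (cj x b) = cj x (cj (cj y x) b) := by
    rw [← cj_mul, ← cj_mul, U.z_eq, h.cj_eq U.five.hx y, ← mul_assoc, ← mul_assoc, h.sq U.five.hx, one_mul]
  rw [this, U.sec_cj_x (U.side_out U.sideZ ho hy), hA, U.sec_cj_x ho, F4.sq_eq_add U.card a0 a1]

theorem eqv_cls {k : G} (t : ↥(Hyp.com D x y)) (hk : k ∈ cls D x t) : U.Eqv k := by
  intro b hb
  have h := U.five.pol
  have hx := U.five.hx
  have hkn := h.cls_nbr hx t.2.1 hk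
  have hΦ : U.Φ t t = 0 := U.γ_self t.2
  obtain ⟨c, hc⟩ : ∃ c, c = U.co t k := ⟨_, rfl⟩
  rw [U.φ_cls t hk, ← hc]
  rcases U.triv hb with rfl | hn | ho
  · refine U.one_of ?_
    rw [cj_fix hkn.2.2.symm, U.φ_x, τ, hV, U.hW_zero_right]
    by_cases h0 : c = 0
    · rw [h0, U.kv_zero]; simp
    · rw [U.kv_ne t h0]; simp
  · obtain ⟨u, hu⟩ := U.exists_cls hn
    obtain ⟨c', hc'⟩ : ∃ c', c' = U.co u b := ⟨_, rfl⟩
    rw [U.φ_cls u hu, ← hc']
    by_cases htu : Commute (t : G) u
    · refine U.one_of ?_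
      have hkb : Commute k b := by
        have h1 : Commute (u : G) k := (h.commute_iff_of_cls hx t.2.1 hk u.2.1.1 u.2.1.2.2.symm).2 htu.symm
        exact (h.commute_iff_of_cls hx u.2.1 hu hkn.1 hkn.2.2.symm).2 h1.symm
      rw [cj_fix hkb, U.φ_cls u hu, ← hc', τ]
      suffices U.hV (U.kv t c) (U.kv u c') = 0 by rw [this, zero_smul, add_zero]
      have hγ : U.γ u t = 0 := U.coord.comm u u.2 t t.2 htu.symm
      by_cases h0 : c = 0 <;> by_cases h0' : c' = 0 <;>
        simp only [h0, h0', U.kv_zero, U.kv_ne _, ne_eq, not_false_eq_true, hV, U.hW_smul_left, U.hW_smul_right,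
          U.hW_Φ, Φ, hγ, SetLike.val_smul, Pi.smul_apply, smul_eq_mul] <;> ring
    let n : ↥(Hyp.com D x y) := ⟨cj (t : G) u, h.com_closed t.2 u.2⟩
    have hm : cj k b ∈ cls D x n := h.cls_third hx U.five.hy U.five.hxy t.2 u.2 htu hk hu
    have hco : U.co n (cj k b) = U.γ t n * c + U.γ u n * c' := by
      rw [hc, hc']; exact U.co_third t.2 u.2 htu hk hu
    rw [U.φ_cls n hm, hco]
    have htn : ¬ Commute (t : G) n := h.third_not t.2.1.1 htu
    have hun : ¬ Commute (u : G) n := by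
      show ¬ Commute (u : G) (cj (t : G) u)
      rw [h.braid t.2.1.1 u.2.1.1 htu]; exact h.third_not u.2.1.1 fun e => htu e.symm
    have g1 := U.γ_mul t.2 n.2 htn
    have g2 := U.γ_mul u.2 n.2 hun
    have g3 : U.γ u n * U.γ t u = U.γ t n := U.γ_coll t.2 u.2 htu
    have g4 := U.γ_mul t.2 u.2 htu
    have g5 : U.γ u t * U.γ t n = U.γ u n := by linear_combination (-U.γ u t) * g3 + U.γ u n * g4
    have hut : U.γ u t ≠ 0 := U.γ_ne u.2 t.2 fun e => htu e.symm
    have hunne : U.γ u n ≠ 0 := U.γ_ne u.2 n.2 hun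
    have g6 : U.γ u t * U.γ n u = U.γ n t := by linear_combination (-U.γ n u * U.γ u t) * g1 + U.γ n t * U.γ n u * g5 + U.γ n t * g2
    -- the row of the third member
    have hrow : U.Φ n = U.γ n t • U.Φ t + U.γ n u • U.Φ u := funext fun m => by
      have e := U.W_rel (U.Φ_mem m) htu
      simp only [Φ, Pi.add_apply, Pi.smul_apply, smul_eq_mul] at e ⊢
      have e2 := congrArg (fun s : F => s ^ 2) e
      simp only [F4.sq_add U.card, mul_pow] at e2
      have q1 : U.γ n t = U.γ t n ^ 2 := U.γ_swap t.2 n.2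
      have q2 : U.γ n u = U.γ u n ^ 2 := U.γ_swap u.2 n.2
      have q3 : U.γ n m = U.γ m n ^ 2 := U.γ_swap m.2 n.2
      have q4 : U.γ t m = U.γ m t ^ 2 := U.γ_swap m.2 t.2
      have q5 : U.γ u m = U.γ m u ^ 2 := U.γ_swap m.2 u.2
      rw [q1, q2, q3, q4, q5]
      exact e2
    have hΦu : (U.Φ u : ↥(Hyp.com D x y) → F) + U.γ u t • U.Φ t = U.γ u n • U.Φ n := by
      rw [hrow, smul_add, smul_smul, smul_smul, g2, one_smul, add_comm]
      congr 2
      linear_combination U.γ u n * g6 - U.γ u t * g2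
    by_cases h0 : c = 0
    · by_cases h0' : c' = 0
      · refine ⟨U.γ n u, U.γ_ne n.2 u.2 fun e => hun e.symm, ?_⟩
        rw [h0, h0', mul_zero, mul_zero, add_zero, U.kv_zero, U.kv_zero, U.kv_zero, τ, hV, U.hW_Φ]
        simp only [zero_pow two_ne_zero, zero_mul, zero_add, Prod.smul_mk, Prod.mk_add_mk, smul_eq_mul, mul_zero,
          add_zero]
        refine U.ext3 rfl rfl ?_
        show U.Φ n = U.γ n u • (U.Φ u + U.γ u t • U.Φ t)
        rw [hΦu, smul_smul, mul_comm, g2, one_smul]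
      · refine U.one_of ?_
        have e : U.γ t n * 0 + U.γ u n * c' = U.γ u n * c' := by ring
        rw [h0, e, U.kv_ne n (mul_ne_zero hunne h0'), U.kv_zero, U.kv_ne u h0', τ, hV, U.hW_Φ]
        simp only [zero_pow two_ne_zero, zero_mul, zero_add, Prod.smul_mk, Prod.mk_add_mk, smul_eq_mul, mul_zero,
          add_zero]
        refine U.ext3 rfl rfl ?_
        show (U.γ u n * c') • U.Φ n = c' • U.Φ u + (c' * U.γ u t) • U.Φ t
        rw [mul_comm (U.γ u n), ← smul_smul, ← hΦu, smul_add, smul_smul]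
    · by_cases h0' : c' = 0
      · have e : U.γ t n * c + U.γ u n * 0 = U.γ t n * c := by ring
        refine ⟨(c ^ 2 * U.γ u t)⁻¹, inv_ne_zero (mul_ne_zero (pow_ne_zero _ h0) hut), ?_⟩
        rw [h0', e, U.kv_ne n (mul_ne_zero (U.γ_ne t.2 n.2 htn) h0), U.kv_zero, U.kv_ne t h0, τ, hV,
          U.hW_smul_left, U.hW_Φ]
        simp only [one_pow, zero_pow two_ne_zero, zero_mul, one_mul, zero_add, Prod.smul_mk, Prod.mk_add_mk,
          smul_eq_mul, mul_zero, add_zero, mul_one]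
        have hs : c ^ 2 * U.Φ u t ≠ 0 := mul_ne_zero (pow_ne_zero _ h0) hut
        refine U.ext3 (inv_mul_cancel₀ hs).symm rfl ?_
        show (U.γ t n * c) • U.Φ n = (c ^ 2 * U.γ u t)⁻¹ • (U.Φ u + (c ^ 2 * U.γ u t) • c • U.Φ t)
        have hc3 : c ^ 2 * c = 1 := by rw [← pow_succ]; exact F4.cube U.card h0
        rw [smul_smul (c ^ 2 * U.γ u t) c, show c ^ 2 * U.γ u t * c = U.γ u t by linear_combination U.γ u t * hc3,
          hΦu, smul_smul]
        congr 1
        rw [inv_mul_eq_div, eq_div_iff (mul_ne_zero (pow_ne_zero _ h0) hut)]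
        linear_combination (U.γ t n * U.γ u t) * hc3 + g5
      · rw [U.kv_ne t h0, U.kv_ne u h0', τ, hV, U.hW_smul_left, U.hW_smul_right, U.hW_Φ]
        simp only [one_pow, zero_pow two_ne_zero, zero_mul, one_mul, zero_add, Prod.smul_mk, Prod.mk_add_mk,
          smul_eq_mul, mul_zero, add_zero, mul_one]
        obtain ⟨s, hs⟩ : ∃ s, s = c ^ 2 * (c' * U.Φ u t) := ⟨_, rfl⟩
        rw [← hs]
        have hs' : s = c ^ 2 * c' * U.γ u t := by rw [hs]; simp only [Φ]; ring
        have hs0 : s ≠ 0 := by rw [hs']; exact mul_ne_zero (mul_ne_zero (pow_ne_zero _ h0) h0') hut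
        have hc3 : c * c ^ 2 = 1 := by rw [← pow_succ']; exact F4.cube U.card h0
        have hsc : s * c = c' * U.γ u t := by rw [hs']; linear_combination c' * U.γ u t * hc3
        have him : c' • U.Φ u + s • c • U.Φ t = (c' * U.γ u n) • U.Φ n := by
          rw [smul_smul, hsc, ← smul_smul, ← smul_smul, ← smul_add, hΦu]
        by_cases h2 : U.γ t n * c + U.γ u n * c' = 0
        · have hs1 : s = 1 := by
            have e := F4.eq_of_add U.card h2
            rw [hs']
            linear_combination (-c ^ 2 * U.γ u t * U.γ n u) * e + (-c ^ 2 * c' * U.γ u t) * g2 +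
              (U.γ n u * c * c ^ 2) * g5 + c * c ^ 2 * g2 + hc3
          refine ⟨(c' * U.γ u n)⁻¹, inv_ne_zero (mul_ne_zero h0' hunne), ?_⟩
          rw [h2, U.kv_zero]
          refine U.ext3 (by rw [hs1, F4.add_self U.card, mul_zero]) (by ring) ?_
          show U.Φ n = (c' * U.γ u n)⁻¹ • (c' • U.Φ u + s • c • U.Φ t)
          rw [him, smul_smul, inv_mul_cancel₀ (mul_ne_zero h0' hunne), one_smul]
        · obtain ⟨c2, hc2⟩ : ∃ c2, c2 = U.γ t n * c + U.γ u n * c' := ⟨_, rfl⟩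
          rw [← hc2] at h2 ⊢
          have hs1 : s ≠ 1 := fun e => h2 (by
            have h3 : c' * U.γ u t = c := by rw [← hsc, e, one_mul]
            rw [hc2]
            linear_combination U.γ u n * c' * F4.two_eq_zero U.card + (-U.γ t n) * h3 + c' * g5)
          have hlam : c2 * (1 + s) = c' * U.γ u n := by
            have := F4.sq_add_add U.card hs0 hs1
            rw [hc2]
            linear_combination (U.γ t n * s ^ 2 + U.γ t n) * hsc + (s ^ 2 * c' + c') * g5 + c' * U.γ u n * this +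
              (-U.γ t n * c) * F4.cube U.card hs0
          have h1s : 1 + s ≠ 0 := fun e => hs1 (F4.eq_of_add U.card e).symm
          refine ⟨(1 + s)⁻¹, inv_ne_zero h1s, ?_⟩
          rw [U.kv_ne n h2]
          refine U.ext3 (inv_mul_cancel₀ h1s).symm (by ring) ?_
          show c2 • U.Φ n = (1 + s)⁻¹ • (c' • U.Φ u + s • c • U.Φ t)
          rw [him, ← hlam, smul_smul, mul_comm c2, ← mul_assoc, inv_mul_cancel₀ h1s, one_mul]
  -- members outside
  refine U.one_of ?_
  have ho' := U.cj_out ho hkn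
  rw [U.φ_out ho', U.φ_out ho]
  by_cases h0 : c = 0
  · rw [h0, U.kv_zero, τ, hV, U.hW_Φ]
    simp only [zero_pow two_ne_zero, zero_mul, zero_add, Prod.smul_mk, Prod.mk_add_mk, smul_eq_mul, mul_zero,
      add_zero]
    have hkt : k = t := (U.coord.bij t t.2).injOn hk (h.self_cls t.2.1)
      ((hc.symm.trans h0).trans (U.coord.zero t t.2).symm)
    refine U.ext3 ?_ rfl ?_
    · have ey := U.crit_zero U.sideY t hk (hc.symm.trans h0) (d := b)
      have ez := U.crit_zero U.sideZ t hk (hc.symm.trans h0) (d := b)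
      by_cases hy : Commute b y
      · rw [U.al_y (ey.2 hy), U.al_y hy]
      by_cases hz : Commute b (cj y x)
      · rw [U.al_z (mt ey.1 hy) (ez.2 hz), U.al_z hy hz]
      obtain ⟨a0, a1, hA, hB⟩ := U.al_spec ho hy hz
      refine U.al_eq_y ho' (mt ey.1 hy) (mt ez.1 hz) ?_
      have : cj y (cj k b) = cj k (cj y b) := by
        rw [← cj_mul, ← cj_mul, (show Commute y k from hkt ▸ t.2.2.symm).eq]
      rw [this, U.sec_cj (U.side_out U.sideY ho hz) t hk, U.sec_cj ho t hk, hB]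
      simp only [← hc, h0, add_zero, smul_add, smul_smul, Pi.smul_apply, smul_eq_mul]
    · show U.sec (cj k b) = U.sec b + U.sec b t • U.Φ t
      rw [U.sec_cj ho t hk, ← hc, h0, add_zero]
  have hc' : U.co t k ≠ 0 := hc ▸ h0
  have cy := U.crit U.sideY ho t hk hc'
  have cz := U.crit U.sideZ ho t hk hc'
  have cy' := U.crit U.sideY ho' t hk hc'
  have cz' := U.crit U.sideZ ho' t hk hc'
  rw [← hc] at cy cz cy' cz'
  rw [h.cj_twice hk.1.1] at cy' cz'
  have hc3 := F4.cube U.card h0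
  rw [U.kv_ne t h0, τ, hV, U.hW_smul_left, U.hW_Φ]
  simp only [one_pow, zero_pow two_ne_zero, zero_mul, one_mul, zero_add, add_zero, Prod.smul_mk, Prod.mk_add_mk,
    smul_eq_mul, mul_zero, mul_one]
  refine U.ext3 ?_ rfl ?_
  swap
  · show U.sec (cj k b) = U.sec b + (1 + c ^ 2 * U.sec b t) • c • U.Φ t
    rw [U.sec_cj ho t hk, ← hc, smul_smul]
    congr 2
    linear_combination (-U.sec b t) * hc3
  obtain ⟨s, hs⟩ : ∃ s, s = U.sec b t := ⟨_, rfl⟩
  rw [← hs]
  have hst : U.sec (cj k b) t = s := by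
    rw [U.sec_cj ho t hk, Pi.add_apply, Pi.smul_apply, smul_eq_mul, hΦ, mul_zero, add_zero, hs]
  by_cases hs0 : s = 0
  · rw [hs0, mul_zero, add_zero]
    have hnot : ∀ {w w'}, Side D x y w w' → ¬ Commute b w' → ¬ Commute (cj k b) w := fun S hn c' =>
      h0 (by rw [hc, ((U.crit S ho t hk hc').1 hn).1 c', (U.side_sec_zero S ho hn t).2 (hs ▸ hs0)])
    by_cases hy : Commute b y
    · rw [U.al_y hy, zero_add]
      refine U.al_z (hnot U.sideY fun c' => U.not_both ho hy c') ((cz.2 hy).2 (hs ▸ hs0))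
    by_cases hz : Commute b (cj y x)
    · rw [U.al_z hy hz, F4.add_self U.card]
      exact U.al_y ((cy.2 hz).2 (hs ▸ hs0))
    obtain ⟨a0, a1, hA, hB⟩ := U.al_spec ho hy hz
    have n1 := hnot U.sideY hz
    have n2 := hnot U.sideZ hy
    obtain ⟨m, hm⟩ : ∃ m, m = cj (cj y x) b := ⟨_, rfl⟩
    have hmo : m ∈ out D x := hm ▸ U.side_out U.sideZ ho hy
    have hmy : ¬ Commute m y := fun c' => by
      rw [hm, h.cj_commute_iff (h.mem_cj y hx), U.side_x U.sideZ] at c'
      exact ho.2 c'.symm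
    have hmz : ¬ Commute m (cj y x) := fun c' => hz (by
      rwa [hm, h.cj_commute_iff (h.mem_cj y hx), cj_fix (Commute.refl _)] at c')
    have hσm : U.sec m = U.al b ^ 2 • U.sec b := by rw [hm, hA]
    have hmt : U.sec m t = 0 := by rw [hσm, Pi.smul_apply, ← hs, hs0, smul_zero]
    have hm1 := U.cj_out hmo hkn
    have m1y : ¬ Commute (cj k m) y := fun c' => h0 (by
      rw [hc, ((U.crit U.sideY hmo t hk hc').1 hmz).1 c', (U.side_sec_zero U.sideY hmo hmz t).2 hmt])
    have m1z : ¬ Commute (cj k m) (cj y x) := fun c' => h0 (by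
      rw [hc, ((U.crit U.sideZ hmo t hk hc').1 hmy).1 c', (U.side_sec_zero U.sideZ hmo hmy t).2 hmt])
    obtain ⟨b0, b1, hA1, -⟩ := U.al_spec hm1 m1y m1z
    obtain ⟨d0, d1, hA', -⟩ := U.al_spec ho' n1 n2
    have hzk : ¬ Commute (cj y x) k := fun c' => U.k_not_side U.sideZ hk hc' c'.symm
    have he : cj (cj y x) (cj k b) = cj k (cj (cj y x) (cj k m)) := by
      obtain ⟨z, hzd⟩ : ∃ z, z = cj y x := ⟨_, rfl⟩
      rw [hm, ← hzd]
      rw [← hzd] at hzk
      have hzD : z ∈ D := hzd ▸ h.mem_cj y hx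
      have hb' := h.braid hk.1.1 hzD (fun e => hzk e.symm)
      rw [h.cj_eq hk.1.1, h.cj_eq hzD] at hb'
      rw [← cj_mul, ← cj_mul, ← cj_mul, ← cj_mul]
      congr 1
      calc z * k = z * k * (z * z) := by rw [h.sq hzD, mul_one]
        _ = (z * k * z) * z := by simp only [mul_assoc]
        _ = k * z * k * z := by rw [← hb']
        _ = _ := by simp only [mul_assoc]
    have hm1t : U.sec (cj (cj y x) (cj k m)) t = 0 := by
      rw [hA1, Pi.smul_apply, U.sec_cj hmo t hk, Pi.add_apply, Pi.smul_apply, hmt, hΦ, smul_zero, add_zero,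
        smul_zero]
    have key := hA'
    rw [he, U.sec_cj (U.side_out U.sideZ hm1 m1y) t hk, hm1t, zero_add, hA1, U.sec_cj hmo t hk, hmt, zero_add,
      hσm, U.sec_cj ho t hk, ← hs, hs0, zero_add, ← hc] at key
    -- compare the coefficients
    obtain ⟨u, hu⟩ := U.sec_ne_zero ho hy hz
    have hco : ∀ m' : ↥(Hyp.com D x y),
        (U.al (cj k m) ^ 2 * U.al b ^ 2 + U.al (cj k b) ^ 2) * U.sec b m' +
          (U.al (cj k m) ^ 2 + 1 + U.al (cj k b) ^ 2) * c * U.Φ t m' = 0 := by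
      intro m'
      have e := congrFun key m'
      simp only [Pi.add_apply, Pi.smul_apply, smul_eq_mul] at e
      linear_combination e + (U.al (cj k b) ^ 2 * U.sec b m' + U.al (cj k b) ^ 2 * c * U.Φ t m') *
        F4.two_eq_zero U.card
    have hP : U.al (cj k m) ^ 2 * U.al b ^ 2 + U.al (cj k b) ^ 2 = 0 := by
      by_contra hP
      refine U.sec_ne ho hy hz ((U.al (cj k m) ^ 2 * U.al b ^ 2 + U.al (cj k b) ^ 2)⁻¹ *
        ((U.al (cj k m) ^ 2 + 1 + U.al (cj k b) ^ 2) * c)) t (funext fun m' => ?_)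
      rw [Pi.smul_apply, smul_eq_mul, mul_assoc, eq_inv_mul_iff_mul_eq₀ hP]
      linear_combination hco m' - (U.al (cj k m) ^ 2 + 1 + U.al (cj k b) ^ 2) * c * U.Φ t m' * F4.two_eq_zero U.card
    obtain ⟨u', hu'⟩ : ∃ u', U.Φ t u' ≠ 0 := by
      obtain ⟨q, hq, htq⟩ := h.com_nc hx U.five.hy U.five.hxy t.2
      exact ⟨⟨q, hq⟩, U.γ_ne t.2 hq htq⟩
    have hQ : U.al (cj k m) ^ 2 + 1 + U.al (cj k b) ^ 2 = 0 := by
      have := hco u'
      rw [hP, zero_mul, zero_add] at this
      exact (mul_eq_zero.1 ((mul_eq_zero.1 this).resolve_right hu')).resolve_right h0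
    refine F4.pw_injective U.card 1 ?_
    rw [F4.pw_one, F4.pw_one]
    have p1 := F4.eq_of_add U.card hP
    rw [← p1]
    have q1 : U.al (cj k m) ^ 2 * (U.al b ^ 2 + 1) = 1 := by
      linear_combination hQ - hP + (U.al (cj k m) ^ 2 * U.al b ^ 2 - 1) * F4.two_eq_zero U.card
    have q2 := F4.sq_eq_add U.card a0 a1
    have q3 := F4.cube U.card a0
    rw [q2, show U.al b + 1 + 1 = U.al b by linear_combination F4.two_eq_zero U.card] at q1
    have q4 : U.al (cj k m) ^ 2 = U.al b ^ 2 := by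
      linear_combination U.al b ^ 2 * q1 - U.al (cj k m) ^ 2 * q3
    rw [q4, ← q2, ← pow_mul]; ring
  have hsd : U.sec b t ≠ 0 := hs ▸ hs0
  have hst' : U.sec (cj k b) t ≠ 0 := hst.symm ▸ hs0
  have hs3 := F4.cube U.card hs0
  by_cases hcs : c = s
  · have hkd : cj k b = b := cj_fix ((U.sec_spec ho t hk).2 (hc.symm.trans (hcs.trans hs)))
    rw [hkd, hcs, ← pow_succ, hs3, F4.add_self U.card, add_zero]
  obtain ⟨u, hu⟩ : ∃ u, u = c * s ^ 2 := ⟨_, rfl⟩
  have hu0 : u ≠ 0 := hu ▸ mul_ne_zero h0 (pow_ne_zero _ hs0)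
  have hcu : c = u * s := by rw [hu, mul_assoc, ← pow_succ, hs3, mul_one]
  have hu1 : u ≠ 1 := fun e => hcs (by rw [hcu, e, one_mul])
  have hgoal : c ^ 2 * s = u ^ 2 := by
    rw [hu]; linear_combination (-c ^ 2 * s) * hs3
  rw [hgoal]
  have hu4 := F4.pow_four U.card u
  have hu2 := F4.sq_eq_add U.card hu0 hu1
  by_cases hy : Commute b y
  · rw [U.al_y hy, zero_add]
    have hz : ¬ Commute b (cj y x) := fun c' => U.not_both ho hy c'
    have n1 : ¬ Commute (cj k b) y := fun c' => hcs (by rw [(cy.1 hz).1 c', U.side_fix U.sideY hy, hs])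
    have n2 : ¬ Commute (cj k b) (cj y x) := fun c' => hsd ((cz.2 hy).1 c')
    refine U.al_eq_z ho' n1 n2 hst' ?_
    have e1 : U.sec (cj (cj y x) (cj k b)) t ≠ c := fun e => hz ((cz'.1 n1).2 e.symm)
    have e3 := U.side_ne_sec U.sideZ ho' n1 n2 t hst'
    rw [hst] at e3
    rw [F4.third U.card h0 hs0 hcs (mt (U.side_sec_zero U.sideZ ho' n1 t).1 hst') e1 e3, hst, hcu]
    linear_combination (-s) * hu4 - s * F4.two_eq_zero U.card * u ^ 2
  by_cases hz : Commute b (cj y x)
  · rw [U.al_z hy hz]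
    have n1 : ¬ Commute (cj k b) y := fun c' => hsd ((cy.2 hz).1 c')
    have n2 : ¬ Commute (cj k b) (cj y x) := fun c' => hcs (by rw [(cz.1 hy).1 c', U.side_fix U.sideZ hz, hs])
    rw [show (1 : F) + (1 + u ^ 2) = u ^ 2 by linear_combination F4.two_eq_zero U.card]
    refine U.al_eq_z ho' n1 n2 hst' ?_
    rw [← (cz'.1 n1).1 hz, hst, hcu]
    linear_combination (-s) * hu4
  obtain ⟨a0, a1, hA, hB⟩ := U.al_spec ho hy hz
  have hByt : U.sec (cj y b) t = U.al b * s := by rw [hB, Pi.smul_apply, smul_eq_mul, hs]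
  have hBzt : U.sec (cj (cj y x) b) t = U.al b ^ 2 * s := by rw [hA, Pi.smul_apply, smul_eq_mul, hs]
  have hq := F4.sq_add_add U.card a0 a1
  have hor : u = U.al b ∨ u = U.al b ^ 2 := by
    rcases F4.elems U.card (one_ne_zero (α := F)) a0 a1 u with e | e | e | e
    · exact absurd e hu0
    · exact absurd e hu1
    · exact Or.inl (e.trans (one_mul _))
    · exact Or.inr (e.trans (one_mul _))
  rcases hor with e | e
  · rw [e, U.al_y ((cy.1 hz).2 (by rw [hByt, hcu, e]))]
    linear_combination -hq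
  · have hcom : Commute (cj k b) (cj y x) := (cz.1 hy).2 (by rw [hBzt, hcu, e])
    rw [U.al_z (fun c' => U.not_both ho' c' hcom) hcom, e, ← pow_mul, F4.pow_four U.card]
    linear_combination -(U.al b) * F4.two_eq_zero U.card

theorem al_self : U.al y = 0 := U.al_y (Commute.refl y)

theorem φ_y : U.φ y = (0, 1, 0) := by
  rw [U.φ_out U.y_out, U.al_self]
  exact U.ext3 rfl rfl U.sec_y

theorem eqv_y : U.Eqv y := by
  intro b hb
  have h := U.five.pol
  have hx := U.five.hx
  rw [U.φ_y]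
  rcases U.triv hb with rfl | hn | ho
  · refine U.one_of ?_
    rw [U.φ_out U.z_out, U.φ_x, τ, hV, U.hW_zero_left,
      U.al_z (fun c => U.y_not_z c.symm) (Commute.refl _)]
    simp only [zero_pow two_ne_zero, one_pow, zero_mul, one_mul, zero_add, add_zero, Prod.smul_mk, Prod.mk_add_mk,
      smul_eq_mul, mul_zero, mul_one, smul_zero]
    refine U.ext3 rfl rfl ?_
    exact funext fun t => (U.sec_zero_iff U.z_out t).2 (U.sideZ.com t t.2)
  · obtain ⟨t, ht⟩ := U.exists_cls hn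
    refine U.one_of ?_
    rw [U.φ_cls t ht, τ, hV, U.hW_zero_left]
    by_cases hc : U.co t b = 0
    · have hbt : b = t := (U.coord.bij t t.2).injOn ht (h.self_cls t.2.1) (hc.trans (U.coord.zero t t.2).symm)
      rw [cj_fix (show Commute y b from hbt ▸ t.2.2.symm), U.φ_cls t ht, hc, U.kv_zero]
      simp
    have hby : ¬ Commute b y := U.k_not_side U.sideY ht hc
    have hno : cj y b ∈ out D x := ⟨h.mem_cj y hn.1, fun c => hc (by
      rw [U.sideZ.only t t.2 b ht ?_, U.coord.zero t t.2]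
      rw [← h.cj_commute_iff U.five.hy]; exact c.symm)⟩
    rw [U.kv_ne t hc, U.φ_out hno]
    simp only [zero_pow two_ne_zero, one_pow, zero_mul, one_mul, zero_add, add_zero, Prod.smul_mk, Prod.mk_add_mk,
      smul_eq_mul, mul_zero, mul_one, smul_zero]
    refine U.ext3 (U.al_z ?_ ?_) rfl ?_
    · exact fun c => h.third_not U.five.hy (fun e => hby e.symm) c.symm
    · rw [cj_commute]; exact hn.2.2.symm
    · show U.sec (cj y b) = U.co t b • U.Φ t
      rw [← h.braid hn.1 U.five.hy hby, U.sec_cj U.y_out t ht, U.sec_y, Pi.zero_apply, zero_add, zero_add]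
  rw [U.φ_out ho, τ, hV, U.hW_zero_left]
  simp only [zero_pow two_ne_zero, one_pow, zero_mul, one_mul, zero_add, add_zero, Prod.smul_mk, Prod.mk_add_mk,
    smul_eq_mul, mul_zero, mul_one, smul_zero]
  by_cases hy : Commute b y
  · refine ⟨1, one_ne_zero, ?_⟩; rw [one_mul, one_mul, one_smul]
    rw [cj_fix hy.symm, U.φ_out ho, U.al_y hy, add_zero]
  by_cases hz : Commute b (cj y x)
  · refine ⟨1, one_ne_zero, ?_⟩; rw [one_mul, one_mul, one_smul]
    rw [U.al_z hy hz, F4.add_self U.card]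
    have hnx : Commute (cj y b) x := by rw [h.cj_commute_iff U.five.hy]; exact hz
    by_cases he : cj y b = x
    · rw [he, U.φ_x]
      have hb' : b = cj y x := by rw [← he, h.cj_twice U.five.hy]
      refine U.ext3 rfl rfl (funext fun t => Eq.symm ?_)
      exact (U.sec_zero_iff ho t).2 (hb' ▸ U.sideZ.com t t.2)
    have hnn : cj y b ∈ nbr D x := ⟨h.mem_cj y hb, he, hnx.symm⟩
    obtain ⟨t, ht⟩ := U.exists_cls hnn
    have hc : U.co t (cj y b) ≠ 0 := fun e => by
      have e' : cj y b = t := (U.coord.bij t t.2).injOn ht (h.self_cls t.2.1) (e.trans (U.coord.zero t t.2).symm)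
      have := congrArg (cj y) e'
      rw [h.cj_twice U.five.hy, cj_fix t.2.2.symm] at this
      exact ho.2 (this ▸ t.2.1.2.2)
    rw [U.φ_cls t ht, U.kv_ne t hc]
    refine U.ext3 rfl rfl ?_
    show U.co t (cj y b) • U.Φ t = U.sec b
    have e : cj (cj y b) y = b := by
      rw [h.braid (h.mem_cj y hb) U.five.hy fun c => hy (by
        rw [← h.cj_twice U.five.hy b, h.cj_commute_iff U.five.hy, cj_fix (Commute.refl y)]; exact c),
        h.cj_twice U.five.hy]
    conv_rhs => rw [← e]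
    rw [U.sec_cj U.y_out t ht, U.sec_y, Pi.zero_apply, zero_add, zero_add]
  obtain ⟨a0, a1, hA, hB⟩ := U.al_spec ho hy hz
  have hno : cj y b ∈ out D x := U.side_out U.sideY ho hz
  refine ⟨U.al b, a0, ?_⟩
  rw [U.φ_out hno]
  have q2 := F4.sq_eq_add U.card a0 a1
  have q3 := F4.cube U.card a0
  refine U.ext3 ?_ ?_ ?_
  rotate_left
  · show (1 : F) = U.al b * (1 + U.al b)
    linear_combination -q3 + U.al b * q2
  · show U.sec (cj y b) = U.al b • U.sec b
    exact hB
  show U.al (cj y b) = U.al b * U.al b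
  refine U.al_eq_y hno ?_ ?_ ?_
  · exact fun c => hy (by rwa [h.cj_commute_iff U.five.hy, cj_fix (Commute.refl y)] at c)
  · exact fun c => ho.2 ((cj_commute y).1 c).symm
  · rw [h.cj_twice U.five.hy, hB, smul_smul, mul_assoc, ← pow_two, ← pow_succ', q3, one_smul]

end UData

end Cfsg.Agent.Fischer.Twin
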