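import Cfsg.Agent.Lib.Fischer.Twin.UForm
import Cfsg.Agent.Lib.Spor.UnitaryTransvection

/-!
All lines with five members: the group is unitary over the field with four elements.
-/

set_option autoImplicit false
set_option linter.unusedSectionVars false
set_option linter.style.haveILetI false

namespace Cfsg.Agent.Fischer.Twin

open Matrix

variable {G : Type*} [Group G] {D : Set G}

/-- coordinates in which a nondegenerate Hermitian form is the standard one -/
theorem exists_frame {F : Type} [Field F] [Fintype F] [StarRing F] (hstar : ∀ z : F, star z = z ^ 2)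
    (hF : Fintype.card F = 2 ^ 2) {V : Type*} [AddCommGroup V] [Module F V] [FiniteDimensional F V]
    (B : V → V → F) (hr : ∀ v w w', B v (w + w') = B v w + B v w') (hrs : ∀ (c : F) v w, B v (c • w) = c * B v w)
    (hl : ∀ v v' w, B (v + v') w = B v w + B v' w) (hls : ∀ (c : F) v w, B (c • v) w = c ^ 2 * B v w)
    (hsw : ∀ v w, B w v = B v w ^ 2) (hnd : ∀ w, (∀ v, B v w = 0) → w = 0) :
    ∃ e : V ≃ₗ[F] (Fin (Module.finrank F V) → F), ∀ v w, Small.Unitary.herm (e v) (e w) = B v w := by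
  classical
  obtain ⟨n, hn⟩ : ∃ n, n = Module.finrank F V := ⟨_, rfl⟩
  rw [← hn]
  let b : Module.Basis (Fin n) F V := hn ▸ Module.finBasis F V
  let H : Matrix (Fin n) (Fin n) F := Matrix.of fun i j => B (b i) (b j)
  have hB : ∀ v w, B v w = star (b.equivFun v) ⬝ᵥ (H *ᵥ b.equivFun w) := by
    intro v w
    let R : V → V →+ F := fun v => AddMonoidHom.mk' (fun w => B v w) (hr v)
    let L : V → V →+ F := fun w => AddMonoidHom.mk' (fun v => B v w) fun a a' => hl a a' w
    conv_lhs => rw [← b.sum_equivFun v, ← b.sum_equivFun w]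
    show L _ (∑ i, b.equivFun v i • b i) = _
    rw [map_sum, dotProduct]
    refine Finset.sum_congr rfl fun i _ => ?_
    show B (b.equivFun v i • b i) (∑ j, b.equivFun w j • b j) = _
    rw [hls, Pi.star_apply, hstar]
    congr 1
    show R (b i) (∑ j, b.equivFun w j • b j) = ∑ j, H i j * b.equivFun w j
    rw [map_sum]
    refine Finset.sum_congr rfl fun j _ => ?_
    show B (b i) (_ • b j) = B (b i) (b j) * _
    rw [hrs, mul_comm]
  have hH : Hᴴ = H := Matrix.ext fun i j => by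
    rw [conjTranspose_apply, hstar]
    exact (hsw (b j) (b i)).symm
  have hu : IsUnit H := by
    rw [← Matrix.mulVec_injective_iff_isUnit]
    intro p q hpq
    have h0 : H *ᵥ (p - q) = 0 := by rw [Matrix.mulVec_sub, hpq, sub_self]
    have := hnd (b.equivFun.symm (p - q)) fun v => by rw [hB, LinearEquiv.apply_symm_apply, h0, dotProduct_zero]
    rw [LinearEquiv.map_eq_zero_iff] at this
    exact sub_eq_zero.1 this
  obtain ⟨P, hP, hPH⟩ := Small.Hermitian.exists_congr_one hstar hF n H hH hu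
  have hPd : IsUnit P.det := (Matrix.isUnit_iff_isUnit_det P).1 hP
  have hQ : P⁻¹ᴴ * P⁻¹ = H := by
    calc P⁻¹ᴴ * P⁻¹ = P⁻¹ᴴ * (Pᴴ * H * P) * P⁻¹ := by rw [hPH, mul_one]
      _ = (P * P⁻¹)ᴴ * H * (P * P⁻¹) := by simp only [conjTranspose_mul, mul_assoc]
      _ = H := by rw [Matrix.mul_nonsing_inv P hPd, conjTranspose_one, one_mul, mul_one]
  let m : (Fin n → F) ≃ₗ[F] (Fin n → F) := LinearEquiv.ofLinear P⁻¹.mulVecLin P.mulVecLin
    (by rw [← Matrix.mulVecLin_mul, Matrix.nonsing_inv_mul P hPd, Matrix.mulVecLin_one])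
    (by rw [← Matrix.mulVecLin_mul, Matrix.mul_nonsing_inv P hPd, Matrix.mulVecLin_one])
  refine ⟨b.equivFun.trans m, fun v w => ?_⟩
  rw [hB, ← hQ]
  show star (P⁻¹ *ᵥ b.equivFun v) ⬝ᵥ (P⁻¹ *ᵥ b.equivFun w) = _
  rw [star_mulVec, ← dotProduct_mulVec, mulVec_mulVec]

namespace UData

variable [Finite G] {x y : G} {F : Type} [Field F] [Fintype F] (U : UData D x y F)
include U

/-- the unitary group -/
theorem psu_case (hz : Subgroup.center G = ⊥) :
    ∃ n, 4 ≤ n ∧ Nonempty (G ≃* Cfsg.PSU n F 2) ∧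
      ((∀ p ∈ Hyp.com D x y, ∀ q ∈ Hyp.com D x y, Commute p q → p = q) → n ≤ 5) := by
  classical
  haveI : Fintype ↥(Hyp.com D x y) := Fintype.ofFinite _
  haveI : CharP F 2 := CharTwo.of_one_ne_zero_of_two_eq_zero one_ne_zero (F4.two_eq_zero U.card)
  letI : StarRing F := Small.Hermitian.starRingOfInvolution (frobenius F 2) (fun z => by
    rw [frobenius_def, frobenius_def, ← pow_mul]
    exact F4.pow_four U.card z)
  have hstar : ∀ z : F, star z = z ^ 2 := fun _ => rfl
  have hF : Fintype.card F = 2 ^ 2 := U.card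
  obtain ⟨e, he⟩ := exists_frame hstar hF U.hV U.hV_add_right (fun c v w => U.hV_smul_right c v w) U.hV_add_left
    (fun c v w => U.hV_smul_left c v w) U.hV_swap U.hV_nondeg
  generalize hn : Module.finrank F (F × F × ↥U.W) = n at e he
  have hnW : n = 2 + Module.finrank F ↥U.W := by
    rw [← hn, Module.finrank_prod, Module.finrank_prod, Module.finrank_self]; omega
  have hn4 : 4 ≤ n := by have := U.two_le_finrank; omega
  refine ⟨n, hn4, ?_, fun hthin => by have := U.finrank_le_three hthin; omega⟩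
  let f : G → Cfsg.SU n F 2 := fun d =>
    if hd : Small.Unitary.herm (e (U.φ d)) (e (U.φ d)) = 0 then Spor.UnitaryTrans.tv hstar _ hd else 1
  have hiso : ∀ d ∈ D, Small.Unitary.herm (e (U.φ d)) (e (U.φ d)) = 0 := fun d hd => by rw [he]; exact U.φ_iso hd
  have hf : ∀ d (hd : d ∈ D), f d = Spor.UnitaryTrans.tv hstar (e (U.φ d)) (hiso d hd) := fun d hd => dif_pos _
  have hne : ∀ d ∈ D, e (U.φ d) ≠ 0 := fun d hd h0 => U.φ_ne hd (e.map_eq_zero_iff.1 h0)
  have h := U.five.pol
  -- equivariance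
  have heq : ∀ a ∈ D, U.Eqv a → ∀ b ∈ D, f (cj a b) = f a * f b * (f a)⁻¹ := by
    intro a ha he' b hb
    obtain ⟨l, hl, hlv⟩ := he' b hb
    have hvec : e (U.φ (cj a b)) = l • Small.Unitary.act (f a) (e (U.φ b)) := by
      rw [hlv, map_smul, hf a ha, Spor.UnitaryTrans.act_tv, he, τ, map_add, map_smul]
    rw [hf _ (h.mem_cj a hb), hf b hb, Spor.UnitaryTrans.tv_conj,
      Spor.UnitaryTrans.tv_congr hstar hvec (hiso _ (h.mem_cj a hb)) (hvec ▸ hiso _ (h.mem_cj a hb)),
      Spor.UnitaryTrans.tv_smul hstar U.card hl]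
  let S : G → Prop := fun a => ∀ b ∈ D, f (cj a b) = f a * f b * (f a)⁻¹
  have hSc : ∀ g ∈ D, ∀ a ∈ D, S g → S a → S (cj g a) := by
    intro g hg a ha hSg hSa b hb
    have hb' := h.mem_cj g hb
    have hcc : cj (cj g a) b = cj g (cj a (cj g b)) := by
      rw [← cj_mul, ← cj_mul, h.cj_eq hg a]
    rw [hcc, hSg _ (h.mem_cj a hb'), hSa _ hb', hSg b hb, hSg a ha]
    have h2 : f g * f g = 1 := by rw [hf g hg]; exact Spor.UnitaryTrans.tv_sq hstar _ _
    rw [inv_eq_of_mul_eq_one_right h2]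
    simp only [_root_.mul_inv_rev, inv_eq_of_mul_eq_one_right h2, mul_assoc]
  have hSn : ∀ k ∈ nbr D x, S k := fun k hk => by
    obtain ⟨t, ht⟩ := U.exists_cls hk
    exact heq k hk.1 (U.eqv_cls t ht)
  have hSx : S x := heq x U.five.hx U.eqv_x
  have hS : ∀ a ∈ D, S a := fun a ha => by
    rcases U.triv ha with rfl | hk | ho
    · exact hSx
    · exact hSn a hk
    · refine U.out_induction (P := S) (heq y U.five.hy U.eqv_y) ?_ ?_ a ho
      · exact fun k hk d hd hd' => hSc k hk.1 d hd.1 (hSn k hk) hd'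
      · exact fun d hd hd' => hSc x U.five.hx d hd.1 hSx hd'
  -- transport to `y`
  have hall : ∀ g : G, ∃ g' : Cfsg.SU n F 2, ∀ b ∈ D, f (cj g b) = g' * f b * g'⁻¹ := by
    intro g
    have hg : g ∈ Subgroup.closure D := h.hyp.cls.2.2.symm ▸ Subgroup.mem_top g
    induction hg using Subgroup.closure_induction with
    | mem a ha => exact ⟨f a, hS a ha⟩
    | one => exact ⟨1, fun b _ => by simp [cj]⟩
    | mul p q _ _ hp hq =>
      obtain ⟨p', hp'⟩ := hp
      obtain ⟨q', hq'⟩ := hq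
      refine ⟨p' * q', fun b hb => ?_⟩
      rw [cj_mul, hp' _ (h.mem_cj q hb), hq' b hb]
      simp only [_root_.mul_inv_rev, mul_assoc]
    | inv p _ hp =>
      obtain ⟨p', hp'⟩ := hp
      refine ⟨p'⁻¹, fun b hb => ?_⟩
      have := hp' _ (h.mem_cj p⁻¹ hb)
      rw [cj_self_inv] at this
      rw [this]
      simp only [inv_inv, mul_assoc, inv_mul_cancel_left, inv_mul_cancel, mul_one]
  have hline : ∀ {v w : Fin n → F} (hv : Small.Unitary.herm v v = 0) (hw : Small.Unitary.herm w w = 0), v ≠ 0 →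
      Spor.UnitaryTrans.tv hstar v hv = Spor.UnitaryTrans.tv hstar w hw → ∃ c : F, v = c • w := by
    intro v w hv hw hv0 heq'
    obtain ⟨z, hz⟩ := Cfsg.Agent.Classical.URoot.exists_herm_one hv0
    have := congrArg (fun g => Small.Unitary.act g z) heq'
    simp only [Spor.UnitaryTrans.act_tv, hz, one_smul, add_right_inj] at this
    exact ⟨_, this⟩
  have hinj : Set.InjOn f D := by
    intro a ha b hb hab
    obtain ⟨g, hg⟩ : ∃ g, cj g a = y := by
      obtain ⟨⟨-, -⟩, ⟨d₀, -, hcl⟩, -⟩ := h.hyp.cls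
      exact isConj_iff.1 (((hcl.subset ha : IsConj d₀ a)).symm.trans (hcl.subset U.five.hy))
    obtain ⟨g', hg'⟩ := hall g
    have h1 : f (cj g b) = f y := by rw [← hg, hg' a ha, hg' b hb, hab]
    have hbD := h.mem_cj g hb
    rw [hf _ hbD, hf y U.five.hy] at h1
    obtain ⟨c, hc⟩ := hline _ _ (hne _ hbD) h1
    have hc0 : c ≠ 0 := fun h0 => hne _ hbD (by rw [hc, h0, zero_smul])
    rw [← map_smul] at hc
    have := U.eq_y hbD hc0 (e.injective hc)
    exact (cj_inj (this.trans hg.symm)).symm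
  have hcls := Spor.UnitaryTrans.isClass (n := n) hstar U.card hn4
  exact iso_of_class (D := D) h.hyp.cls.2.2 hcls.2.2 hz (fun g d hd => h.hyp.conj_mem g hd) f
    (fun d hd => by rw [hf d hd]; exact Spor.UnitaryTrans.tv_rank hstar (hne d hd) (hiso d hd))
    (fun d' hd' => by
      obtain ⟨v, hv, hv0, rfl⟩ := Spor.UnitaryTrans.exists_tv hstar d' hd'
      obtain ⟨d, hd, l, hl, hdl⟩ := U.real_of_iso (v := e.symm v)
        (by rw [← he, LinearEquiv.apply_symm_apply]; exact hv) (fun h0 => hv0 (e.symm.map_eq_zero_iff.1 h0))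
      have hev : e (U.φ d) = l • v := by rw [hdl, map_smul, LinearEquiv.apply_symm_apply]
      refine ⟨d, hd, ?_⟩
      rw [hf d hd, Spor.UnitaryTrans.tv_congr hstar hev (hiso d hd) (hev ▸ hiso d hd),
        Spor.UnitaryTrans.tv_smul hstar U.card hl])
    hinj hS

end UData

end Cfsg.Agent.Fischer.Twin
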