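import Cfsg.Agent.Lib.Fischer.Twin.UCoord

/-!
Sections of the members outside `x` on the classes at `x`, their space, and its Hermitian form.
-/

set_option autoImplicit false
set_option linter.unusedSectionVars false

namespace Cfsg.Agent.Fischer.Twin

variable {G : Type*} [Group G] {D : Set G}

/-- lines with five members together with coordinates -/
structure UData (D : Set G) (x y : G) (F : Type*) [Field F] [Fintype F] where
  five : Five D x y
  card : Fintype.card F = 4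
  co : G → G → F
  γ : G → G → F
  coord : Coord D x y co γ

namespace UData

variable [Finite G] {x y : G} {F : Type*} [Field F] [Fintype F] (U : UData D x y F)
include U

theorem γ_ne {t u : G} (ht : t ∈ Hyp.com D x y) (hu : u ∈ Hyp.com D x y) (htu : ¬ Commute t u) : U.γ t u ≠ 0 := by
  intro e
  obtain ⟨a, ha, hne⟩ := U.five.pol.exists_other U.five.hx ht.1
  have h1 := U.coord.map t ht u hu htu a ha
  rw [e, zero_mul, ← U.coord.zero u hu] at h1
  have h2 := (U.coord.bij u hu).injOn (U.five.pol.cls_map U.five.hx U.five.hy U.five.hxy ht hu htu ha)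
    (U.five.pol.self_cls hu.1) h1
  exact hne (cj_inj (h2.trans (U.five.pol.third ht.1.1 hu.1.1 htu).symm))

theorem exists_pt {t : G} (ht : t ∈ Hyp.com D x y) (c : F) : ∃ a ∈ cls D x t, U.co t a = c :=
  (U.coord.bij t ht).surjOn (Set.mem_univ c)

theorem γ_swap {t u : G} (ht : t ∈ Hyp.com D x y) (hu : u ∈ Hyp.com D x y) : U.γ u t = U.γ t u ^ 2 := by
  by_cases htu : Commute t u
  · rw [U.coord.comm t ht u hu htu, U.coord.comm u hu t ht htu.symm, zero_pow two_ne_zero]
  obtain ⟨a, ha, hac⟩ := U.exists_pt ht 1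
  have h1 := U.coord.map t ht u hu htu a ha
  have h2 := U.coord.map u hu t ht (fun c => htu c.symm) _
    (U.five.pol.cls_map U.five.hx U.five.hy U.five.hxy ht hu htu ha)
  rw [U.five.cls_inv ht hu htu, h1, hac, mul_one] at h2
  rw [← F4.inv_eq U.card (U.γ_ne ht hu htu)]
  exact eq_inv_of_mul_eq_one_left h2.symm

theorem γ_self {t : G} (ht : t ∈ Hyp.com D x y) : U.γ t t = 0 := U.coord.comm t ht t ht (Commute.refl t)

theorem γ_mul {t u : G} (ht : t ∈ Hyp.com D x y) (hu : u ∈ Hyp.com D x y) (htu : ¬ Commute t u) :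
    U.γ t u * U.γ u t = 1 := by
  rw [U.γ_swap ht hu, ← pow_succ']
  exact F4.cube U.card (U.γ_ne ht hu htu)

/-- the three bijections of a line -/
theorem γ_coll {t u : G} (ht : t ∈ Hyp.com D x y) (hu : u ∈ Hyp.com D x y) (htu : ¬ Commute t u) :
    U.γ u (cj t u) * U.γ t u = U.γ t (cj t u) := by
  have h := U.five.pol
  obtain ⟨a, ha, hac⟩ := U.exists_pt ht 1
  have hn := h.com_closed ht hu
  have hun : ¬ Commute u (cj t u) := fun c => h.third_not hu.1.1 (fun e => htu e.symm)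
    (by rwa [← h.braid ht.1.1 hu.1.1 htu])
  have e1 : cj t (cj t u) = u := h.cj_twice ht.1.1 u
  have h1 := U.coord.map u hu _ hn hun _ (h.cls_map U.five.hx U.five.hy U.five.hxy ht hu htu ha)
  have h2 := U.coord.map t ht _ hn (h.third_not ht.1.1 htu) a ha
  rw [U.coord.map t ht u hu htu a ha, hac, mul_one] at h1
  rw [hac, mul_one, e1] at h2
  rw [← h1, ← h2]
  congr 1
  have e2 : cj u (cj t u) = t := by rw [h.braid ht.1.1 hu.1.1 htu, h.cj_twice hu.1.1]
  rw [e2, h.cj_eq ht.1.1 (cj _ a), h.cj_eq hn.1.1, h.cj_eq ht.1.1 u, h.cj_eq hu.1.1]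
  have et := h.sq ht.1.1
  have ee : ∀ z : G, t * (t * z) = z := fun z => by rw [← mul_assoc, et, one_mul]
  have ha' : t * a * t = a := by
    rw [← h.cj_eq ht.1.1]; exact cj_fix (h.cls_commute U.five.hx ht.1 (h.self_cls ht.1) ha)
  calc t * (t * u * t * a * (t * u * t)) * t = u * (t * a * t) * u := by
        simp only [mul_assoc, ee, et, mul_one]
    _ = _ := by rw [ha']

/-- the coordinate of the third member -/
theorem co_third {t u a b : G} (ht : t ∈ Hyp.com D x y) (hu : u ∈ Hyp.com D x y) (htu : ¬ Commute t u)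
    (ha : a ∈ cls D x t) (hb : b ∈ cls D x u) :
    U.co (cj t u) (cj a b) = U.γ t (cj t u) * U.co t a + U.γ u (cj t u) * U.co u b := by
  have h := U.five.pol
  have hx := U.five.hx
  have hy := U.five.hy
  have hxy := U.five.hxy
  obtain ⟨n, hn⟩ : ∃ n, n = cj t u := ⟨_, rfl⟩
  have hnT : n ∈ Hyp.com D x y := hn ▸ h.com_closed ht hu
  have htn : ¬ Commute t n := hn ▸ h.third_not ht.1.1 htu
  have hun : ¬ Commute u n := by
    rw [hn, h.braid ht.1.1 hu.1.1 htu]; exact h.third_not hu.1.1 fun e => htu e.symm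
  rw [← hn]
  have e1 : cj t n = u := by rw [hn, h.cj_twice ht.1.1]
  have e2 : cj u n = t := by rw [hn, h.braid ht.1.1 hu.1.1 htu, h.cj_twice hu.1.1]
  have hA : U.co n (cj u a) = U.γ t n * U.co t a := by
    have := U.coord.map t ht n hnT htn a ha
    rwa [e1] at this
  have hB : U.co n (cj t b) = U.γ u n * U.co u b := by
    have := U.coord.map u hu n hnT hun b hb
    rwa [e2] at this
  rw [← hA, ← hB]
  have hab : ¬ Commute a b := h.cls_nc hx hy hxy ht hu htu ha hb
  have hmA : cj u a ∈ cls D x n := by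
    have := h.cls_map hx hy hxy ht hnT htn ha
    rwa [e1] at this
  have hmB : cj t b ∈ cls D x n := by
    have := h.cls_map hx hy hxy hu hnT hun hb
    rwa [e2] at this
  have hv : cj a b ∈ cls D x n := hn ▸ h.cls_third hx hy hxy ht hu htu ha hb
  have hz := U.coord.zero n hnT
  have hinj := (U.coord.bij n hnT).injOn
  have hn' := h.self_cls hnT.1
  by_cases hat : a = t
  · subst hat
    rw [show cj u a = n from by rw [hn, h.braid ht.1.1 hu.1.1 htu], hz, zero_add]
  by_cases hbu : b = u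
  · subst hbu
    rw [show cj t b = n from hn.symm, hz, add_zero, h.braid ha.1.1 hu.1.1 hab]
  have hA0 : U.co n (cj u a) ≠ 0 := fun e => hat (cj_inj
    ((hinj hmA hn' (e.trans hz.symm)).trans (hn.trans (h.braid ht.1.1 hu.1.1 htu))))
  have hB0 : U.co n (cj t b) ≠ 0 := fun e => hbu (cj_inj ((hinj hmB hn' (e.trans hz.symm)).trans hn))
  have hbJ : cj n a = b ↔ cj a b = n := by
    rw [hn]
    constructor
    · intro e
      exact h.com_unique hx hy hxy (hn ▸ hnT) (hn ▸ hv) ((h.latin hx hy hxy ht hu htu ha hb).2 e.symm)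
    · intro e
      exact ((h.latin hx hy hxy ht hu htu ha hb).1 (by rw [e]; exact (hn ▸ hnT : cj t u ∈ Hyp.com D x y).2)).symm
  have hJ : cj t (cj n a) = cj u a := by
    rw [hn, h.braid ht.1.1 hu.1.1 htu, ← cj_mul]
    have : t * cj u t = u * t := by
      rw [← h.braid ht.1.1 hu.1.1 htu, h.cj_eq ht.1.1, ← mul_assoc, ← mul_assoc, h.sq ht.1.1, one_mul]
    rw [this, cj_mul, cj_fix (h.cls_commute hx ht.1 (h.self_cls ht.1) ha)]
  by_cases hc : cj n a = b
  · rw [hbJ.1 hc, hz, ← hc, hJ, F4.add_self U.card]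
  refine F4.third U.card hA0 hB0 (fun e => hc ?_) (fun e => hc (hbJ.2 (hinj hv hn' (e.trans hz.symm))))
    (fun e => hbu ?_) (fun e => hat ?_)
  · have := congrArg (cj t) (hinj hmA hmB e)
    rw [h.cj_twice ht.1.1, ← hJ, h.cj_twice ht.1.1] at this
    exact this
  · have := hinj hv hmA e
    rw [h.braid hu.1.1 ha.1.1 fun c => h.cls_nc hx hy hxy ht hu htu ha (h.self_cls hu.1) c.symm] at this
    exact cj_inj this
  · have := hinj hv hmB e
    rw [h.braid ha.1.1 hb.1.1 hab,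
      h.braid ht.1.1 hb.1.1 (h.cls_nc hx hy hxy ht hu htu (h.self_cls ht.1) hb)] at this
    exact cj_inj this

/-! ### Sections -/

/-- members outside `x` -/
def out (D : Set G) (x : G) : Set G := {d | d ∈ D ∧ ¬ Commute x d}

theorem exists_sec (d : G) (t : ↥(Hyp.com D x y)) :
    ∃ c : F, d ∈ out D x → ∀ a ∈ cls D x t, (Commute a d ↔ U.co t a = c) := by
  by_cases hd : d ∈ out D x
  swap
  · exact ⟨0, fun h' => absurd h' hd⟩
  obtain ⟨u, hu, hun, hud, huniq⟩ := U.five.pol.exists_rep U.five.hx hd.1 hd.2 t.2.1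
  refine ⟨U.co t u, fun _ a ha => ⟨fun c => by rw [huniq a ha.1 c], fun e => ?_⟩⟩
  rw [(U.coord.bij t t.2).injOn ha ⟨hu, hun.2.1⟩ e]
  exact hud

/-- the section of a member outside `x` -/
noncomputable def sec (d : G) : ↥(Hyp.com D x y) → F := fun t => (U.exists_sec d t).choose

theorem sec_spec {d : G} (hd : d ∈ out D x) (t : ↥(Hyp.com D x y)) {a : G} (ha : a ∈ cls D x t) :
    Commute a d ↔ U.co t a = U.sec d t := (U.exists_sec d t).choose_spec hd a ha

theorem sec_zero_iff {d : G} (hd : d ∈ out D x) (t : ↥(Hyp.com D x y)) : U.sec d t = 0 ↔ Commute (t : G) d := by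
  rw [U.sec_spec hd t (U.five.pol.self_cls t.2.1), U.coord.zero t t.2]
  exact eq_comm

theorem y_out : y ∈ out D x := ⟨U.five.hy, U.five.hxy⟩

theorem sec_y : U.sec y = 0 := funext fun t => (U.sec_zero_iff U.y_out t).2 t.2.2

/-- the row of the Gram matrix -/
def Φ (t : ↥(Hyp.com D x y)) : ↥(Hyp.com D x y) → F := fun m => U.γ t m

theorem cj_out {d k : G} (hd : d ∈ out D x) (hk : k ∈ nbr D x) : cj k d ∈ out D x :=
  ⟨U.five.pol.mem_cj k hd.1, fun c => hd.2 (by rwa [← cj_fix hk.2.2.symm, cj_commute] at c)⟩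

theorem cj_x_out {d : G} (hd : d ∈ out D x) : cj x d ∈ out D x :=
  ⟨U.five.pol.mem_cj x hd.1, fun c => hd.2 ((cj_commute x).1 (by rw [cj_fix (Commute.refl x)]; exact c))⟩

theorem sec_cj_x {d : G} (hd : d ∈ out D x) : U.sec (cj x d) = U.sec d := funext fun t => by
  obtain ⟨a, ha, hac⟩ := U.exists_pt t.2 (U.sec d t)
  rw [← hac, eq_comm, ← U.sec_spec (U.cj_x_out hd) t ha]
  have := (cj_commute x).2 ((U.sec_spec hd t ha).2 hac)
  rwa [cj_fix (U.five.pol.cls_nbr U.five.hx t.2.1 ha).2.2] at this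

/-- the value of a section on a third member -/
theorem sec_rel {d : G} (hd : d ∈ out D x) {t u : ↥(Hyp.com D x y)} (htu : ¬ Commute (t : G) u) :
    U.sec d ⟨cj (t : G) u, U.five.pol.com_closed t.2 u.2⟩ =
      U.γ t (cj (t : G) u) * U.sec d t + U.γ u (cj (t : G) u) * U.sec d u := by
  obtain ⟨a, ha, hac⟩ := U.exists_pt t.2 (U.sec d t)
  obtain ⟨b, hb, hbc⟩ := U.exists_pt u.2 (U.sec d u)
  rw [← hac, ← hbc, ← U.co_third t.2 u.2 htu ha hb, eq_comm]
  refine (U.sec_spec hd ⟨cj (t : G) u, U.five.pol.com_closed t.2 u.2⟩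
    (U.five.pol.cls_third U.five.hx U.five.hy U.five.hxy t.2 u.2 htu ha hb)).1 ?_
  have h1 := (U.sec_spec hd t ha).2 hac
  have h2 := (U.sec_spec hd u hb).2 hbc
  rw [← cj_fix h1, cj_commute]
  exact h2

/-- the effect of a neighbour of `x` on sections -/
theorem sec_cj {d k : G} (hd : d ∈ out D x) (t : ↥(Hyp.com D x y)) (hk : k ∈ cls D x t) :
    U.sec (cj k d) = U.sec d + (U.sec d t + U.co t k) • U.Φ t := funext fun u => by
  have h := U.five.pol
  have hx := U.five.hx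
  have hkn := h.cls_nbr hx t.2.1 hk
  have hd' := U.cj_out hd hkn
  simp only [Pi.add_apply, Pi.smul_apply, smul_eq_mul, Φ]
  by_cases htu : Commute (t : G) u
  · rw [U.coord.comm t t.2 u u.2 htu, mul_zero, add_zero]
    obtain ⟨a, ha, hac⟩ := U.exists_pt u.2 (U.sec d u)
    rw [← hac, eq_comm, ← U.sec_spec hd' u ha]
    have h1 : Commute (u : G) k := (h.commute_iff_of_cls hx t.2.1 hk u.2.1.1 u.2.1.2.2.symm).2 htu.symm
    have h2 : Commute k a := (h.commute_iff_of_cls hx u.2.1 ha hkn.1 hkn.2.2.symm).2 h1.symm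
    have := (cj_commute k).2 ((U.sec_spec hd u ha).2 hac)
    rwa [cj_fix h2] at this
  · let v : ↥(Hyp.com D x y) := ⟨cj (t : G) u, h.com_closed t.2 u.2⟩
    have htv : ¬ Commute (t : G) v := h.third_not t.2.1.1 htu
    obtain ⟨a, ha, hac⟩ := U.exists_pt v.2 (U.sec d v)
    have e1 : cj (t : G) v = u := h.cj_twice t.2.1.1 _
    have hm := h.cls_third hx U.five.hy U.five.hxy t.2 v.2 htv hk ha
    rw [e1] at hm
    have h1 : U.sec (cj k d) u = U.co u (cj k a) :=
      ((U.sec_spec hd' u hm).1 ((cj_commute k).2 ((U.sec_spec hd v ha).2 hac))).symm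
    have h2 := U.co_third t.2 v.2 htv hk ha
    rw [e1] at h2
    have h3 := U.γ_coll t.2 v.2 htv
    rw [e1] at h3
    have huv : ¬ Commute (u : G) v := fun c => by
      rw [show (v : G) = cj (t : G) u from rfl, h.braid t.2.1.1 u.2.1.1 htu] at c
      exact h.third_not u.2.1.1 (fun e => htu e.symm) c
    have h4 := U.γ_mul v.2 u.2 fun c => huv c.symm
    have h5 : U.sec d v = U.γ t v * U.sec d t + U.γ u v * U.sec d u := U.sec_rel hd htu
    rw [h1, h2, hac, h5]
    linear_combination U.sec d t * h3 + U.sec d u * h4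

/-- induction over the members outside `x` -/
theorem out_induction {P : G → Prop} (h0 : P y) (hstep : ∀ k ∈ nbr D x, ∀ d ∈ out D x, P d → P (cj k d))
    (hxs : ∀ d ∈ out D x, P d → P (cj x d)) : ∀ d ∈ out D x, P d := by
  have h := U.five.pol
  have hx := U.five.hx
  -- commuting members
  have adj : ∀ a b, a ∈ out D x → b ∈ out D x → Commute a b → P a → P b := by
    intro a b ha hb hc hPa
    by_cases hne : a = b
    · exact hne ▸ hPa
    have hbn : b ∈ nbr D a := ⟨hb.1, fun e => hne e.symm, hc⟩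
    obtain ⟨u, hu, hux⟩ := h.exists_perp ha.1 hbn hx
    have hua : u ≠ a := fun e => ha.2 (e ▸ hux).symm
    have hub : u ≠ b := fun e => hb.2 (e ▸ hux).symm
    have hun := h.ln_nbr ha.1 hbn hu hua
    have han : a ∈ nbr D u := ⟨ha.1, hua.symm, hun.2.2.symm⟩
    have hln : ln D u a = ln D a b := by rw [ln_comm]; exact h.ln_eq ha.1 hbn hu hua
    have hbcls : b ∈ cls D u a := ⟨hln ▸ ln_right hb.1, hub.symm⟩
    have hxu : x ≠ u := fun e => ha.2 (e ▸ hun.2.2.symm)
    have hxn : x ∈ nbr D u := ⟨hx, hxu, hux⟩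
    have hnb : ∀ b' ∈ cls D u x, ¬ Commute a b' := fun b' hb' c => ha.2
      (h.ln_all hun.1 hxn (ln_left hun.1) hb'.1 (Ne.symm hb'.2) (ln_right hx) ha.1 hun.2.2 c).symm
    have hmaps : Set.MapsTo (fun b' => cj x (cj b' a)) (cls D u x) (cls D u a) := fun b' hb' => by
      have hb'n := h.cls_nbr hun.1 hxn hb'
      have h1 := h.cj_cls (g := a) (cj_fix hun.2.2) hb'
      have h2 := h.cj_cls (g := x) (cj_fix hux.symm) h1
      rw [h.braid ha.1 hb'n.1 (hnb b' hb')] at h2
      rwa [h.braid ha.1 hx (fun c => ha.2 c.symm), h.cj_twice hx] at h2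
    have hinj : Set.InjOn (fun b' => cj x (cj b' a)) (cls D u x) := fun p hp q hq e => by
      have e' := cj_inj (g := x) e
      rw [← h.braid ha.1 hp.1.1 (hnb p hp), ← h.braid ha.1 hq.1.1 (hnb q hq)] at e'
      exact cj_inj e'
    have hcard : (cls D u x).ncard = (cls D u a).ncard := h.cls_ncard hun.1 hxn hun.1 han
    have himg : (fun b' => cj x (cj b' a)) '' cls D u x = cls D u a :=
      Set.eq_of_subset_of_ncard_le hmaps.image_subset
        (by rw [Set.ncard_image_of_injOn hinj, hcard]) (Set.toFinite _)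
    obtain ⟨b', hb', rfl⟩ := himg.ge hbcls
    by_cases hb'x : b' = x
    · subst hb'x
      exact hxs _ (U.cj_x_out ha) (hxs a ha hPa)
    · have hb'n : b' ∈ nbr D x := by
        refine ⟨hb'.1.1, hb'x, ?_⟩
        exact h.cls_commute hun.1 hxn (h.self_cls hxn) hb'
      exact hxs _ (U.cj_out ha hb'n) (hstep b' hb'n a ha hPa)
  intro e he
  by_cases hye : Commute y e
  · exact adj y e U.y_out he hye h0
  have hTT : ∀ {a}, a ∈ out D x → ¬ Commute a e → (∀ m ∈ Hyp.com D a e, Commute x m) →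
      Hyp.com D a e ⊆ Hyp.com D x a ∧ Hyp.com D x a ⊆ Hyp.com D a e := by
    intro a ha hae hall
    have hsub : Hyp.com D a e ⊆ Hyp.com D x a := fun m hm =>
      ⟨⟨hm.1.1, fun e' => ha.2 (e' ▸ hm.1.2.2.symm), hall m hm⟩, hm.1.2.2.symm⟩
    obtain ⟨g, hg1, hg2⟩ := Twins.pair_outside h.hyp ha.1 he.1 hae hx ha.1 ha.2
    have him : Hyp.com D x a ⊆ cj g '' Hyp.com D a e := fun m hm => by
      refine ⟨cj g⁻¹ m, ⟨?_, ?_⟩, cj_self_inv g m⟩
      · refine (nbr_conj (Spor.class_isGroup h.hyp.cls).2.1 g).1 ?_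
        rw [hg1, show g * cj g⁻¹ m * g⁻¹ = m from cj_self_inv g m]
        exact hm.1
      · rw [← cj_commute g, cj_self_inv]
        show Commute m (g * e * g⁻¹)
        rw [hg2]; exact hm.2
    exact ⟨hsub, (Set.eq_of_subset_of_ncard_le hsub ((Set.ncard_le_ncard him (Set.toFinite _)).trans
      (Set.ncard_image_le (Set.toFinite _))) (Set.toFinite _)).ge⟩
  by_cases hall : ∀ m ∈ Hyp.com D y e, Commute x m
  swap
  · push Not at hall
    obtain ⟨m, hm, hxm⟩ := hall
    exact adj m e ⟨hm.1.1, hxm⟩ he hm.2 (adj y m U.y_out ⟨hm.1.1, hxm⟩ hm.1.2.2 h0)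
  obtain ⟨hs1, hs2⟩ := hTT U.y_out hye hall
  obtain ⟨t, ht⟩ := h.hyp.exists_common hx U.five.hy U.five.hxy
  have hyn : y ∈ nbr D t := ⟨U.five.hy, fun e' => U.five.hxy (e'.symm ▸ ht.1.2.2), ht.2⟩
  obtain ⟨a, ha, haT, hay⟩ := h.twin t ht.1.1 y hyn
  have hao : a ∈ out D x := ⟨ha.1, fun c => U.five.hxy
    (h.ln_all ht.1.1 hyn (ln_left ht.1.1) ha haT.symm (ln_right U.five.hy) hx ht.1.2.2 c)⟩
  have hya : Commute y a := h.ln_clique ht.1.1 hyn (ln_right U.five.hy) ha
  have hPa := adj y a U.y_out hao hya h0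
  by_cases hae : Commute a e
  · exact adj a e hao he hae hPa
  by_cases hall' : ∀ m ∈ Hyp.com D a e, Commute x m
  swap
  · push Not at hall'
    obtain ⟨m, hm, hxm⟩ := hall'
    exact adj m e ⟨hm.1.1, hxm⟩ he hm.2 (adj a m hao ⟨hm.1.1, hxm⟩ hm.1.2.2 hPa)
  obtain ⟨hs3, hs4⟩ := hTT hao hae hall'
  exfalso
  obtain ⟨s, hs, hts⟩ := h.com_nc hx U.five.hy U.five.hxy ht
  have hle : ∀ {p q}, p ∈ out D x → q ∈ out D x →
      (Hyp.com D x p).ncard ≤ (Hyp.com D x q).ncard := by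
    intro p q hp hq
    obtain ⟨g, hg1, hg2⟩ := Twins.pair_outside h.hyp hx hp.1 hp.2 hx hq.1 hq.2
    refine le_trans (le_of_eq (Set.ncard_image_of_injective _ fun p q => cj_inj (g := g)).symm)
      (Set.ncard_le_ncard ?_ (Set.toFinite _))
    rintro _ ⟨m, hm, rfl⟩
    exact ⟨h.cj_nbr hg1 hm.1, by rw [← hg2]; exact (cj_commute g).2 hm.2⟩
  have hye' : Hyp.com D x y = Hyp.com D x e := Set.eq_of_subset_of_ncard_le
    (fun p hp => ⟨hp.1, (hs2 hp).2⟩) (hle he U.y_out) (Set.toFinite _)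
  have hay' : Hyp.com D x a = Hyp.com D x y := Set.eq_of_subset_of_ncard_le
    (fun m hm => hye'.symm ▸ (⟨hm.1, (hs4 hm).2⟩ : m ∈ Hyp.com D x e)) (hle U.y_out hao) (Set.toFinite _)
  have hsa : Commute a s := ((hay'.symm ▸ hs : s ∈ Hyp.com D x a).2).symm
  exact hts (h.ln_all ht.1.1 hyn ha (ln_right U.five.hy) hay (ln_left ht.1.1) hs.1.1 hsa.symm hs.2).symm

/-! ### The space of sections -/

/-- the space spanned by the rows -/
def W : Submodule F (↥(Hyp.com D x y) → F) := Submodule.span F (Set.range U.Φ)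

theorem Φ_mem (t : ↥(Hyp.com D x y)) : U.Φ t ∈ U.W := Submodule.subset_span ⟨t, rfl⟩

theorem sec_mem {d : G} (hd : d ∈ out D x) : U.sec d ∈ U.W := by
  refine U.out_induction (P := fun d => U.sec d ∈ U.W) ?_ ?_ ?_ d hd
  · rw [U.sec_y]; exact zero_mem _
  · intro k hk d hd ih
    obtain ⟨r, hr, hrn, hry, -⟩ := U.five.pol.exists_rep U.five.hx U.five.hy U.five.hxy hk
    have hkr : k ∈ cls D x r := ⟨by rw [U.five.pol.ln_eq U.five.hx hk hr hrn.2.1]; exact ln_right hk.1, hk.2.1⟩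
    rw [U.sec_cj hd ⟨r, hrn, hry⟩ hkr]
    exact add_mem ih (U.W.smul_mem _ (U.Φ_mem _))
  · intro d hd ih
    rwa [U.sec_cj_x hd]

/-- every vector of the space satisfies the relation of the lines -/
theorem W_rel {w : ↥(Hyp.com D x y) → F} (hw : w ∈ U.W) {t u : ↥(Hyp.com D x y)} (htu : ¬ Commute (t : G) u) :
    w ⟨cj (t : G) u, U.five.pol.com_closed t.2 u.2⟩ =
      U.γ t (cj (t : G) u) * w t + U.γ u (cj (t : G) u) * w u := by
  induction hw using Submodule.span_induction with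
  | mem w hw =>
    obtain ⟨m, rfl⟩ := hw
    obtain ⟨a, ha, hac⟩ := U.exists_pt m.2 1
    have e := U.sec_cj U.y_out m ha
    rw [U.sec_y, Pi.zero_apply, hac, zero_add, zero_add, one_smul] at e
    rw [← e]
    exact U.sec_rel (U.cj_out U.y_out (U.five.pol.cls_nbr U.five.hx m.2.1 ha)) htu
  | zero => simp
  | add p q _ _ hp hq => simp only [Pi.add_apply, hp, hq]; ring
  | smul c p _ hp => simp only [Pi.smul_apply, smul_eq_mul, hp]; ring

section Form

variable [Fintype ↥(Hyp.com D x y)]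

theorem exists_comb {w : ↥(Hyp.com D x y) → F} (hw : w ∈ U.W) :
    ∃ f : ↥(Hyp.com D x y) → F, ∀ m : ↥(Hyp.com D x y), ∑ t : ↥(Hyp.com D x y), f t * U.γ t m = w m := by
  obtain ⟨f, rfl⟩ := (Submodule.mem_span_range_iff_exists_fun F).1 hw
  exact ⟨f, fun m => by simp [Φ]⟩

/-- the form on the space of sections -/
noncomputable def hW (v w : ↥U.W) : F := ∑ t, (U.exists_comb v.2).choose t ^ 2 * (w : ↥(Hyp.com D x y) → F) t

theorem comb_symm {f g : ↥(Hyp.com D x y) → F} :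
    ∑ t, f t ^ 2 * (∑ u, g u * U.γ u t) = ∑ u, g u * (∑ t, f t * U.γ t u) ^ 2 := by
  have hsum : ∀ a : ↥(Hyp.com D x y) → F, (∑ t, a t) ^ 2 = ∑ t, a t ^ 2 := fun a => by
    let φ : F →+ F := AddMonoidHom.mk' (fun z => z ^ 2) (F4.sq_add U.card)
    exact map_sum φ a Finset.univ
  simp only [hsum, Finset.mul_sum]
  rw [Finset.sum_comm]
  refine Finset.sum_congr rfl fun u _ => Finset.sum_congr rfl fun t _ => ?_
  rw [U.γ_swap t.2 u.2]; ring

theorem hW_eq {v w : ↥U.W} {f : ↥(Hyp.com D x y) → F} (hf : ∀ m : ↥(Hyp.com D x y), ∑ t : ↥(Hyp.com D x y), f t * U.γ t m = (v : ↥(Hyp.com D x y) → F) m) :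
    U.hW v w = ∑ t, f t ^ 2 * (w : ↥(Hyp.com D x y) → F) t := by
  obtain ⟨g, hg⟩ := U.exists_comb w.2
  simp only [hW, ← hg, comb_symm, (U.exists_comb v.2).choose_spec, hf]

theorem hW_Φ (t : ↥(Hyp.com D x y)) (w : ↥U.W) : U.hW ⟨U.Φ t, U.Φ_mem t⟩ w = (w : ↥(Hyp.com D x y) → F) t := by
  classical
  rw [U.hW_eq (f := Pi.single t 1) fun m => by simp [Φ, Pi.single_apply]]
  simp [Pi.single_apply]

theorem hW_swap (v w : ↥U.W) : U.hW w v = U.hW v w ^ 2 := by
  obtain ⟨f, hf⟩ := U.exists_comb v.2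
  obtain ⟨g, hg⟩ := U.exists_comb w.2
  rw [U.hW_eq hg, U.hW_eq hf]
  simp only [← hf, ← hg]
  conv_rhs => rw [U.comb_symm]
  let φ : F →+ F := AddMonoidHom.mk' (fun z => z ^ 2) (F4.sq_add U.card)
  rw [show ∀ S : F, S ^ 2 = φ S from fun S => rfl, map_sum]
  refine Finset.sum_congr rfl fun u _ => ?_
  show g u ^ 2 * _ = (g u * _ ^ 2) ^ 2
  rw [mul_pow, ← pow_mul]
  congr 1
  · exact (F4.pow_four U.card _).symm

theorem hW_add_right (v w w' : ↥U.W) : U.hW v (w + w') = U.hW v w + U.hW v w' := by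
  simp [hW, mul_add, Finset.sum_add_distrib]

theorem hW_smul_right (c : F) (v w : ↥U.W) : U.hW v (c • w) = c * U.hW v w := by
  simp [hW, Finset.mul_sum, mul_left_comm]

theorem hW_add_left (v v' w : ↥U.W) : U.hW (v + v') w = U.hW v w + U.hW v' w := by
  rw [U.hW_swap w (v + v'), U.hW_add_right, F4.sq_add U.card, ← U.hW_swap, ← U.hW_swap]

theorem hW_smul_left (c : F) (v w : ↥U.W) : U.hW (c • v) w = c ^ 2 * U.hW v w := by
  rw [U.hW_swap w (c • v), U.hW_smul_right, mul_pow, ← U.hW_swap]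

theorem hW_nondeg (w : ↥U.W) (h0 : ∀ v, U.hW v w = 0) : w = 0 :=
  Subtype.ext (funext fun t => (U.hW_Φ t w).symm.trans (h0 _))

end Form

end UData

end Cfsg.Agent.Fischer.Twin
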