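import Cfsg.Agent.Lib.Fischer.Twin.Classes
import Cfsg.Agent.Lib.Fischer.LocalTwins

/-!
A closed set of common neighbours without commuting pairs has at most nine members.
-/

set_option autoImplicit false
set_option linter.unusedSectionVars false

namespace Cfsg.Agent.Fischer.Twin

variable {G : Type*} [Group G] {D : Set G}

/-- a commutator -/
def cm (u v : G) : G := v * u * v⁻¹ * u⁻¹

theorem cm_eq_one {u v : G} (h : Commute u v) : cm u v = 1 := by
  rw [cm, ← h.eq, mul_inv_cancel_right, mul_inv_cancel]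

theorem inv_eq_sq {v : G} (hv : v ^ 3 = 1) : v⁻¹ = v * v :=
  inv_eq_of_mul_eq_one_right (by rw [← hv, pow_succ, pow_succ, pow_one, mul_assoc])

theorem engel_one {u v : G} (hv : v ^ 3 = 1) (h1 : (u * v) ^ 3 = 1) (h2 : (u * v⁻¹) ^ 3 = 1) :
    Commute u (v * u * v⁻¹) := by
  have e1 : u * v * u = v⁻¹ * u⁻¹ * v⁻¹ := by
    calc u * v * u = (u * v) ^ 3 * (v⁻¹ * u⁻¹ * v⁻¹) := by simp only [pow_succ, pow_zero, one_mul]; group
      _ = _ := by rw [h1, one_mul]
  have e2 : u * v⁻¹ * u = v * u⁻¹ * v := by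
    calc u * v⁻¹ * u = (u * v⁻¹) ^ 3 * (v * u⁻¹ * v) := by simp only [pow_succ, pow_zero, one_mul]; group
      _ = _ := by rw [h2, one_mul]
  have hvi := inv_eq_sq hv
  calc u * (v * u * v⁻¹) = (u * v * u) * v⁻¹ := by group
    _ = v⁻¹ * u⁻¹ * (v⁻¹ * v⁻¹) := by rw [e1, mul_assoc]
    _ = v⁻¹ * u⁻¹ * v := by rw [show v⁻¹ * v⁻¹ = v by rw [← mul_inv_rev, ← hvi, inv_inv]]
    _ = (v * v) * u⁻¹ * v := by rw [hvi]
    _ = v * (u * v⁻¹ * u) := by rw [e2]; group
    _ = v * u * v⁻¹ * u := by group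

/-- the commutator of two members of a group of exponent three on two generators is central -/
theorem engel {u v : G} (hu : u ^ 3 = 1) (hv : v ^ 3 = 1) (h1 : (u * v) ^ 3 = 1) (h2 : (u * v⁻¹) ^ 3 = 1) :
    Commute (cm u v) u ∧ Commute (cm u v) v ∧ cm u v ^ 3 = 1 := by
  have hA := engel_one hv h1 h2
  have h1' : (v * u) ^ 3 = 1 := by
    rw [show v * u = v * (u * v) * v⁻¹ by group, conj_pow, h1]; group
  have h2' : (v * u⁻¹) ^ 3 = 1 := by
    rw [show v * u⁻¹ = (u * v⁻¹)⁻¹ by group, inv_pow, h2, inv_one]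
  have hB := engel_one hu h1' h2'
  refine ⟨?_, ?_, ?_⟩
  · exact (hA.symm.mul_left (Commute.inv_left (Commute.refl u)))
  · rw [show cm u v = v * (u * v * u⁻¹)⁻¹ by rw [cm]; group]
    exact (Commute.refl v).mul_left hB.symm.inv_left
  · rw [cm, (hA.symm.inv_right).mul_pow, conj_pow, hu, inv_pow, hu]; group

/-- translations along the class of `Q` -/
def tw (D : Set G) (x Q : G) : Subgroup G := Subgroup.closure ((fun b => Q * b) '' cls D x Q)

namespace Polar

variable (h : Polar D)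
include h

theorem cube {t u : G} (ht : t ∈ D) (hu : u ∈ D) (hc : Commute t u → t = u) : (t * u) ^ 3 = 1 := by
  rcases h.hyp.cls.1.2 t ht u hu with h2 | h3
  · rw [hc ?_, h.sq hu, one_pow]
    rw [pow_two, mul_eq_one_iff_eq_inv, mul_inv_rev, h.inv ht, h.inv hu] at h2
    exact h2
  · exact h3

variable [Finite G]

theorem exists_other {x t : G} (hx : x ∈ D) (ht : t ∈ nbr D x) : ∃ a ∈ cls D x t, a ≠ t := by
  obtain ⟨f, hf, hfx, hft⟩ := h.twin x hx t ht
  exact ⟨f, ⟨hf, hfx⟩, hft⟩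

theorem tw_fix {x Q : G} (hx : x ∈ D) (hQ : Q ∈ nbr D x) {f : G} (hf : f ∈ tw D x Q) {b : G}
    (hb : b ∈ insert x (cls D x Q)) : Commute f b := by
  have hc : ∀ b' ∈ cls D x Q, Commute b' b := fun b' hb' => by
    rcases hb with rfl | hb
    · exact (h.cls_nbr hx hQ hb').2.2.symm
    · exact h.cls_commute hx hQ hb' hb
  induction hf using Subgroup.closure_induction with
  | mem g hg => obtain ⟨b', hb', rfl⟩ := hg; exact (hc Q (h.self_cls hQ)).mul_left (hc b' hb')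
  | one => exact Commute.one_left _
  | mul p r _ _ hp hr => exact hp.mul_left hr
  | inv p _ hp => exact hp.inv_left

theorem tw_cj_x {x Q : G} (hx : x ∈ D) (hQ : Q ∈ nbr D x) {f : G} (hf : f ∈ tw D x Q) : cj f x = x :=
  cj_fix (h.tw_fix hx hQ hf (Set.mem_insert _ _))

theorem tw_comm {x Q : G} (hx : x ∈ D) (hQ : Q ∈ nbr D x) {f f' : G} (hf : f ∈ tw D x Q)
    (hf' : f' ∈ tw D x Q) : Commute f f' := by
  induction hf' using Subgroup.closure_induction with
  | mem g hg =>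
    obtain ⟨b', hb', rfl⟩ := hg
    exact (h.tw_fix hx hQ hf (Or.inr (h.self_cls hQ))).mul_right (h.tw_fix hx hQ hf (Or.inr hb'))
  | one => exact Commute.one_right _
  | mul p r _ _ hp hr => exact hp.mul_right hr
  | inv p _ hp => exact hp.inv_right

theorem tw_sq {x Q : G} (hx : x ∈ D) (hQ : Q ∈ nbr D x) {f : G} (hf : f ∈ tw D x Q) : f * f = 1 := by
  induction hf using Subgroup.closure_induction with
  | mem g hg =>
    obtain ⟨b', hb', rfl⟩ := hg
    have hc := h.cls_commute hx hQ (h.self_cls hQ) hb'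
    calc Q * b' * (Q * b') = Q * (b' * Q) * b' := by group
      _ = (Q * Q) * (b' * b') := by rw [← hc.eq]; group
      _ = 1 := by rw [h.sq hQ.1, h.sq hb'.1.1, one_mul]
  | one => simp
  | mul p r hp hr ep er =>
    calc p * r * (p * r) = p * (r * p) * r := by group
      _ = (p * p) * (r * r) := by rw [(h.tw_comm hx hQ hr hp).eq]; group
      _ = 1 := by rw [ep, er, one_mul]
  | inv p _ ep => rw [← mul_inv_rev, ep, inv_one]

theorem tw_conj {x Q g : G} (hgx : cj g x = x) (hgQ : cj g Q = Q) {f : G} (hf : f ∈ tw D x Q) :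
    cj g f ∈ tw D x Q := by
  induction hf using Subgroup.closure_induction with
  | mem f hf =>
    obtain ⟨b, hb, rfl⟩ := hf
    have : cj g (Q * b) = Q * cj g b := by
      conv_rhs => rw [← hgQ]
      simp only [cj]; group
    rw [this]
    refine Subgroup.subset_closure ⟨_, ?_, rfl⟩
    have := h.cj_cls hgx hb
    rwa [hgQ] at this
  | one => rw [show cj g (1 : G) = 1 by simp [cj]]; exact one_mem _
  | mul p r _ _ hp hr =>
    rw [show cj g (p * r) = cj g p * cj g r by simp only [cj]; group]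
    exact mul_mem hp hr
  | inv p _ hp =>
    rw [show cj g p⁻¹ = (cj g p)⁻¹ by simp only [cj]; group]
    exact inv_mem hp

section Pair

variable {x y : G} (hx : x ∈ D) (hy : y ∈ D) (hxy : ¬ Commute x y)
include hx hy hxy

theorem tw_cls {P Q : G} (hP : P ∈ Hyp.com D x y) (hQ : Q ∈ Hyp.com D x y) (hPQ : ¬ Commute P Q) {f : G}
    (hf : f ∈ tw D x Q) : ∀ a ∈ cls D x P, cj f a ∈ cls D x P := by
  induction hf using Subgroup.closure_induction with
  | mem f hf =>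
    obtain ⟨b, hb, rfl⟩ := hf
    intro a ha
    have hn := h.com_closed hQ hP
    have hQx : cj Q x = x := cj_fix hQ.1.2.2.symm
    have hbx : cj b x = x := cj_fix (h.cls_nbr hx hQ.1 hb).2.2.symm
    rw [cj_mul]
    have h1 : cj b a ∈ cls D x (cj Q P) :=
      h.cls_third hx hy hxy hQ hP (fun c => hPQ c.symm) hb ha
    have h2 := h.cj_cls hQx h1
    rwa [h.cj_twice hQ.1.1] at h2
  | one => intro a ha; rwa [cj_one]
  | mul p r _ _ hp hr => intro a ha; rw [cj_mul]; exact hp _ (hr a ha)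
  | inv p hp ih =>
    intro a ha
    rw [inv_eq_of_mul_eq_one_right (h.tw_sq hx hQ.1 hp)]
    exact ih a ha

theorem tw_trans {P Q a : G} (hP : P ∈ Hyp.com D x y) (hQ : Q ∈ Hyp.com D x y) (hPQ : ¬ Commute P Q)
    (ha : a ∈ cls D x P) : ∃ f ∈ tw D x Q, cj f P = a :=
  ⟨_, Subgroup.subset_closure ⟨_, h.cls_map hx hy hxy hP hQ hPQ ha, rfl⟩, h.tau hx hy hxy hP hQ hPQ ha⟩

/-- a translation is determined by the image of one member -/
theorem tw_reg {P Q a f f' : G} (hP : P ∈ Hyp.com D x y) (hQ : Q ∈ Hyp.com D x y) (hPQ : ¬ Commute P Q)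
    (hf : f ∈ tw D x Q) (hf' : f' ∈ tw D x Q) (he : cj f P = cj f' P) (ha : a ∈ cls D x P) :
    cj f a = cj f' a := by
  obtain ⟨k, hk, rfl⟩ := h.tw_trans hx hy hxy hP hQ hPQ ha
  rw [← cj_mul, ← cj_mul, (h.tw_comm hx hQ.1 hf hk).eq, (h.tw_comm hx hQ.1 hf' hk).eq, cj_mul, cj_mul, he]

end Pair

end Polar

/-- a closed set of common neighbours without commuting pairs -/
structure Thin (D : Set G) (x y : G) (T : Set G) : Prop where
  hx : x ∈ D
  hy : y ∈ D
  hxy : ¬ Commute x y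
  sub : T ⊆ Hyp.com D x y
  closed : ∀ t ∈ T, ∀ u ∈ T, cj t u ∈ T
  thin : ∀ t ∈ T, ∀ u ∈ T, Commute t u → t = u

/-- three members not on one line -/
structure Tri (T : Set G) (P Q R : G) : Prop where
  hP : P ∈ T
  hQ : Q ∈ T
  hR : R ∈ T
  pq : P ≠ Q
  pr : P ≠ R
  qr : Q ≠ R
  plane : P ≠ cj Q R

namespace Thin

variable {x y : G} {T : Set G} (hT : Thin D x y T) (h : Polar D)
include hT h

theorem mem {t : G} (ht : t ∈ T) : t ∈ D := (hT.sub ht).1.1

theorem nc {t u : G} (ht : t ∈ T) (hu : u ∈ T) (hne : t ≠ u) : ¬ Commute t u :=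
  fun c => hne (hT.thin t ht u hu c)

theorem cube {t u : G} (ht : t ∈ T) (hu : u ∈ T) : (t * u) ^ 3 = 1 :=
  h.cube (hT.mem h ht) (hT.mem h hu) (hT.thin t ht u hu)

theorem cm_props {P Q R : G} (hP : P ∈ T) (hQ : Q ∈ T) (hR : R ∈ T) :
    (Commute (cm (P * Q) (P * R)) P ∧ Commute (cm (P * Q) (P * R)) Q ∧ Commute (cm (P * Q) (P * R)) R) ∧
      cm (P * Q) (P * R) ^ 3 = 1 := by
  have hPP := h.sq (hT.mem h hP)
  have hPi := h.inv (hT.mem h hP)
  have hRi := h.inv (hT.mem h hR)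
  have h1 : (P * Q * (P * R)) ^ 3 = 1 := by
    rw [show P * Q * (P * R) = cj P Q * R by rw [h.cj_eq (hT.mem h hP)]; group]
    exact hT.cube h (hT.closed P hP Q hQ) hR
  have h2 : (P * Q * (P * R)⁻¹) ^ 3 = 1 := by
    rw [show P * Q * (P * R)⁻¹ = P * (Q * R) * P⁻¹ by rw [mul_inv_rev, hRi]; group, conj_pow,
      hT.cube h hQ hR]
    group
  obtain ⟨cu, cv, c3⟩ := engel (hT.cube h hP hQ) (hT.cube h hP hR) h1 h2
  obtain ⟨u, hu⟩ : ∃ u, u = P * Q := ⟨_, rfl⟩
  obtain ⟨v, hv⟩ : ∃ v, v = P * R := ⟨_, rfl⟩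
  rw [← hu, ← hv] at cu cv c3 ⊢
  have iu : P * u * P⁻¹ = u⁻¹ := by rw [hu, mul_inv_rev, hPi, h.inv (hT.mem h hQ), ← mul_assoc, hPP, one_mul]
  have iv : P * v * P⁻¹ = v⁻¹ := by rw [hv, mul_inv_rev, hPi, hRi, ← mul_assoc, hPP, one_mul]
  have cP : Commute (cm u v) P := by
    refine (commute_of_cj ?_).symm
    have e : cj P (cm u v) = (P * v * P⁻¹) * (P * u * P⁻¹) * (P * v * P⁻¹)⁻¹ * (P * u * P⁻¹)⁻¹ := by
      simp only [cj, cm]; group
    rw [e, iu, iv, inv_inv, inv_inv]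
    have e2 : v * u = cm u v * (u * v) := by simp only [cm]; group
    calc v⁻¹ * u⁻¹ * v * u = (u * v)⁻¹ * (v * u) := by group
      _ = (u * v)⁻¹ * (cm u v * (u * v)) := by rw [e2]
      _ = cm u v := by rw [(cu.mul_right cv).eq]; group
  refine ⟨⟨cP, ?_, ?_⟩, c3⟩
  · rw [show Q = P⁻¹ * u by rw [hu]; group]; exact cP.inv_right.mul_right cu
  · rw [show R = P⁻¹ * v by rw [hv]; group]; exact cP.inv_right.mul_right cv

theorem cm_cj_x {P Q R : G} (hP : P ∈ T) (hQ : Q ∈ T) (hR : R ∈ T) : cj (cm (P * Q) (P * R)) x = x := by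
  have : ∀ t ∈ T, Commute t x := fun t ht => (hT.sub ht).1.2.2.symm
  refine cj_fix ?_
  have hu := (this P hP).mul_left (this Q hQ)
  have hv := (this P hP).mul_left (this R hR)
  exact ((hv.mul_left hu).mul_left hv.inv_left).mul_left hu.inv_left

theorem cm_hol {P Q R : G} (hP : P ∈ T) (hQ : Q ∈ T) (hR : R ∈ T) :
    cm (P * Q) (P * R) = cj P R * cj Q R * cj P Q * P := by
  have hPP := h.sq (hT.mem h hP)
  rw [cm, mul_inv_rev, mul_inv_rev, h.inv (hT.mem h hP), h.inv (hT.mem h hQ), h.inv (hT.mem h hR),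
    h.cj_eq (hT.mem h hP), h.cj_eq (hT.mem h hQ), h.cj_eq (hT.mem h hP)]
  calc P * R * (P * Q) * (R * P) * (Q * P) = P * R * P * Q * R * (P * Q * P) := by group
    _ = P * R * P * Q * R * (cj P Q) := by rw [h.cj_eq (hT.mem h hP)]
    _ = P * R * P * Q * R * (cj Q P) := by
      by_cases e : P = Q
      · rw [e]
      · rw [h.braid (hT.mem h hP) (hT.mem h hQ) (hT.nc h hP hQ e)]
    _ = P * R * P * Q * R * (Q * P * Q) := by rw [h.cj_eq (hT.mem h hQ)]
    _ = P * R * P * (Q * R * Q) * (P * Q) := by group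
    _ = P * R * P * (Q * R * Q) * (P * Q * (P * P)) := by rw [hPP, mul_one]
    _ = P * R * P * (Q * R * Q) * (P * Q * P) * P := by group

variable [Finite G]

/-- the holonomy of a triangle fixes only the marked member -/
theorem fpf {P Q R : G} (t : Tri T P Q R) {a : G} (ha : a ∈ cls D x P)
    (hfix : cj (cm (P * Q) (P * R)) a = a) : a = P := by
  by_contra hne
  rw [hT.cm_hol h t.hP t.hQ t.hR, cj_mul, cj_fix (h.cls_commute hT.hx (hT.sub t.hP).1
    (h.self_cls (hT.sub t.hP).1) ha), cj_mul, cj_mul] at hfix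
  exact h.holonomy hT.hx hT.hy hT.hxy (hT.sub t.hP) (hT.sub t.hQ) (hT.sub t.hR) (hT.nc h t.hP t.hQ t.pq)
    (hT.nc h t.hQ t.hR t.qr) (hT.nc h t.hP t.hR t.pr)
    (hT.nc h t.hP (hT.closed _ t.hQ _ t.hR) t.plane) ha hne hfix

theorem cm_ne_one {P Q R : G} (t : Tri T P Q R) : cm (P * Q) (P * R) ≠ 1 := fun e => by
  obtain ⟨a, ha, hne⟩ := h.exists_other hT.hx (hT.sub t.hP).1
  exact hne (hT.fpf h t ha (by rw [e, cj_one]))

theorem tri_of_ne {P Q R : G} (hP : P ∈ T) (hQ : Q ∈ T) (hR : R ∈ T) (hne : cm (P * Q) (P * R) ≠ 1) :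
    Tri T P Q R := by
  have hPP := h.sq (hT.mem h hP)
  refine ⟨hP, hQ, hR, fun e => hne ?_, fun e => hne ?_, fun e => hne ?_, fun e => hne ?_⟩
  · subst e; rw [hPP]; exact cm_eq_one (Commute.one_left _)
  · subst e; rw [hPP]; exact cm_eq_one (Commute.one_right _)
  · subst e; exact cm_eq_one (Commute.refl _)
  · have hR' : R = Q * P * Q := by rw [← h.cj_eq (hT.mem h hQ), e, h.cj_twice (hT.mem h hQ)]
    by_cases epq : P = Q
    · subst epq; rw [hPP]; exact cm_eq_one (Commute.one_left _)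
    refine cm_eq_one ?_
    have : P * R = (P * Q)⁻¹ := by
      rw [hR', ← h.cj_eq (hT.mem h hQ), ← h.braid (hT.mem h hP) (hT.mem h hQ) (hT.nc h hP hQ epq),
        h.cj_eq (hT.mem h hP), mul_inv_rev, h.inv (hT.mem h hP), h.inv (hT.mem h hQ),
        mul_assoc P Q P, ← mul_assoc P P, hPP, one_mul]
    rw [this]; exact (Commute.refl _).inv_right

theorem exists_tri {P Q : G} (hP : P ∈ T) (hQ : Q ∈ T) (hPQ : P ≠ Q) (h3 : 3 < T.ncard) :
    ∃ R, Tri T P Q R := by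
  by_contra hc
  push Not at hc
  have hsub : T ⊆ {P, Q, cj Q P} := fun R hR => by
    by_contra hn
    simp only [Set.mem_insert_iff, Set.mem_singleton_iff, not_or] at hn
    refine hc R ⟨hP, hQ, hR, hPQ, fun e => hn.1 e.symm, fun e => hn.2.1 e.symm, fun e => hn.2.2 ?_⟩
    rw [e, h.cj_twice (hT.mem h hQ)]
  have := Set.ncard_le_ncard hsub (Set.toFinite _)
  have h1 := Set.ncard_insert_le P {Q, cj Q P}
  have h2 := Set.ncard_insert_le Q {cj Q P}
  rw [Set.ncard_singleton] at h2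
  omega

/-- there are at most nine members -/
theorem ncard_le : T.ncard ≤ 9 := by
  by_contra hbig
  have h3 : 3 < T.ncard := by omega
  obtain ⟨P, hP⟩ := Set.nonempty_of_ncard_ne_zero (show T.ncard ≠ 0 by omega)
  have hPP := h.sq (hT.mem h hP)
  have hPi := h.inv (hT.mem h hP)
  haveI : Fact (Nat.Prime 3) := ⟨Nat.prime_three⟩
  obtain ⟨K0, hK0, hprod, -⟩ := Spor.local_width_one h.hyp.cls.1 (fun t ht => hT.mem h ht)
    (fun t ht u hu => by have := hT.closed t ht u hu; rwa [h.cj_eq (hT.mem h ht)] at this) hT.thin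
  obtain ⟨K, hK⟩ : ∃ K : Subgroup G, K = Subgroup.closure ((fun q => P * q) '' T) := ⟨_, rfl⟩
  have hK3 : IsPGroup 3 K := hK0.to_le (hK ▸ (Subgroup.closure_le _).2 (by
    rintro _ ⟨q, hq, rfl⟩; exact hprod P hP q hq))
  have hgen : ∀ {q}, q ∈ T → P * q ∈ K := fun {q} hq => hK ▸ Subgroup.subset_closure ⟨q, hq, rfl⟩
  have hstab : ∀ k ∈ K, cj k P ∈ T := by
    have hle : K ≤ Subgroup.normalizer T := hK ▸ (Subgroup.closure_le _).2 (by
      rintro _ ⟨q, hq, rfl⟩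
      rw [SetLike.mem_coe, Subgroup.mem_set_normalizer_iff]
      intro n
      show n ∈ T ↔ cj (P * q) n ∈ T
      rw [cj_mul]
      refine ⟨fun hn => hT.closed P hP _ (hT.closed q hq n hn), fun hn => ?_⟩
      have := hT.closed q hq _ (hT.closed P hP _ hn)
      rwa [h.cj_twice (hT.mem h hP), h.cj_twice (hT.mem h hq)] at this)
    exact fun k hk => (Subgroup.mem_set_normalizer_iff.1 (hle hk) P).1 hP
  have hPK : ∀ k ∈ K, cj P k ∈ K := by
    intro k hk
    rw [hK] at hk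
    induction hk using Subgroup.closure_induction with
    | mem g hg =>
      obtain ⟨q, hq, rfl⟩ := hg
      rw [show cj P (P * q) = (P * q)⁻¹ by
        rw [h.cj_eq (hT.mem h hP), mul_inv_rev, hPi, h.inv (hT.mem h hq), ← mul_assoc, hPP, one_mul]]
      exact inv_mem (hgen hq)
    | one => rw [show cj P (1 : G) = 1 by simp [cj]]; exact one_mem _
    | mul p r _ _ hp hr => rw [show cj P (p * r) = cj P p * cj P r by simp only [cj]; group]; exact mul_mem hp hr
    | inv p _ hp => rw [show cj P p⁻¹ = (cj P p)⁻¹ by simp only [cj]; group]; exact inv_mem hp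
  obtain ⟨Z, hZ⟩ : ∃ Z : G → Prop, ∀ z, Z z ↔ z ∈ K ∧ ∀ k ∈ K, Commute z k := ⟨_, fun z => Iff.rfl⟩
  have hZP : ∀ z, Z z → Z (cj P z) := fun z hz => by
    rw [hZ] at hz ⊢
    refine ⟨hPK z hz.1, fun k hk => ?_⟩
    rw [h.cj_commute_iff (hT.mem h hP)]
    exact hz.2 _ (hPK k hk)
  have hfix : ∀ z, Z z → Commute z P := by
    intro z hz
    have hzK := ((hZ z).1 hz).1
    by_contra hne
    have hne' : P ≠ cj z P := fun e => hne (commute_of_cj e.symm)
    obtain ⟨R, t⟩ := hT.exists_tri h hP (hstab z hzK) hne' h3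
    refine hT.cm_ne_one h t (cm_eq_one ?_)
    have e : P * cj z P = cj P z * z⁻¹ := by simp only [cj, hPi]; group
    rw [e]
    exact ((hZ _).1 (hZP z hz)).2 _ (hgen t.hR) |>.mul_left ((((hZ z).1 hz).2 _ (hgen t.hR)).inv_left)
  -- a member of the second centre
  obtain ⟨a, haK, haZ, hS⟩ : ∃ a ∈ K, ¬ Z a ∧ ∀ w ∈ K, Z (cm a w) := by
    have hnc : ∃ k ∈ K, ¬ Z k := by
      obtain ⟨q, hq, hne⟩ : ∃ q ∈ T, q ≠ P := by
        by_contra hc
        push Not at hc
        have := Set.ncard_le_ncard (show T ⊆ {P} from fun q hq => hc q hq) (Set.toFinite _)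
        rw [Set.ncard_singleton] at this
        omega
      refine ⟨P * q, hgen hq, fun hz => hne ((hT.thin P hP q hq ?_).symm)⟩
      have c := hfix _ hz
      show P * q = q * P
      have e : P * q * P = P * (P * q) := c.eq
      exact mul_left_cancel (by rw [← e, ← mul_assoc, mul_assoc])
    obtain ⟨k, hk, hkZ⟩ := hnc
    have hmem : ∀ w : K, w ∈ Subgroup.center K ↔ Z w := fun w => by
      rw [hZ, Subgroup.mem_center_iff]
      exact ⟨fun hc => ⟨w.2, fun k' hk' => (congrArg Subtype.val (hc ⟨k', hk'⟩)).symm⟩,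
        fun hc g => Subtype.ext (hc.2 g g.2).symm.eq⟩
    haveI : Nontrivial (K ⧸ Subgroup.center K) := ⟨QuotientGroup.mk ⟨k, hk⟩, 1, fun e =>
      hkZ ((hmem _).1 ((QuotientGroup.eq_one_iff _).1 e))⟩
    haveI := (hK3.to_quotient (Subgroup.center K)).center_nontrivial
    obtain ⟨⟨c, hc⟩, hc1⟩ := exists_ne (1 : Subgroup.center (K ⧸ Subgroup.center K))
    obtain ⟨⟨a, ha⟩, rfl⟩ := QuotientGroup.mk_surjective c
    refine ⟨a, ha, fun hz => hc1 (Subtype.ext ((QuotientGroup.eq_one_iff _).2 ((hmem ⟨a, ha⟩).2 hz))),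
      fun w hw => ?_⟩
    suffices e : (⟨w, hw⟩ * ⟨a, ha⟩ * ⟨w, hw⟩⁻¹ * ⟨a, ha⟩⁻¹ : K) ∈ Subgroup.center K from (hmem _).1 e
    rw [← QuotientGroup.eq_one_iff, QuotientGroup.mk_mul, QuotientGroup.mk_mul, QuotientGroup.mk_mul,
      QuotientGroup.mk_inv, QuotientGroup.mk_inv, Subgroup.mem_center_iff.1 hc]
    group
  -- inverted by `P`
  obtain ⟨Q, hQd⟩ : ∃ Q, Q = cj a P := ⟨_, rfl⟩
  have hQ : Q ∈ T := hQd ▸ hstab a haK
  have hPQ : P ≠ Q := by
    intro e
    have haP : cj P a = a := cj_fix (commute_of_cj (hQd.symm.trans e.symm)).symm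
    refine haZ ((hZ a).2 ⟨haK, fun k hk => ?_⟩)
    rw [hK] at hk
    induction hk using Subgroup.closure_induction with
    | one => exact Commute.one_right _
    | mul p r _ _ hp hr => exact hp.mul_right hr
    | inv p _ hp => exact hp.inv_right
    | mem g hg =>
      obtain ⟨q, hq, rfl⟩ := hg
      have hz := hS _ (hgen hq)
      obtain ⟨z, hzd⟩ : ∃ z, z = cm a (P * q) := ⟨_, rfl⟩
      rw [← hzd] at hz
      have hzc := ((hZ z).1 hz).2 _ (hgen hq)
      have hqi : cj P (P * q) = (P * q)⁻¹ := by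
        rw [h.cj_eq (hT.mem h hP), mul_inv_rev, hPi, h.inv (hT.mem h hq), ← mul_assoc, hPP, one_mul]
      have e1 : cj P z = cm a (P * q)⁻¹ := by
        rw [← hqi]; conv_rhs => rw [← haP]
        rw [hzd]; simp only [cm, cj]; group
      rw [cj_fix (hfix z hz).symm] at e1
      have e2 : cm a (P * q)⁻¹ = z⁻¹ := by
        obtain ⟨v, hv⟩ : ∃ v, v = P * q := ⟨_, rfl⟩
        rw [← hv] at hzd hzc ⊢
        have e3 : v * a * v⁻¹ = z * a := by rw [hzd, cm]; group
        calc cm a v⁻¹ = v⁻¹ * (z⁻¹ * (z * a)) * v * a⁻¹ := by rw [cm]; group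
          _ = z⁻¹ * (v⁻¹ * (v * a * v⁻¹) * v) * a⁻¹ := by
            rw [e3]
            rw [← mul_assoc v⁻¹ z⁻¹, ← (hzc.inv_left.inv_right).eq]; group
          _ = z⁻¹ := by group
      have hz2 : z ^ 2 = 1 := by rw [pow_two]; nth_rw 1 [e1.trans e2]; exact inv_mul_cancel z
      have hz1 := Spor.eq_one_of_pow_two_pgroup hK3 ((hZ z).1 hz).1 hz2
      rw [hzd, cm, mul_inv_eq_one, mul_inv_eq_iff_eq_mul] at hz1
      exact hz1.symm
  obtain ⟨u, hu⟩ : ∃ u, u = P * Q := ⟨_, rfl⟩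
  have hmulZ : ∀ {p r}, Z p → Z r → Z (p * r) := fun {p r} hp hr => by
    rw [hZ] at hp hr ⊢
    exact ⟨mul_mem hp.1 hr.1, fun k hk => (hp.2 k hk).mul_left (hr.2 k hk)⟩
  have hinvZ : ∀ {p}, Z p → Z p⁻¹ := fun {p} hp => by
    rw [hZ] at hp ⊢
    exact ⟨inv_mem hp.1, fun k hk => (hp.2 k hk).inv_left⟩
  have huS : ∀ w ∈ K, Z (cm u w) := by
    intro w hw
    have h1 := hS w hw
    have h2 := hZP _ (hS _ (hPK w hw))
    have e : u = cj P a * a⁻¹ := by rw [hu, hQd]; simp only [cj, hPi]; group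
    have e1 : cj P (cm a (cj P w)) = cm (cj P a) w := by
      conv_rhs => rw [← h.cj_twice (hT.mem h hP) w]
      simp only [cm, cj]; group
    rw [e1] at h2
    have e2 : cm (cj P a * a⁻¹) w = cm (cj P a) w * (cm a w)⁻¹ := by
      obtain ⟨b, hb⟩ : ∃ b, b = cj P a := ⟨_, rfl⟩
      have hbK : b ∈ K := hb ▸ hPK a haK
      rw [← hb]
      have hc := ((hZ _).1 (hinvZ h1)).2 (b * a⁻¹) (mul_mem hbK (inv_mem haK))
      calc cm (b * a⁻¹) w = w * b * w⁻¹ * (w * a⁻¹ * w⁻¹) * (a * b⁻¹) := by rw [cm]; group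
        _ = cm b w * (b * a⁻¹ * (cm a w)⁻¹ * a * b⁻¹) := by simp only [cm]; group
        _ = cm b w * (cm a w)⁻¹ := by rw [← hc.eq]; group
    rw [e, e2]
    exact hmulZ h2 (hinvZ h1)
  obtain ⟨φ, hφ⟩ : ∃ φ : G → G, ∀ R, φ R = cm u (P * R) := ⟨_, fun _ => rfl⟩
  have hφZ : ∀ {R}, R ∈ T → Z (φ R) := fun {R} hR => hφ R ▸ huS _ (hgen hR)
  have hmulφ : ∀ v ∈ K, ∀ w ∈ K, cm u (v * w) = cm u v * cm u w := by
    intro v hv w hw
    have hc := ((hZ _).1 (huS w hw)).2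
    calc cm u (v * w) = v * cm u w * (u * v⁻¹ * u⁻¹) := by simp only [cm]; group
      _ = cm u w * cm u v := by rw [← (hc v hv).eq]; simp only [cm]; group
      _ = _ := (((hZ _).1 (huS w hw)).2 _ ((hZ _).1 (huS v hv)).1).eq
  have hrefl : ∀ R ∈ T, ∀ S ∈ T, cj R (cj P S) ∈ T ∧ φ (cj R (cj P S)) = φ R * φ R * φ S := by
    intro R hR S hS'
    refine ⟨hT.closed R hR _ (hT.closed P hP S hS'), ?_⟩
    have e : P * cj R (cj P S) = P * R * (P * S) * (P * R) := by
      rw [h.cj_eq (hT.mem h hR), h.cj_eq (hT.mem h hP)]; group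
    rw [hφ, e, hmulφ _ (mul_mem (hgen hR) (hgen hS')) _ (hgen hR), hmulφ _ (hgen hR) _ (hgen hS'),
      ← hφ, ← hφ, mul_assoc, ← (((hZ _).1 (hφZ hR)).2 _ ((hZ _).1 (hφZ hS')).1).eq, ← mul_assoc]
  have htri : ∀ {R}, R ∈ T → φ R ≠ 1 → Tri T P Q R := fun {R} hR hne =>
    hT.tri_of_ne h hP hQ hR (by rw [← hu, ← hφ]; exact hne)
  have hcube : ∀ {R}, R ∈ T → φ R * φ R * φ R = 1 := fun {R} hR => by
    have := (hT.cm_props h hP hQ hR).2
    rw [← hu, ← hφ, pow_succ, pow_two] at this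
    exact this
  obtain ⟨R₀, t₀⟩ := hT.exists_tri h hP hQ hPQ h3
  obtain ⟨c, hc⟩ : ∃ c, c = φ R₀ := ⟨_, rfl⟩
  have hc1 : c ≠ 1 := by rw [hc, hφ, hu]; exact hT.cm_ne_one h t₀
  obtain ⟨R', hR', hout⟩ : ∃ R' ∈ T, φ R' ≠ 1 ∧ φ R' ≠ c ∧ φ R' ≠ c * c := by
    by_contra hno
    push Not at hno
    obtain ⟨F, hF⟩ : ∃ F : G → Set G, ∀ b, F b = {R | R ∈ T ∧ φ R = b} := ⟨_, fun _ => rfl⟩
    have hcov : T ⊆ F 1 ∪ F c ∪ F (c * c) := fun R hR => by
      simp only [hF, Set.mem_union, Set.mem_setOf_eq]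
      by_cases e1 : φ R = 1
      · exact Or.inl (Or.inl ⟨hR, e1⟩)
      by_cases e2 : φ R = c
      · exact Or.inl (Or.inr ⟨hR, e2⟩)
      exact Or.inr ⟨hR, hno R hR e1 e2⟩
    have hmap : ∀ b b', c * c * b = b' → (F b).ncard ≤ (F b').ncard := fun b b' e => by
      refine Set.ncard_le_ncard_of_injOn (fun S => cj R₀ (cj P S)) (fun S hS' => ?_)
        (fun S _ S' _ e' => cj_inj (cj_inj e')) (Set.toFinite _)
      rw [hF] at hS' ⊢
      have := hrefl R₀ t₀.hR S hS'.1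
      exact ⟨this.1, by rw [this.2, ← hc, hS'.2, e]⟩
    have hccc : c * c * c = 1 := hc ▸ hcube t₀.hR
    have h1 : (F 1).ncard ≤ 3 := by
      refine (Set.ncard_le_ncard (t := {P, Q, cj Q P}) (fun R hR => ?_) (Set.toFinite _)).trans ?_
      · rw [hF] at hR
        by_contra hn
        simp only [Set.mem_insert_iff, Set.mem_singleton_iff, not_or] at hn
        refine hT.cm_ne_one h (P := P) (Q := Q) (R := R) ⟨hP, hQ, hR.1, hPQ, fun e => hn.1 e.symm,
          fun e => hn.2.1 e.symm, fun e => hn.2.2 (by rw [e, h.cj_twice (hT.mem h hQ)])⟩ ?_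
        rw [← hu, ← hφ]; exact hR.2
      · have h1 := Set.ncard_insert_le P {Q, cj Q P}
        have h2 := Set.ncard_insert_le Q {cj Q P}
        rw [Set.ncard_singleton] at h2
        omega
    have h2 := hmap c 1 hccc
    have h4 := hmap (c * c) c (by rw [← mul_assoc, hccc, one_mul])
    have h5 := (Set.ncard_le_ncard hcov (Set.toFinite _)).trans
      ((Set.ncard_union_le _ _).trans (Nat.add_le_add_right (Set.ncard_union_le _ _) _))
    omega
  obtain ⟨d, hd⟩ : ∃ d, d = φ R' := ⟨_, rfl⟩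
  rw [← hd] at hout
  -- the two commutators and their products
  have hsq : ∀ {R}, R ∈ T → ∃ S ∈ T, φ S = φ R * φ R := fun {R} hR => by
    have := hrefl R hR P hP
    refine ⟨_, this.1, ?_⟩
    rw [this.2, hφ P, hPP, cm_eq_one (Commute.one_right _), mul_one]
  have hprod : ∀ {R S}, R ∈ T → S ∈ T → ∃ U ∈ T, φ U = φ R * φ S := fun {R S} hR hS' => by
    obtain ⟨R2, hR2, e2⟩ := hsq hR
    refine ⟨_, (hrefl R2 hR2 S hS').1, ?_⟩
    rw [(hrefl R2 hR2 S hS').2, e2]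
    congr 1
    calc φ R * φ R * (φ R * φ R) = φ R * φ R * φ R * φ R := by group
      _ = φ R := by rw [hcube hR, one_mul]
  obtain ⟨C2, hC2, eC2⟩ := hsq t₀.hR
  obtain ⟨M3, hM3, eM3⟩ := hprod t₀.hR hR'
  obtain ⟨M4, hM4, eM4⟩ := hprod hC2 hR'
  rw [← hc] at eC2 eM3
  rw [eC2] at eM4
  rw [← hd] at eM3 eM4
  have hccc : c * c * c = 1 := hc ▸ hcube t₀.hR
  have hddd : d * d * d = 1 := hd ▸ hcube hR'
  have hcd : Commute c d := hc ▸ hd ▸ ((hZ _).1 (hφZ t₀.hR)).2 _ ((hZ _).1 (hφZ hR')).1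
  have hne3 : φ M3 ≠ 1 := by
    rw [eM3]; intro e
    refine hout.2.2 ?_
    calc d = c * c * c * d := by rw [hccc, one_mul]
      _ = c * c * (c * d) := by group
      _ = c * c := by rw [e, mul_one]
  have hne4 : φ M4 ≠ 1 := by
    rw [eM4]; intro e
    refine hout.2.1 ?_
    calc d = c * c * c * d := by rw [hccc, one_mul]
      _ = c * (c * c * d) := by group
      _ = c := by rw [e, mul_one]
  -- every translation fixes `P`
  have hPc := hT.sub hP
  have hQc := hT.sub hQ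
  have hPQn := hT.nc h hP hQ hPQ
  have hnorm : ∀ {R}, R ∈ T → φ R ≠ 1 → ∀ e ∈ tw D x Q,
      e * cj (φ R) e * cj (φ R * φ R) e ∈ tw D x Q ∧ cj (e * cj (φ R) e * cj (φ R * φ R) e) P = P := by
    intro R hR hne e he
    obtain ⟨g, hg⟩ : ∃ g, g = φ R := ⟨_, rfl⟩
    have hgd : g = cm (P * Q) (P * R) := by rw [hg, hφ, hu]
    have hp := hT.cm_props h hP hQ hR
    rw [← hgd] at hp
    have hgx : cj g x = x := hgd ▸ hT.cm_cj_x h hP hQ hR
    have h3' : g * g * g = 1 := hg ▸ hcube hR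
    rw [← hg]
    have m1 := h.tw_conj hgx (cj_fix hp.1.2.1) he
    have m2 := h.tw_conj hgx (cj_fix hp.1.2.1) m1
    rw [← cj_mul] at m2
    refine ⟨mul_mem (mul_mem he m1) m2, hT.fpf h (htri hR hne) ?_ ?_⟩
    · exact h.tw_cls hT.hx hT.hy hT.hxy hPc hQc hPQn (mul_mem (mul_mem he m1) m2) P (h.self_cls hPc.1)
    · rw [← hgd]
      have e2 : cj g (cj (e * cj g e * cj (g * g) e) P) =
          cj (cj g (e * cj g e * cj (g * g) e)) (cj g P) := (cj_cj _ _ _).symm
      rw [e2, cj_fix hp.1.1]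
      congr 1
      have e3 : cj g (e * cj g e * cj (g * g) e) = cj g e * cj (g * g) e * cj (g * g * g) e := by
        simp only [cj]; group
      rw [e3, h3', cj_one]
      exact (h.tw_comm hT.hx hQc.1 he (mul_mem m1 m2)).eq.symm.trans (mul_assoc _ _ _).symm
  have hdx : cj d x = x := by rw [hd, hφ, hu]; exact hT.cm_cj_x h hP hQ hR'
  have hdp := hT.cm_props h hP hQ hR'
  rw [← hu, ← hφ, ← hd] at hdp
  have hfixall : ∀ e ∈ tw D x Q, cj e P = P := by
    intro e he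
    have n1 := hnorm t₀.hR (hc ▸ hc1) e he
    have n2 := hnorm hR' (hd ▸ hout.1) e he
    have n3 := hnorm hM3 hne3 e he
    have n4 := hnorm hM4 hne4 e he
    rw [← hc] at n1
    rw [← hd] at n2
    rw [eM3] at n3
    rw [eM4] at n4
    obtain ⟨w, hw⟩ : ∃ w, w = e * cj c e * cj (c * c) e := ⟨_, rfl⟩
    rw [← hw] at n1
    have n5 : ∀ g, cj g x = x → cj g Q = Q → cj g P = P → cj g w ∈ tw D x Q ∧ cj (cj g w) P = P :=
      fun g g1 g2 g3 => ⟨h.tw_conj g1 g2 n1.1, by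
        conv_lhs => rw [← g3]
        rw [cj_cj, n1.2, g3]⟩
    have n6 := n5 d hdx (cj_fix hdp.1.2.1) (cj_fix hdp.1.1)
    have n7 := n5 (d * d) (by rw [cj_mul, hdx, hdx])
      (by rw [cj_mul, cj_fix hdp.1.2.1, cj_fix hdp.1.2.1]) (by rw [cj_mul, cj_fix hdp.1.1, cj_fix hdp.1.1])
    obtain ⟨A, hA⟩ : ∃ A, A = tw D x Q := ⟨_, rfl⟩
    letI : CommGroup A := { (inferInstance : Group A) with
      mul_comm := fun p q => Subtype.ext (h.tw_comm hT.hx hQc.1 (hA ▸ p.2) (hA ▸ q.2)).eq }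
    obtain ⟨cdq, hcdq⟩ : ∃ g, g = c * d * (c * d) := ⟨_, rfl⟩
    obtain ⟨ccdq, hccdq⟩ : ∃ g, g = c * c * d * (c * c * d) := ⟨_, rfl⟩
    have ecd : cdq = c * c * (d * d) := by
      rw [hcdq]; calc c * d * (c * d) = c * (d * c) * d := by group
        _ = _ := by rw [← hcd.eq]; group
    have eccd : ccdq = c * (d * d) := by
      rw [hccdq]
      calc c * c * d * (c * c * d) = c * c * (d * (c * c)) * d := by group
        _ = c * c * c * (c * (d * d)) := by rw [← (hcd.mul_left hcd).eq]; group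
        _ = _ := by rw [hccc, one_mul]
    have e6 : cj d w = cj d e * cj (c * d) e * cj (c * c * d) e := by
      rw [hcd.eq, (hcd.mul_left hcd).eq, hw, cj_mul, cj_mul d (c * c)]
      simp only [cj]; group
    have hdd : Commute c (d * d) := hcd.mul_right hcd
    have e7 : cj (d * d) w = cj (d * d) e * cj ccdq e * cj cdq e := by
      rw [eccd, ecd, hdd.eq, (hdd.mul_left hdd).eq, hw, cj_mul (d * d) c, cj_mul (d * d) (c * c)]
      simp only [cj]; group
    rw [← hcdq] at n3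
    rw [← hccdq] at n4
    rw [e6] at n6
    rw [e7] at n7
    have mem : ∀ g, cj g x = x → cj g Q = Q → cj g e ∈ A := fun g g1 g2 => hA ▸ h.tw_conj g1 g2 he
    have hcx : cj c x = x := by rw [hc, hφ, hu]; exact hT.cm_cj_x h hP hQ t₀.hR
    have hcp := hT.cm_props h hP hQ t₀.hR
    rw [← hu, ← hφ, ← hc] at hcp
    have hcQ := cj_fix hcp.1.2.1
    have hdQ := cj_fix hdp.1.2.1
    have m1 := mem d hdx hdQ
    have m2 := mem (d * d) (by rw [cj_mul, hdx, hdx]) (by rw [cj_mul, hdQ, hdQ])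
    have m3 := mem (c * d) (by rw [cj_mul, hdx, hcx]) (by rw [cj_mul, hdQ, hcQ])
    have m4 := mem cdq (by simp only [hcdq, cj_mul, hdx, hcx]) (by simp only [hcdq, cj_mul, hdQ, hcQ])
    have m5 := mem (c * c * d) (by rw [cj_mul, cj_mul, hdx, hcx, hcx]) (by rw [cj_mul, cj_mul, hdQ, hcQ, hcQ])
    have m6 := mem ccdq (by simp only [hccdq, cj_mul, hdx, hcx]) (by simp only [hccdq, cj_mul, hdQ, hcQ])
    have key : ∀ p q r s k l m : A, (∀ z : A, z * z = 1) →
        (m * p * q) * (m * r * s) * (m * k * l) * (p * r * k) * (q * l * s) = m := by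
      intro p q r s k l m hsq'
      have : (m * p * q) * (m * r * s) * (m * k * l) * (p * r * k) * (q * l * s) =
          m * (m * m) * (p * p) * (q * q) * (r * r) * (s * s) * (k * k) * (l * l) := by
        simp only [mul_comm, mul_left_comm, mul_assoc]
      rw [this]; simp only [hsq', mul_one]
    have := congrArg Subtype.val (key ⟨_, m1⟩ ⟨_, m2⟩ ⟨_, m3⟩ ⟨_, m4⟩ ⟨_, m5⟩ ⟨_, m6⟩ ⟨e, hA ▸ he⟩
      fun z => Subtype.ext (h.tw_sq hT.hx hQc.1 (hA ▸ z.2)))
    simp only [Subgroup.coe_mul] at this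
    rw [← this]
    simp only [cj_mul] at n2 n3 n4 n6 n7 ⊢
    rw [n7.2, n6.2, n4.2, n3.2, n2.2]
  obtain ⟨b, hb, hbne⟩ := h.exists_other hT.hx hPc.1
  obtain ⟨e, he, heb⟩ := h.tw_trans hT.hx hT.hy hT.hxy hPc hQc hPQn hb
  exact hbne (heb.symm.trans (hfixall e he))

end Thin

end Cfsg.Agent.Fischer.Twin
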